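import Cfsg.Agent.H45.CoprimeTrans.Regular
import Cfsg.Prelude.Def_Perm

/-!
The reduced group of dimension one is the affine group of the prime field.
-/

set_option autoImplicit false
set_option linter.style.haveILetI false
set_option linter.unusedSectionVars false

namespace Cfsg.Agent.H45.CoprimeTrans

universe u

open Subgroup Cfsg

variable {p : ℕ} [hp : Fact p.Prime] {G : Type u} [Group G] [Finite G] {V E : Subgroup G}

theorem affine_card_le : Nat.card ↥(affineGroup (ZMod p)) ≤ (p - 1) * p := by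
  classical
  choose a b hab using fun σ : ↥(affineGroup (ZMod p)) => σ.2
  refine (Nat.card_le_card_of_injective (fun σ => (a σ, b σ)) fun σ τ h => ?_).trans (le_of_eq ?_)
  · refine Subtype.ext (Equiv.ext fun x => ?_)
    have ha : a σ = a τ := congrArg Prod.fst h
    have hb : b σ = b τ := congrArg Prod.snd h
    rw [hab, hab, ha, hb]
  · rw [Nat.card_prod, Nat.card_units, Nat.card_zmod]

theorem RedData.nonempty_affine (h : RedData p V E) (hV : Nat.card V = p)
    (hE : Nat.card E = p - 1) : Nonempty (G ≃* ↥(affineGroup (ZMod p))) := by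
  classical
  haveI := h.normal
  haveI : IsCyclic V := isCyclic_of_prime_card hV
  let φ : Multiplicative (ZMod p) ≃* V :=
    (MulEquiv.ofBijective
      ((zmodCyclicMulEquiv (inferInstance : IsCyclic V)).toMonoidHom.comp
        (AddEquiv.toMultiplicative (ZMod.ringEquivCongr hV.symm).toAddEquiv).toMonoidHom)
      ((zmodCyclicMulEquiv (inferInstance : IsCyclic V)).bijective.comp
        (AddEquiv.toMultiplicative (ZMod.ringEquivCongr hV.symm).toAddEquiv).bijective))
  let ι : ZMod p → G := fun x => (φ (Multiplicative.ofAdd x) : V)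
  have hιadd : ∀ x y, ι (x + y) = ι x * ι y := fun x y => by
    simp only [ι, ofAdd_add, map_mul, Subgroup.coe_mul]
  have hιmem : ∀ x, ι x ∈ V := fun x => (φ (Multiplicative.ofAdd x)).2
  have hbij : Function.Bijective fun x : ZMod p => (QuotientGroup.mk (ι x) : G ⧸ E) := by
    refine (Nat.bijective_iff_injective_and_card _).2 ⟨fun x y hxy => ?_, ?_⟩
    · have h1 : (ι x)⁻¹ * ι y = 1 := Subgroup.disjoint_def.1 h.compl.disjoint
        (mul_mem (inv_mem (hιmem x)) (hιmem y)) (QuotientGroup.eq.1 hxy)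
      have h2 : φ (Multiplicative.ofAdd x) = φ (Multiplicative.ofAdd y) :=
        Subtype.ext (inv_mul_eq_one.1 h1)
      simpa using φ.injective h2
    · rw [Nat.card_zmod, ← Subgroup.index_eq_card, h.compl.index_eq_card, hV]
  let e₀ : ZMod p ≃ G ⧸ E := Equiv.ofBijective _ hbij
  let Φ : G →* Equiv.Perm (ZMod p) :=
    (e₀.symm.permCongrHom).toMonoidHom.comp (MulAction.toPermHom G (G ⧸ E))
  have hΦ : ∀ g x, e₀ (Φ g x) = g • e₀ x := fun g x => by simp [Φ]
  have hmem : ∀ g, Φ g ∈ affineGroup (ZMod p) := by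
    intro g
    obtain ⟨⟨⟨w, hw⟩, ⟨e, he⟩⟩, hwe⟩ := h.compl.2 g
    simp only at hwe
    obtain ⟨bm, hbm⟩ := φ.surjective ⟨w, hw⟩
    obtain ⟨χm, hχm⟩ := φ.surjective ⟨e * ι 1 * e⁻¹, h.normal.conj_mem _ (hιmem 1) e⟩
    have hc0 : Multiplicative.toAdd χm ≠ 0 := by
      intro h0
      have h1 : e * ι 1 * e⁻¹ = 1 := by
        have h2 := congrArg Subtype.val hχm
        rw [show χm = 1 from h0, map_one, Subgroup.coe_one] at h2
        exact h2.symm
      have h3 : φ (Multiplicative.ofAdd (1 : ZMod p)) = 1 :=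
        Subtype.ext (conj_eq_one_iff.1 h1)
      rw [φ.map_eq_one_iff] at h3
      exact one_ne_zero (α := ZMod p) h3
    refine ⟨Units.mk0 _ hc0, Multiplicative.toAdd bm, fun x => e₀.injective ?_⟩
    rw [hΦ]
    show (QuotientGroup.mk (g * ι x) : G ⧸ E) = QuotientGroup.mk (ι _)
    have hconj : ∀ m : ℕ, e * ι m * e⁻¹ = ι (Multiplicative.toAdd χm * m) := by
      intro m
      induction m with
      | zero =>
        simp only [Nat.cast_zero, mul_zero]
        rw [show ι 0 = 1 by simp [ι]]
        group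
      | succ m ih =>
        rw [Nat.cast_succ, mul_add, mul_one, hιadd, hιadd, ← ih,
          show ι (Multiplicative.toAdd χm) = e * ι 1 * e⁻¹ from congrArg Subtype.val hχm]
        group
    obtain ⟨m, rfl⟩ := ZMod.natCast_zmod_surjective x
    rw [Units.val_mk0, add_comm, hιadd, show ι (Multiplicative.toAdd bm) = w from congrArg Subtype.val hbm,
      ← hconj, QuotientGroup.eq, ← hwe, show (w * e * ι m)⁻¹ * (w * (e * ι m * e⁻¹)) = e⁻¹ by group]
    exact inv_mem he
  have hinj : Function.Injective Φ := by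
    refine (injective_iff_map_eq_one Φ).2 fun g hg => ?_
    have hmemE : ∀ x, (ι x)⁻¹ * g * ι x ∈ E := fun x => by
      have h1 := hΦ g x
      rw [hg, Equiv.Perm.one_apply] at h1
      have h2 : (QuotientGroup.mk (ι x) : G ⧸ E) = QuotientGroup.mk (g * ι x) := h1
      rw [QuotientGroup.eq] at h2
      rwa [mul_assoc]
    have hgE : g ∈ E := by
      have h0 := hmemE 0
      rwa [show ι 0 = 1 by simp [ι], inv_one, one_mul, mul_one] at h0
    refine h.faith g hgE fun v hv => ?_
    obtain ⟨xm, hxm⟩ := φ.surjective ⟨v, hv⟩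
    have hv' : ι (Multiplicative.toAdd xm) = v := congrArg Subtype.val hxm
    have h1 := hmemE (Multiplicative.toAdd xm)
    rw [hv'] at h1
    have h2 : g⁻¹ * (v⁻¹ * g * v) = 1 := by
      refine Subgroup.disjoint_def.1 h.compl.disjoint ?_ (mul_mem (inv_mem hgE) h1)
      rw [show g⁻¹ * (v⁻¹ * g * v) = g⁻¹ * v⁻¹ * g * v by group]
      refine mul_mem ?_ hv
      simpa using h.normal.conj_mem v⁻¹ (inv_mem hv) g⁻¹
    rw [inv_mul_eq_one] at h2
    have h3 : v * g = g * v :=
      calc v * g = v * (v⁻¹ * g * v) := by rw [← h2]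
        _ = g * v := by group
    exact mul_inv_eq_iff_eq_mul.2 h3.symm
  let Ψ : G →* ↥(affineGroup (ZMod p)) := Φ.codRestrict _ hmem
  have hΨ : Function.Injective Ψ := fun a b hab => hinj (congrArg Subtype.val hab)
  have hG : Nat.card G = (p - 1) * p := by
    rw [← h.compl.card_mul, hV, hE, mul_comm]
  exact ⟨MulEquiv.ofBijective Ψ ((Nat.bijective_iff_injective_and_card _).2
    ⟨hΨ, le_antisymm (Nat.card_le_card_of_injective _ hΨ) (hG ▸ affine_card_le)⟩)⟩

end Cfsg.Agent.H45.CoprimeTrans
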