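import Cfsg.Agent.H45.CoprimeTrans.Master

/-!
The bounds for a complement acting by conjugation on a normal elementary abelian subgroup.
-/

set_option autoImplicit false
set_option linter.style.haveILetI false
set_option linter.unusedSectionVars false

namespace Cfsg.Agent.H45.CoprimeTrans

open MulAction Module

universe u

variable {p : ℕ} [hp : Fact p.Prime]

theorem group_bounds {X : Type u} [Group X] [Finite X] (V : Subgroup X) [V.Normal]
    (hexp : ∀ v ∈ V, v ^ p = 1) (hab : ∀ a ∈ V, ∀ b ∈ V, a * b = b * a) (hV : V ≠ ⊥)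
    (E : Subgroup X) (hE : ¬ p ∣ Nat.card E)
    (hfaith : ∀ e ∈ E, (∀ v ∈ V, e * v * e⁻¹ = v) → e = 1)
    (ht : ∀ v ∈ V, ∀ w ∈ V, v ≠ 1 → w ≠ 1 → ∃ g ∈ E, g * v * g⁻¹ = w) :
    (p ≤ Nat.card (ConjClasses E) ∨
      (Nat.card V = p ∧ IsCyclic E ∧ Nat.card E = p - 1 ∧ Nat.card (ConjClasses E) = p - 1) ∨
      (p = 11 ∧ Nat.card V = 121 ∧ Nat.card (ConjClasses E) = 9 ∧ Nat.card E = 120 ∧
        ¬ Group.IsSolvable E)) ∧
    (∃ v ∈ V, v ≠ 1 ∧
      (((∀ a ∈ E ⊓ Subgroup.centralizer ({v} : Set X), ∀ b ∈ E ⊓ Subgroup.centralizer ({v} : Set X),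
          a * b = b * a) ∧
        (IsCyclic E ∨ (Nat.card V = 8 ∧ Nat.card E = 21) ∨ (Nat.card V = 9 ∧ Nat.card E = 16) ∨
          Nat.card (ConjClasses E) +
            Nat.card (ConjClasses ↥(E ⊓ Subgroup.centralizer ({v} : Set X))) < Nat.card V)) ∨
        Nat.card (ConjClasses E) +
          Nat.card (ConjClasses ↥(E ⊓ Subgroup.centralizer ({v} : Set X))) < Nat.card V)) := by
  classical
  haveI : IsMulCommutative V := ⟨⟨fun a b => Subtype.ext (hab a a.2 b b.2)⟩⟩
  letI : CommGroup V := { (inferInstance : Group V) with mul_comm := mul_comm' }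
  haveI hmod : Module (ZMod p) (Additive V) := AddCommGroup.zmodModule fun x =>
    Additive.toMul.injective (Subtype.ext (show ((x.toMul : V) : X) ^ p = 1 from hexp _ x.toMul.2))
  let c : E →* MulAut V := MulAut.conjNormal.comp E.subtype
  letI : DistribMulAction E (Additive V) :=
    { smul := fun g x => Additive.ofMul (c g x.toMul)
      one_smul := fun x => by show Additive.ofMul (c 1 x.toMul) = x; simp
      mul_smul := fun g h x => by show Additive.ofMul (c (g * h) x.toMul) = _; rw [map_mul]; rfl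
      smul_zero := fun g => by show Additive.ofMul (c g 1) = 0; rw [map_one]; rfl
      smul_add := fun g x y => by
        show Additive.ofMul (c g (x.toMul * y.toMul)) = _
        rw [map_mul]; rfl }
  haveI : SMulCommClass E (ZMod p) (Additive V) := ⟨fun g a x =>
    ((DistribSMul.toAddMonoidHom (Additive V) g).toZModLinearMap p).map_smul a x⟩
  haveI : Module.Finite (ZMod p) (Additive V) := Module.Finite.of_finite
  have hsmul : ∀ (g : E) (x : Additive V),
      (((g • x).toMul : V) : X) = (g : X) * (x.toMul : V) * (g : X)⁻¹ := fun g x => rfl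
  haveI : FaithfulSMul E (Additive V) := ⟨fun {g h} hgh => by
    have h1 : ∀ w ∈ V, ((h⁻¹ * g : E) : X) * w * ((h⁻¹ * g : E) : X)⁻¹ = w := fun w hw => by
      have h2 := hgh (Additive.ofMul ⟨w, hw⟩)
      rw [← inv_smul_eq_iff, ← mul_smul] at h2
      exact (hsmul _ _).symm.trans (congrArg (fun z : Additive V => ((z.toMul : V) : X)) h2)
    have h3 := hfaith _ (h⁻¹ * g).2 h1
    exact (inv_mul_eq_one.1 (show h⁻¹ * g = 1 from Subtype.ext h3)).symm⟩
  have ht' : ∀ u w : Additive V, u ≠ 0 → w ≠ 0 → ∃ g : E, g • u = w := by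
    intro u w hu hw
    obtain ⟨g, hg, hgw⟩ := ht _ u.toMul.2 _ w.toMul.2
      (fun h => hu (Additive.toMul.injective (Subtype.ext h)))
      (fun h => hw (Additive.toMul.injective (Subtype.ext h)))
    exact ⟨⟨g, hg⟩, Additive.toMul.injective (Subtype.ext hgw)⟩
  set n := finrank (ZMod p) (Additive V) with hn
  have hcard : Nat.card V = p ^ n := by
    rw [← Nat.card_congr (Additive.ofMul (α := V)).symm, Module.natCard_eq_pow_finrank (K := ZMod p),
      Nat.card_zmod]
  have hn0 : 0 < n := Nat.pos_of_ne_zero fun h => hV (Subgroup.eq_bot_of_card_eq _ (by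
    rw [hcard, h, pow_zero]))
  refine ⟨?_, ?_⟩
  · rcases lower_bound (V := Additive V) hE hn0 ht' with h | ⟨h1, hc, hk⟩ | ⟨h11, h2, hk, hc, hns⟩
    · exact Or.inl h
    · exact Or.inr (Or.inl ⟨by rw [hcard, hn, h1, pow_one],
        isCyclic_of_comm_transitive hn0 (card_of_line h1 ht').1 ht', hc, hk⟩)
    · exact Or.inr (Or.inr ⟨h11, by rw [hcard, hn, h2, h11]; norm_num, hk, hc, hns⟩)
  obtain ⟨x, hx, hcases⟩ := upper_bound (V := Additive V) hE hn0 ht'
  set v : X := ((x.toMul : V) : X) with hv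
  have hmem : ∀ g : E, g ∈ stabilizer E x ↔ (g : X) ∈ Subgroup.centralizer ({v} : Set X) := fun g => by
    rw [mem_stabilizer_iff, Subgroup.mem_centralizer_singleton_iff, ← mul_inv_eq_iff_eq_mul]
    exact ⟨fun h => congrArg (fun z : Additive V => ((z.toMul : V) : X)) h,
      fun h => Additive.toMul.injective (Subtype.ext h)⟩
  let eq : stabilizer E x ≃* ↥(E ⊓ Subgroup.centralizer ({v} : Set X)) :=
    { toFun := fun g => ⟨((g : E) : X), (g : E).2, (hmem g).1 g.2⟩
      invFun := fun g => ⟨⟨(g : X), g.2.1⟩, (hmem _).2 g.2.2⟩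
      left_inv := fun g => rfl
      right_inv := fun g => rfl
      map_mul' := fun g h => rfl }
  refine ⟨v, x.toMul.2, fun h => hx (Additive.toMul.injective (Subtype.ext h)), ?_⟩
  rw [hcard, hn, card_conjClasses_congr eq]
  exact hcases.imp_left (And.imp_left fun hab' a ha b hb => congrArg Subtype.val
    (hab' ⟨a, ha.1⟩ ((hmem _).2 ha.2) ⟨b, hb.1⟩ ((hmem _).2 hb.2)))

end Cfsg.Agent.H45.CoprimeTrans
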