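import Cfsg.Agent.H45.CoprimeTrans.Exceptional
import Cfsg.Agent.S3360

/-!
Class numbers of semilinear transitive groups.
-/

set_option autoImplicit false
set_option linter.style.haveILetI false
set_option linter.unusedSectionVars false

namespace Cfsg.Agent.H45.CoprimeTrans

open MulAction Module

universe u

/-- `|X| k(X)` is the sum of the centraliser orders. -/
theorem sum_card_commute (X : Type u) [Group X] [Fintype X] :
    ∑ g : X, Nat.card {h : X // Commute g h} = Nat.card (ConjClasses X) * Nat.card X := by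
  rw [← card_comm_eq_card_conjClasses_mul_card X,
    Nat.card_congr (Equiv.subtypeProdEquivSigmaSubtype fun a b : X => Commute a b), Nat.card_sigma]

/-- A cyclic normal subgroup of index at most `n` on which everything else acts as a Frobenius power. -/
structure SemiData (p n : ℕ) {E : Type u} [Group E] (C : Subgroup E) : Prop where
  comm : ∀ a ∈ C, ∀ b ∈ C, a * b = b * a
  cyc : IsCyclic C
  dvd_pred : Nat.card C ∣ p ^ n - 1
  index_dvd : C.index ∣ n
  frob : ∀ g : E, g ∉ C → ∃ i, 0 < i ∧ i < n ∧ n ∣ i * C.index ∧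
    ∀ c ∈ C, g * c * g⁻¹ = c ^ (p ^ i)

variable {p n : ℕ} {E : Type u} [Group E] [Finite E] {C : Subgroup E}

/-- The fixed points in `C` of an element outside. -/
theorem SemiData.card_fixed_le (hp : p.Prime) (h : SemiData p n C) {g : E} (hg : g ∉ C) :
    Nat.card {c : C // Commute g c} ≤ p ^ (n / 2) - 1 ∧
      (¬ 2 ∣ Nat.card E → Nat.card {c : C // Commute g c} ≤ p ^ (n / 3) - 1) := by
  classical
  obtain ⟨i, hi0, hin, hdvd, hconj⟩ := h.frob g hg
  haveI := h.cyc
  haveI : Fintype C := Fintype.ofFinite C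
  set d := Nat.gcd i n with hd
  have hd0 : 0 < d := Nat.gcd_pos_of_pos_left _ hi0
  have hp2 := hp.two_le
  have h1p : 1 < p ^ d := Nat.one_lt_pow hd0.ne' hp2
  have hkey : ∀ c : C, Commute g c → c ^ (p ^ d - 1) = 1 := by
    intro c hc
    have h1 := hconj c c.2
    rw [hc.eq, mul_inv_cancel_right] at h1
    have h2 : c ^ (p ^ i - 1) = 1 := by
      refine Subtype.ext ?_
      have hsplit : (c : E) ^ p ^ i = (c : E) ^ (p ^ i - 1) * c := by
        rw [← pow_succ, Nat.sub_add_cancel (Nat.one_le_pow _ _ hp.pos)]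
      rw [hsplit, eq_comm, mul_eq_right] at h1
      rw [SubgroupClass.coe_pow, Subgroup.coe_one, h1]
    have h3 : c ^ (p ^ n - 1) = 1 := by
      obtain ⟨k, hk⟩ := h.dvd_pred
      rw [hk, pow_mul, pow_card_eq_one', one_pow]
    have := (pow_gcd_eq_one (m := p ^ i - 1) (n := p ^ n - 1)).2 ⟨h2, h3⟩
    rwa [Nat.pow_sub_one_gcd_pow_sub_one] at this
  have hle : Nat.card {c : C // Commute g c} ≤ p ^ d - 1 := by
    refine le_trans ?_ (IsCyclic.card_pow_eq_one_le (α := C) (n := p ^ d - 1) (by omega))
    rw [← Fintype.card_subtype, ← Nat.card_eq_fintype_card]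
    exact Nat.card_le_card_of_injective
      (fun c => (⟨c.1, hkey c.1 c.2⟩ : {c : C // c ^ (p ^ d - 1) = 1}))
      fun a b hab => Subtype.ext (congrArg (fun z : {c : C // c ^ (p ^ d - 1) = 1} => z.1) hab)
  obtain ⟨k, hk⟩ : d ∣ n := Nat.gcd_dvd_right i n
  obtain ⟨j, hj⟩ : d ∣ i := Nat.gcd_dvd_left i n
  have hcop : Nat.Coprime j k := by
    have h0 := Nat.gcd_mul_left d j k
    rw [← hj, ← hk, ← hd] at h0
    exact Nat.eq_of_mul_eq_mul_left hd0 (by rw [mul_one]; exact h0.symm)
  have hk2 : 2 ≤ k := by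
    by_contra hc
    have hdi := Nat.le_of_dvd hi0 ⟨j, hj⟩
    interval_cases k <;> omega
  have hkf : k ∣ C.index := by
    rw [hk, hj, mul_assoc] at hdvd
    exact hcop.symm.dvd_of_dvd_mul_left (Nat.dvd_of_mul_dvd_mul_left hd0 hdvd)
  refine ⟨hle.trans ?_, fun hodd => hle.trans ?_⟩
  · refine Nat.sub_le_sub_right (Nat.pow_le_pow_right hp.pos ?_) 1
    rw [Nat.le_div_iff_mul_le two_pos, hk]
    exact Nat.mul_le_mul_left d hk2
  · have hk3 : 3 ≤ k := by
      by_contra hc
      obtain rfl : k = 2 := by omega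
      exact hodd (hkf.trans C.index_dvd_card)
    refine Nat.sub_le_sub_right (Nat.pow_le_pow_right hp.pos ?_) 1
    rw [Nat.le_div_iff_mul_le three_pos, hk]
    exact Nat.mul_le_mul_left d hk3

theorem card_commute_mem (hC : ∀ a ∈ C, ∀ b ∈ C, a * b = b * a) {g : E} (hg : g ∈ C) :
    Nat.card C ≤ Nat.card {h : E // Commute g h} :=
  Nat.card_le_card_of_injective
    (fun c : C => (⟨c, hC g hg c c.2⟩ : {h : E // Commute g h}))
    fun _ _ h => Subtype.ext (congrArg (fun z : {h : E // Commute g h} => (z : E)) h)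

theorem card_commute_le_index [C.Normal] {g : E} :
    Nat.card {h : E // Commute g h} ≤ Nat.card {c : C // Commute g c} * C.index := by
  classical
  set D := Subgroup.centralizer ({g} : Set E)
  have h1 : Nat.card {h : E // Commute g h} = Nat.card D := Nat.card_congr (Equiv.subtypeEquivRight
    fun h => ⟨fun hh => Subgroup.mem_centralizer_singleton_iff.2 hh.eq.symm,
      fun hh => (Subgroup.mem_centralizer_singleton_iff.1 hh).symm⟩)
  rw [h1, ← Subgroup.card_mul_index (C.subgroupOf D)]
  refine Nat.mul_le_mul ?_ ?_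
  · exact Nat.card_le_card_of_injective
      (fun c => (⟨⟨(c : D), Subgroup.mem_subgroupOf.1 c.2⟩,
        (Subgroup.mem_centralizer_singleton_iff.1 (c : D).2).symm⟩ : {c : C // Commute g c}))
      fun a b hab => Subtype.ext (Subtype.ext (congrArg (fun z : {c : C // Commute g c} => ((z : C) : E)) hab))
  · have hfin : C.index ≠ 0 := Subgroup.index_ne_zero_of_finite
    exact Nat.le_of_dvd (Nat.pos_of_ne_zero hfin) (Subgroup.relIndex_dvd_index_of_normal C D)

theorem SemiData.lower (h : SemiData p n C) :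
    Nat.card C ≤ Nat.card (ConjClasses E) * C.index := by
  classical
  haveI := Fintype.ofFinite E
  refine Nat.le_of_mul_le_mul_left ?_ (Nat.card_pos (α := C))
  calc Nat.card C * Nat.card C = ∑ _g ∈ Finset.univ.filter (· ∈ C), Nat.card C := by
        rw [Finset.sum_const, smul_eq_mul, ← Fintype.card_subtype, ← Nat.card_eq_fintype_card]
    _ ≤ ∑ g ∈ Finset.univ.filter (· ∈ C), Nat.card {h : E // Commute g h} :=
        Finset.sum_le_sum fun g hg => card_commute_mem h.comm (Finset.mem_filter.1 hg).2
    _ ≤ ∑ g : E, Nat.card {h : E // Commute g h} :=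
        Finset.sum_le_sum_of_subset (Finset.subset_univ _)
    _ = Nat.card C * (Nat.card (ConjClasses E) * C.index) := by
        rw [sum_card_commute, ← C.card_mul_index]
        ring

theorem SemiData.upper (h : SemiData p n C) [C.Normal] {B : ℕ}
    (hB : ∀ g : E, g ∉ C → Nat.card {c : C // Commute g c} ≤ B)
    (hne : ∃ a b : E, a * b ≠ b * a) :
    2 * Nat.card (ConjClasses E) + B ≤ Nat.card C + 2 * C.index * B := by
  classical
  haveI := Fintype.ofFinite E
  obtain ⟨g₀, hg₀⟩ : ∃ g, g ∉ C := by
    by_contra hc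
    push Not at hc
    obtain ⟨a, b, hab⟩ := hne
    exact hab (h.comm a (hc a) b (hc b))
  set Z := (Finset.univ.filter (· ∈ C)).filter (· ∈ Subgroup.center E)
  set O := (Finset.univ.filter (· ∈ C)).filter (fun g => g ∉ Subgroup.center E)
  set R := Finset.univ.filter (fun g : E => g ∉ C)
  have hZO : Z.card + O.card = Nat.card C := by
    rw [Finset.card_filter_add_card_filter_not, Nat.card_eq_fintype_card, Fintype.card_subtype]
  have hR : Nat.card C + R.card = Nat.card E := by
    rw [Nat.card_eq_fintype_card, Fintype.card_subtype, Nat.card_eq_fintype_card,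
      Finset.card_filter_add_card_filter_not, Finset.card_univ]
  have hZB : Z.card ≤ B := by
    refine le_trans ?_ (hB g₀ hg₀)
    rw [← Fintype.card_coe, ← Nat.card_eq_fintype_card]
    exact Nat.card_le_card_of_injective
      (fun z => (⟨⟨z, (Finset.mem_filter.1 (Finset.mem_filter.1 z.2).1).2⟩,
        Subgroup.mem_center_iff.1 (Finset.mem_filter.1 z.2).2 g₀⟩ : {c : C // Commute g₀ c}))
      fun a b hab => Subtype.ext (congrArg (fun z : {c : C // Commute g₀ c} => ((z : C) : E)) hab)
  have hO : ∀ g ∈ O, 2 * Nat.card {h : E // Commute g h} ≤ Nat.card E := by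
    intro g hg
    set D := Subgroup.centralizer ({g} : Set E)
    have h1 : Nat.card {h : E // Commute g h} = Nat.card D := Nat.card_congr (Equiv.subtypeEquivRight
      fun h => ⟨fun hh => Subgroup.mem_centralizer_singleton_iff.2 hh.eq.symm,
        fun hh => (Subgroup.mem_centralizer_singleton_iff.1 hh).symm⟩)
    have hD : D ≠ ⊤ := fun htop => (Finset.mem_filter.1 hg).2 (Subgroup.mem_center_iff.2 fun a =>
      Subgroup.mem_centralizer_singleton_iff.1 (htop ▸ Subgroup.mem_top a : a ∈ D))
    have h2 : 2 ≤ D.index := Subgroup.one_lt_index_of_ne_top hD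
    rw [h1, ← D.card_mul_index, mul_comm 2]
    exact Nat.mul_le_mul_left _ h2
  have key : 2 * (Nat.card (ConjClasses E) * Nat.card E) ≤
      2 * Z.card * Nat.card E + O.card * Nat.card E + 2 * R.card * (B * C.index) := by
    rw [← sum_card_commute, ← Finset.sum_filter_add_sum_filter_not Finset.univ (· ∈ C),
      ← Finset.sum_filter_add_sum_filter_not (Finset.univ.filter (· ∈ C)) (· ∈ Subgroup.center E),
      mul_add, mul_add]
    refine add_le_add (add_le_add ?_ ?_) ?_
    · rw [mul_assoc]
      refine Nat.mul_le_mul_left 2 (Finset.sum_le_card_nsmul _ _ _ fun g _ => ?_)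
      exact Nat.card_le_card_of_injective _ Subtype.val_injective
    · rw [Finset.mul_sum]
      exact Finset.sum_le_card_nsmul _ _ _ hO
    · rw [mul_assoc]
      refine Nat.mul_le_mul_left 2 (Finset.sum_le_card_nsmul _ _ _ fun g hg => ?_)
      exact card_commute_le_index.trans (Nat.mul_le_mul_right _ (hB g (Finset.mem_filter.1 hg).2))
  have hfin : C.index ≠ 0 := Subgroup.index_ne_zero_of_finite
  obtain ⟨f, hf⟩ : ∃ f, C.index = f + 1 := ⟨C.index - 1, by omega⟩
  have hE : Nat.card E = Nat.card C * (f + 1) := by rw [← hf, C.card_mul_index]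
  have hR' : R.card = Nat.card C * f := by rw [hE, mul_add, mul_one] at hR; omega
  rw [hR', hE, hf] at key
  have hc : 0 < Nat.card C * (f + 1) := Nat.mul_pos Nat.card_pos (by omega)
  rw [hf]
  have key' : 2 * Nat.card (ConjClasses E) ≤ 2 * Z.card + O.card + 2 * f * B :=
    Nat.le_of_mul_le_mul_left (by nlinarith [key]) hc
  have hexp : 2 * (f + 1) * B = 2 * f * B + 2 * B := by ring
  omega

end Cfsg.Agent.H45.CoprimeTrans
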