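import Cfsg.Agent.H45.CoprimeTrans.Symplectic81
import Cfsg.Agent.H45.CoprimeTrans.Semilinear
import Cfsg.Agent.H88.NMain

/-!
The class number of a transitive group on `3 ^ 4` which is not semilinear.
-/

set_option autoImplicit false
set_option maxHeartbeats 1000000
set_option linter.style.haveILetI false
set_option linter.unusedSectionVars false

namespace Cfsg.Agent.H45.CoprimeTrans

open Cfsg Cfsg.Agent.H88 Cfsg.Agent.Cores

universe u

variable [Fact (Nat.Prime 3)] {V : Type*} [AddCommGroup V] [Module (ZMod 3) V] [Finite V] [Nontrivial V]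
  {G : Type u} [Group G] [Finite G] {ρ : G →* (V ≃ₗ[ZMod 3] V)}

theorem classes_of_not_semilinear (hρ : Function.Injective ρ)
    (hd4 : Module.finrank (ZMod 3) V = 4) (hsol : Group.IsSolvable G) (hns : ¬ Semilinear ρ)
    (h5 : 5 ∣ Nat.card G) (h25 : ¬ 25 ∣ Nat.card G)
    (hprimes : ∀ q : ℕ, q.Prime → q ∣ Nat.card G → q = 2 ∨ q = 5) :
    Nat.card G ≤ 640 ∧ 10 * Nat.card (ConjClasses G) ≤ 18 + Nat.card G := by
  classical
  haveI := hsol
  haveI : Fact (Nat.Prime 2) := ⟨Nat.prime_two⟩
  haveI : Fact (Nat.Prime 5) := ⟨Nat.prime_five⟩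
  haveI := Fintype.ofFinite G
  set Q := pCore 2 G with hQdef
  have hQ2 : IsPGroup 2 Q := pCore_isPGroup
  have hprim : ∀ k, 0 < k → k < Module.finrank (ZMod 3) V → ¬ 5 ∣ 3 ^ k - 1 := by
    intro k hk hk4
    rw [hd4] at hk4
    interval_cases k <;> norm_num
  have hfive : ∀ H : Subgroup G, IsPGroup 5 H → Nat.card H ≤ 5 := by
    intro H hH
    obtain ⟨k, hk⟩ := hH.exists_card_eq
    rcases k with _ | _ | k
    · rw [hk]; norm_num
    · rw [hk]; norm_num
    · exact absurd ((pow_dvd_pow 5 (show 2 ≤ k + 1 + 1 by omega)).trans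
        (hk ▸ H.card_subgroup_dvd_card)) (by simpa using h25)
  have hnc : ∀ g : G, orderOf g = 5 → ∃ x ∈ Q, g * x ≠ x * g := by
    intro g hg
    by_contra hall
    push Not at hall
    apply hns
    obtain ⟨hfl, hcard⟩ := primitive_fieldLike hρ Nat.prime_five (by norm_num) hprim hg
    have hgc : ∀ x ∈ ({g} : Set G), ∀ y ∈ ({g} : Set G), x * y = y * x := by rintro a rfl b rfl; rfl
    have hle : ∀ r : Nat.Primes, pCore (r : ℕ) G ≤ Subgroup.centralizer ({g} : Set G) := by
      rintro ⟨r, hr⟩ x hx
      rw [Subgroup.mem_centralizer_singleton_iff]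
      haveI := Fact.mk hr
      rcases eq_or_ne x 1 with rfl | hx1
      · rw [one_mul, mul_one]
      have hp' : IsPGroup r (pCore r G) := pCore_isPGroup
      obtain ⟨k, hk⟩ := hp'.exists_card_eq
      have hrG : r ∣ Nat.card G := by
        rcases k with _ | k
        · refine absurd ?_ hx1
          rw [pow_zero] at hk
          rw [Subgroup.eq_bot_of_card_eq _ hk] at hx
          exact hx
        · exact (hk ▸ dvd_pow_self r k.succ_ne_zero).trans (pCore r G).card_subgroup_dvd_card
      rcases hprimes r hr hrG with rfl | rfl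
      · exact (hall x hx).symm
      · have hz : IsPGroup 5 (Subgroup.zpowers g) :=
          IsPGroup.of_card (n := 1) (by rw [Nat.card_zpowers, hg, pow_one])
        have heq : Subgroup.zpowers g = Subgroup.zpowers g ⊔ pCore 5 G :=
          Subgroup.eq_of_le_of_card_ge le_sup_left (by
            rw [Nat.card_zpowers, hg]
            exact hfive _ (hz.to_sup_of_normal_right hp'))
        have hxg : x ∈ Subgroup.zpowers g := by rw [heq]; exact Subgroup.mem_sup_right hx
        obtain ⟨i, rfl⟩ := Subgroup.mem_zpowers_iff.1 hxg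
        exact ((Commute.refl g).zpow_left i).eq
    have hF : fittingSubgroup G ≤ Subgroup.centralizer ({g} : Set G) := by
      rw [Cores.iSup_pCore_eq_fittingSubgroup]
      exact iSup_le hle
    have hgF : g ∈ fittingSubgroup G := Cores.centralizer_fittingSubgroup_le
      (Subgroup.mem_centralizer_iff.2 fun x hx => (Subgroup.mem_centralizer_singleton_iff.1 (hF hx)))
    refine semilinear_of_le hgc hfl hcard (B := (fittingSubgroup G : Set G)) (fun x hx => ?_) ?_
      (fun y x hx => (inferInstance : (fittingSubgroup G).Normal).conj_mem x hx y) hρ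
    · refine hfl.mem_of_commute (fun r hr s hs => spanAlg_comm hgc hr hs) hcard fun s hs => commute_spanAlg ?_ hs
      rintro y rfl
      show (ρ x : Module.End (ZMod 3) V) * (ρ y : Module.End (ZMod 3) V) = _
      rw [← rho_mul, Subgroup.mem_centralizer_singleton_iff.1 (hF hx), rho_mul]
    · rintro x rfl
      exact mem_spanAlg hgF
  obtain ⟨g, hg⟩ := exists_prime_orderOf_dvd_card' (G := G) 5 h5
  have hQg : ∀ y : G, ∀ x ∈ Q, y * x * y⁻¹ ∈ Q := fun y x hx =>
    (inferInstance : Q.Normal).conj_mem x hx y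
  -- the group of order `32`
  obtain ⟨S, hSQ, hgS, hS, hsc, hle, hgfix, hcomm, hC⟩ :=
    exists_symplectic hρ hd4 hg Q hQ2 (fun x hx => hQg g x hx) (hnc g hg)
  have hQS : Q = S := by
    have hself : Subgroup.normalizer ((S.subgroupOf Q : Subgroup Q) : Set Q) = S.subgroupOf Q := by
      refine le_antisymm (fun n hn => ?_) Subgroup.le_normalizer
      rw [Subgroup.mem_normalizer_iff] at hn
      set N := Q ⊓ Subgroup.normalizer (S : Set G) with hN
      have hnN : (n : G) ∈ N := ⟨n.2, Subgroup.mem_normalizer_iff.2 fun s => ⟨fun hs =>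
        Subgroup.mem_subgroupOf.1 ((hn ⟨s, hSQ hs⟩).1 (Subgroup.mem_subgroupOf.2 hs)), fun hs => by
          have hsQ : s ∈ Q := by
            have := hQg (n : G)⁻¹ _ (hSQ hs)
            simpa [mul_assoc] using this
          exact Subgroup.mem_subgroupOf.1 ((hn ⟨s, hsQ⟩).2 (Subgroup.mem_subgroupOf.2 hs))⟩⟩
      refine Subgroup.mem_subgroupOf.2 (le_of_normalises hρ S hS hsc hle hcomm hC hg hgS hgfix N
        (hQ2.to_le inf_le_left) (fun x hx => ⟨hQg g x hx.1, ?_⟩) (fun m hm s hs =>
          (Subgroup.mem_normalizer_iff.1 hm.2 s).1 hs) hnN)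
      have hgN : g ∈ Subgroup.normalizer (S : Set G) := by
        rw [Subgroup.mem_normalizer_iff]
        refine fun s => ⟨fun hs => hgS s hs, fun hs => ?_⟩
        have h4 : g⁻¹ = g ^ 4 := (eq_inv_of_mul_eq_one_left (by
          rw [← pow_succ, show (4 + 1) = orderOf g by rw [hg], pow_orderOf_eq_one])).symm
        have hpow : ∀ k : ℕ, ∀ y ∈ S, g ^ k * y * (g ^ k)⁻¹ ∈ S := by
          intro k
          induction k with
          | zero => intro y hy; simpa using hy
          | succ k ih =>
            intro y hy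
            rw [pow_succ', mul_inv_rev,
              show g * g ^ k * y * ((g ^ k)⁻¹ * g⁻¹) = g * (g ^ k * y * (g ^ k)⁻¹) * g⁻¹ by group]
            exact hgS _ (ih y hy)
        have := hpow 4 _ hs
        rw [← h4, inv_inv] at this
        simpa [mul_assoc] using this
      exact Subgroup.mul_mem _ (Subgroup.mul_mem _ hgN hx.2) (Subgroup.inv_mem _ hgN)
    haveI : Group.IsNilpotent Q := hQ2.isNilpotent
    have htop := normalizerCondition_iff_only_full_group_self_normalizing.1
      (normalizerCondition_of_isNilpotent) _ hself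
    exact le_antisymm (Subgroup.subgroupOf_eq_top.1 htop) hSQ
  subst hQS
  set Z := scal ρ with hZdef
  -- every element of order five acts fixed point freely on it
  have hfix5 : ∀ g' : G, orderOf g' = 5 → ∀ x ∈ Q, g' * x = x * g' → x ∈ Z := by
    intro g' hg'
    obtain ⟨S', hS'Q, -, hS', -, -, hfix', -, -⟩ :=
      exists_symplectic hρ hd4 hg' Q hQ2 (fun x hx => hQg g' x hx) (hnc g' hg')
    rw [Subgroup.eq_of_le_of_card_ge hS'Q (by rw [hS', hS])] at hfix'
    exact hfix'
  have h160 : 160 ∣ Nat.card G :=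
    Nat.Coprime.mul_dvd_of_dvd_of_dvd (m := 32) (n := 5) (by norm_num)
      (hS ▸ Q.card_subgroup_dvd_card) h5
  obtain ⟨m, hm⟩ : ∃ m, Nat.card G = 5 * 2 ^ m := by
    refine ⟨(Nat.card G).factorization 2, ?_⟩
    have hcard := (Nat.card G).prod_factorization_pow_eq_self Nat.card_pos.ne'
    rw [Finsupp.prod_of_support_subset _ (s := {2, 5}) (fun q hq => by
      rw [Nat.support_factorization] at hq
      rcases hprimes q (Nat.prime_of_mem_primeFactors hq) (Nat.dvd_of_mem_primeFactors hq) with
        h | h <;> simp [h]) _ (fun i _ => pow_zero i), Finset.prod_pair (by norm_num)] at hcard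
    have h5f : (Nat.card G).factorization 5 = 1 := by
      refine le_antisymm (not_lt.1 fun h2 => h25 ?_)
        (Nat.Prime.factorization_pos_of_dvd Nat.prime_five Nat.card_pos.ne' h5)
      exact (pow_dvd_pow 5 h2).trans (Nat.ordProj_dvd _ 5)
    rw [h5f] at hcard
    exact hcard.symm.trans (by ring)
  -- centralisers of elements of order five
  have hC10 : ∀ g' : G, orderOf g' = 5 → Nat.card (Subgroup.centralizer ({g'} : Set G)) = 10 := by
    intro g' hg'
    set C := Subgroup.centralizer ({g'} : Set G) with hCdef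
    have hg'C : g' ∈ C := Subgroup.mem_centralizer_singleton_iff.2 rfl
    have hZC : Z ≤ C := fun z hz =>
      Subgroup.mem_centralizer_singleton_iff.2 (scal_comm hρ hz g').symm
    have h10 : 10 ∣ Nat.card C := Nat.Coprime.mul_dvd_of_dvd_of_dvd (m := 2) (n := 5) (by norm_num)
      (hsc ▸ Subgroup.card_dvd_of_le hZC)
      (hg' ▸ (by rw [← Subgroup.orderOf_mk g' hg'C]; exact orderOf_dvd_natCard _))
    obtain ⟨T, hT⟩ : ∃ T : Sylow 2 C, True := ⟨default, trivial⟩
    have hT2 : Nat.card T ≤ 2 := by
      let T' : Subgroup G := (T : Subgroup C).map C.subtype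
      have hT' : T' ≤ Q := le_of_normalises hρ Q hS hsc hle hcomm hC hg'
        (fun x hx => hQg g' x hx) (hfix5 g' hg') T' (T.isPGroup'.map _)
        (by
          rintro _ ⟨x, hx, rfl⟩
          refine ⟨x, hx, ?_⟩
          have := Subgroup.mem_centralizer_singleton_iff.1 x.2
          rw [Subgroup.coe_subtype, ← this, mul_inv_cancel_right])
        (fun k _ x hx => hQg k x hx)
      have hT'Z : T' ≤ Z := fun x hx => hfix5 g' hg' x (hT' hx) (by
        obtain ⟨y, -, rfl⟩ := hx
        exact (Subgroup.mem_centralizer_singleton_iff.1 y.2).symm)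
      exact (le_of_eq (Subgroup.card_map_of_injective C.subtype_injective).symm).trans
        ((Subgroup.card_le_of_le hT'Z).trans hsc.le)
    obtain ⟨k, hk⟩ := h10
    have hk2 : ∀ q, q.Prime → q ∣ k → False := by
      intro q hq hqk
      rcases hprimes q hq ((hqk.trans (Dvd.intro_left 10 hk.symm)).trans C.card_subgroup_dvd_card)
        with rfl | rfl
      · have h4 : 2 ^ 2 ∣ Nat.card C := by
          rw [hk]
          obtain ⟨l, rfl⟩ := hqk
          exact ⟨5 * l, by ring⟩
        have := Nat.le_of_dvd (Nat.card_pos) (T.pow_dvd_card_of_pow_dvd_card h4)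
        omega
      · refine h25 (Dvd.dvd.trans ?_ C.card_subgroup_dvd_card)
        rw [hk]
        obtain ⟨l, rfl⟩ := hqk
        exact ⟨2 * l, by ring⟩
    rw [hk, Nat.eq_one_iff_not_exists_prime_dvd.2 fun q hq hqk => hk2 q hq hqk]
  -- the order
  have hcard : Nat.card G ≤ 640 := by
    haveI : Group.IsSolvable (G ⧸ Q) := inferInstance
    set π := QuotientGroup.mk' Q
    have hQG : Nat.card G = Nat.card (G ⧸ Q) * 32 := by
      rw [Subgroup.card_eq_card_quotient_mul_card_subgroup Q, hS]
    have hπ5 : pCore 5 (G ⧸ Q) ≠ ⊥ := by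
      intro hb
      have hle' : ∀ r : Nat.Primes, pCore (r : ℕ) (G ⧸ Q) = ⊥ := by
        rintro ⟨r, hr⟩
        haveI := Fact.mk hr
        by_contra hne
        haveI : Nontrivial (pCore r (G ⧸ Q)) := (Subgroup.nontrivial_iff_ne_bot _).2 hne
        obtain ⟨k, hk0, hk⟩ := (IsPGroup.nontrivial_iff_card (pCore_isPGroup (p := r) (G := G ⧸ Q))).1
          inferInstance
        rcases hprimes r hr (((hk ▸ dvd_pow_self r hk0.ne').trans
          (pCore r (G ⧸ Q)).card_subgroup_dvd_card).trans (hQG ▸ dvd_mul_right _ _)) with rfl | rfl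
        · exact hne pCore_quotient_pCore
        · exact hne hb
      have hF : fittingSubgroup (G ⧸ Q) = ⊥ := by
        rw [Cores.iSup_pCore_eq_fittingSubgroup]
        exact iSup_eq_bot.2 hle'
      have htop := Cores.centralizer_fittingSubgroup_le (G := G ⧸ Q)
      rw [hF] at htop
      have h1 : π g = 1 := by
        refine Subgroup.mem_bot.1 (htop (Subgroup.mem_centralizer_iff.2 fun x hx => ?_))
        rw [SetLike.mem_coe, Subgroup.mem_bot] at hx
        rw [hx, one_mul, mul_one]
      have h2 := orderOf_dvd_natCard (⟨g, (QuotientGroup.eq_one_iff g).1 h1⟩ : Q)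
      rw [Subgroup.orderOf_mk, hg, hS] at h2
      norm_num at h2
    set P := pCore 5 (G ⧸ Q)
    obtain ⟨a, ha0, ha⟩ : ∃ a, 0 < a ∧ Nat.card P = 5 ^ a := by
      haveI : Nontrivial P := (Subgroup.nontrivial_iff_ne_bot P).2 hπ5
      exact (IsPGroup.nontrivial_iff_card pCore_isPGroup).1 inferInstance
    have hP5 : Nat.card P = 5 := by
      rcases a with _ | _ | a
      · omega
      · rw [ha]; norm_num
      · refine absurd ?_ h25
        refine ((pow_dvd_pow 5 (show 2 ≤ a + 1 + 1 by omega)).trans ?_)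
        rw [← ha]
        exact P.card_subgroup_dvd_card.trans (hQG ▸ dvd_mul_right _ _)
    have hgP : ∀ x : G, orderOf x = 5 → π x ∈ P := by
      intro x hx
      have hx5 : IsPGroup 5 (Subgroup.zpowers (π x)) := by
        obtain ⟨i, -, hi⟩ := (Nat.dvd_prime_pow Nat.prime_five).1
          (show orderOf (π x) ∣ 5 ^ 1 by rw [pow_one, ← hx]; exact orderOf_map_dvd π x)
        exact IsPGroup.of_card (n := i) (by rw [Nat.card_zpowers, hi])
      have hsup : IsPGroup 5 ↥(Subgroup.zpowers (π x) ⊔ P) :=
        hx5.to_sup_of_normal_right pCore_isPGroup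
      obtain ⟨k, hk⟩ := hsup.exists_card_eq
      have heq : P = Subgroup.zpowers (π x) ⊔ P := Subgroup.eq_of_le_of_card_ge le_sup_right (by
        rw [hk, hP5]
        rcases k with _ | _ | k
        · norm_num
        · norm_num
        · refine absurd ?_ h25
          refine ((pow_dvd_pow 5 (show 2 ≤ k + 1 + 1 by omega)).trans ?_)
          rw [← hk]
          exact (Subgroup.card_subgroup_dvd_card _).trans (hQG ▸ dvd_mul_right _ _))
      rw [heq]
      exact Subgroup.mem_sup_left (Subgroup.mem_zpowers _)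
    set R := P.comap π with hR
    have hRcard : Nat.card R = 160 := by
      have hQR : Q ≤ R := fun q hq => by
        rw [hR, Subgroup.mem_comap, show π q = 1 from (QuotientGroup.eq_one_iff q).2 hq]
        exact one_mem _
      let φ : R →* P := (π.comp R.subtype).codRestrict _ fun d => d.2
      have hφ : Function.Surjective φ := fun y => by
        obtain ⟨x, hx⟩ := QuotientGroup.mk'_surjective Q (y : G ⧸ Q)
        exact ⟨⟨x, by rw [hR, Subgroup.mem_comap, hx]; exact y.2⟩, Subtype.ext hx⟩
      have hker : φ.ker = Q.subgroupOf R := by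
        ext d
        rw [MonoidHom.mem_ker, Subgroup.mem_subgroupOf]
        exact ⟨fun h => (QuotientGroup.eq_one_iff _).1 (congrArg Subtype.val h),
          fun h => Subtype.ext ((QuotientGroup.eq_one_iff _).2 h)⟩
      rw [← φ.ker.card_mul_index, Subgroup.index_ker, MonoidHom.range_eq_top.2 hφ,
        Subgroup.card_top, hP5, hker, Nat.card_congr (Subgroup.subgroupOfEquivOfLe hQR).toEquiv, hS]
    have hgR : g ∈ R := hgP g hg
    set Zg := Subgroup.zpowers g
    have hgR' : Zg ≤ R := Subgroup.zpowers_le.2 hgR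
    -- `G = Q N(⟨g⟩)`
    set N := Subgroup.normalizer (Zg : Set G) with hN
    have hfrattini : ∀ x : G, ∃ q ∈ Q, q⁻¹ * x ∈ N := by
      intro x
      have hx5 : orderOf (x * g * x⁻¹) = 5 := by
        rw [← hg]; simpa using (MulAut.conj x).orderOf_eq g
      have hs1 : ∀ y : G, orderOf y = 5 → ∀ hy : y ∈ R, ¬ 5 ∣ ((Subgroup.zpowers y).subgroupOf R).index := by
        intro y hy hyR hd
        have h1 := ((Subgroup.zpowers y).subgroupOf R).card_mul_index
        rw [Nat.card_congr (Subgroup.subgroupOfEquivOfLe (Subgroup.zpowers_le.2 hyR)).toEquiv,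
          Nat.card_zpowers, hy, hRcard] at h1
        omega
      have hp1 : ∀ y : G, orderOf y = 5 → ∀ hy : y ∈ R, IsPGroup 5 ((Subgroup.zpowers y).subgroupOf R) :=
        fun y hy hyR => IsPGroup.of_card (n := 1) (by
          rw [Nat.card_congr (Subgroup.subgroupOfEquivOfLe (Subgroup.zpowers_le.2 hyR)).toEquiv,
            Nat.card_zpowers, hy, pow_one])
      let S1 : Sylow 5 R := (hp1 g hg hgR).toSylow (hs1 g hg hgR)
      let S2 : Sylow 5 R := (hp1 _ hx5 (hgP _ hx5)).toSylow (hs1 _ hx5 (hgP _ hx5))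
      obtain ⟨u, hu⟩ := MulAction.exists_smul_eq R S1 S2
      have hu' : ∀ y ∈ Zg, (u : G) * y * (u : G)⁻¹ ∈ Subgroup.zpowers (x * g * x⁻¹) := by
        intro y hy
        have h1 : (⟨(u : G) * y * (u : G)⁻¹,
            R.mul_mem (R.mul_mem u.2 (hgR' hy)) (R.inv_mem u.2)⟩ : R) ∈ (S2 : Subgroup R) := by
          rw [← hu, Sylow.coe_subgroup_smul]
          exact ⟨⟨y, hgR' hy⟩, hy, rfl⟩
        exact h1
      -- split `u` along `Q` and `⟨g⟩`
      obtain ⟨⟨q, hq⟩, ⟨w, hw⟩, hqw⟩ : ∃ (q : Q) (w : Zg), (q : G) * w = u := by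
        have hinj : Function.Injective fun z : Q × Zg =>
            (⟨(z.1 : G) * z.2, R.mul_mem (by
              rw [hR, Subgroup.mem_comap, show π (z.1 : G) = 1 from (QuotientGroup.eq_one_iff _).2 z.1.2]
              exact one_mem _) (hgR' z.2.2)⟩ : R) := by
          rintro ⟨a, b⟩ ⟨c, d⟩ h
          have h' : (a : G) * b = c * d := congrArg Subtype.val h
          have h1 : (c : G)⁻¹ * a = d * (b : G)⁻¹ := by
            rw [eq_mul_inv_iff_mul_eq, mul_assoc, h', inv_mul_cancel_left]
          have h2 : (c : G)⁻¹ * a ∈ Q ⊓ Zg := ⟨Q.mul_mem (Q.inv_mem c.2) a.2,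
            h1 ▸ Zg.mul_mem d.2 (Zg.inv_mem b.2)⟩
          rw [Subgroup.inf_eq_bot_of_coprime (by rw [hS, Nat.card_zpowers, hg]; norm_num),
            Subgroup.mem_bot] at h2
          have hac : c = a := Subtype.ext (inv_mul_eq_one.1 h2)
          subst hac
          exact Prod.ext rfl (Subtype.ext (mul_left_cancel h'))
        obtain ⟨⟨q, w⟩, h⟩ := (hinj.bijective_of_nat_card_le (by
          rw [Nat.card_prod, hS, hRcard, Nat.card_zpowers, hg])).2 u
        exact ⟨q, w, congrArg Subtype.val h⟩
      refine ⟨q, hq, ?_⟩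
      have h3 : q * g * q⁻¹ ∈ Subgroup.zpowers (x * g * x⁻¹) := by
        have h4 := hu' g (Subgroup.mem_zpowers g)
        obtain ⟨i, rfl⟩ := Subgroup.mem_zpowers_iff.1 hw
        have h6 : q * g ^ i * g * (q * g ^ i)⁻¹ = q * g * q⁻¹ := by
          calc q * g ^ i * g * (q * g ^ i)⁻¹ = q * (g ^ i * g * (g ^ i)⁻¹) * q⁻¹ := by group
            _ = q * g * q⁻¹ := by rw [((Commute.refl g).zpow_left i).eq, mul_inv_cancel_right]
        rw [← hqw] at h4
        simp only at h4
        rwa [h6] at h4
      rw [hN, Subgroup.mem_normalizer_iff]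
      have heq : Subgroup.zpowers (q * g * q⁻¹) = Subgroup.zpowers (x * g * x⁻¹) :=
        Subgroup.eq_of_le_of_card_ge (Subgroup.zpowers_le.2 h3) (by
          rw [Nat.card_zpowers, Nat.card_zpowers, hx5]
          refine le_of_eq ?_
          rw [← hg]; simpa using ((MulAut.conj q).orderOf_eq g).symm)
      intro y
      have hmap : ∀ c : G, Subgroup.zpowers (c * g * c⁻¹) = Zg.map (MulAut.conj c).toMonoidHom :=
        fun c => (MonoidHom.map_zpowers (MulAut.conj c).toMonoidHom g).symm
      rw [hmap, hmap] at heq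
      have key : ∀ z, z ∈ Zg ↔ q⁻¹ * x * z * x⁻¹ * q ∈ Zg := by
        intro z
        constructor
        · intro hz
          have h5 : x * z * x⁻¹ ∈ Zg.map (MulAut.conj q).toMonoidHom := heq ▸ ⟨z, hz, rfl⟩
          obtain ⟨z', hz', hzz⟩ := h5
          have h6 : q⁻¹ * x * z * x⁻¹ * q = z' := by
            have h7 : q * z' * q⁻¹ = x * z * x⁻¹ := hzz
            calc q⁻¹ * x * z * x⁻¹ * q = q⁻¹ * (x * z * x⁻¹) * q := by group
              _ = z' := by rw [← h7]; group
          rw [h6]; exact hz'
        · intro hz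
          have h5 : q * (q⁻¹ * x * z * x⁻¹ * q) * q⁻¹ ∈ Zg.map (MulAut.conj x).toMonoidHom :=
            heq ▸ ⟨_, hz, rfl⟩
          obtain ⟨z', hz', hzz⟩ := h5
          have h7 : x * z' * x⁻¹ = x * z * x⁻¹ := by
            rw [show x * z * x⁻¹ = q * (q⁻¹ * x * z * x⁻¹ * q) * q⁻¹ by group]; exact hzz
          rw [← mul_left_cancel (mul_right_cancel h7)]
          exact hz'
      rw [show q⁻¹ * x * y * (q⁻¹ * x)⁻¹ = q⁻¹ * x * y * x⁻¹ * q by group]
      exact key y
    -- count
    have h1 : Nat.card G ≤ 16 * Nat.card N := by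
      choose q hq hqN using hfrattini
      have hZN : Z ≤ N := fun z hz => by
        rw [hN, Subgroup.mem_normalizer_iff]
        intro y
        rw [← scal_comm hρ hz y, mul_inv_cancel_right]
      have hQZ : Nat.card (Q ⧸ Z.subgroupOf Q) = 16 := by
        have h1 := Subgroup.card_eq_card_quotient_mul_card_subgroup (Z.subgroupOf Q)
        rw [hS, Nat.card_congr (Subgroup.subgroupOfEquivOfLe hle).toEquiv, hsc] at h1
        omega
      rw [← hQZ, show Nat.card G = Nat.card (Set.univ : Set G) by rw [Nat.card_coe_set_eq, Set.ncard_univ]]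
      refine card_le_mul_of_fibre (fun x => (QuotientGroup.mk ⟨q x.1, hq x.1⟩ : Q ⧸ Z.subgroupOf Q))
        fun a b hab => ?_
      have h2 : (q a.1)⁻¹ * q b.1 ∈ Z := Subgroup.mem_subgroupOf.1 (QuotientGroup.eq.1 hab)
      rw [show (a : G)⁻¹ * b = ((q a.1)⁻¹ * a.1)⁻¹ * ((q a.1)⁻¹ * q b.1) * ((q b.1)⁻¹ * b.1) by group]
      exact N.mul_mem (N.mul_mem (N.inv_mem (hqN a.1)) (hZN h2)) (hqN b.1)
    have h2 : Nat.card N ≤ 4 * 10 := by
      rw [← hC10 g hg]
      have hconj : ∀ n ∈ N, n * g * n⁻¹ ∈ Zg ∧ n * g * n⁻¹ ≠ 1 := fun n hn =>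
        ⟨(Subgroup.mem_normalizer_iff.1 hn g).1 (Subgroup.mem_zpowers g), fun h => by
          rw [conj_eq_one_iff] at h
          rw [h, orderOf_one] at hg
          norm_num at hg⟩
      haveI := Fintype.ofFinite Zg
      have h4 : Nat.card {y : Zg // y ≠ 1} = 4 := by
        rw [Nat.card_eq_fintype_card, Fintype.card_subtype_compl, Fintype.card_subtype_eq,
          ← Nat.card_eq_fintype_card, Nat.card_zpowers, hg]
      rw [← h4]
      refine card_le_mul_of_fibre (T := (N : Set G))
        (fun n => (⟨⟨_, (hconj n.1 n.2).1⟩, fun h => (hconj n.1 n.2).2 (congrArg Subtype.val h)⟩ :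
          {y : Zg // y ≠ 1})) fun a b hab => ?_
      have h5 : (a : G) * g * (a : G)⁻¹ = b * g * (b : G)⁻¹ :=
        congrArg (fun z : {y : Zg // y ≠ 1} => ((z : Zg) : G)) hab
      rw [Subgroup.mem_centralizer_singleton_iff]
      calc (a : G)⁻¹ * b * g = (a : G)⁻¹ * ((b : G) * g * (b : G)⁻¹) * b := by group
        _ = (a : G)⁻¹ * ((a : G) * g * (a : G)⁻¹) * b := by rw [h5]
        _ = g * ((a : G)⁻¹ * b) := by group
    omega
  refine ⟨hcard, ?_⟩
  -- centralisers
  have hcen : ∀ e : G, e ∉ Z → 10 * Nat.card {h : G // Commute e h} ≤ Nat.card G := by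
    intro e he
    set D := Subgroup.centralizer ({e} : Set G) with hD
    have h1 : Nat.card {h : G // Commute e h} = Nat.card D := Nat.card_congr (Equiv.subtypeEquivRight
      fun h => ⟨fun hh => Subgroup.mem_centralizer_singleton_iff.2 hh.eq.symm,
        fun hh => (Subgroup.mem_centralizer_singleton_iff.1 hh).symm⟩)
    rw [h1]
    by_cases h5D : 5 ∣ Nat.card D
    · obtain ⟨g', hg'⟩ := exists_prime_orderOf_dvd_card' (G := D) 5 h5D
      have hg'o : orderOf (g' : G) = 5 := by rw [Subgroup.orderOf_coe]; exact hg'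
      have heC : e ∈ Subgroup.centralizer ({(g' : G)} : Set G) :=
        Subgroup.mem_centralizer_singleton_iff.2 (Subgroup.mem_centralizer_singleton_iff.1 g'.2).symm
      have he10 : e ^ 10 = 1 := by
        have := pow_card_eq_one' (x := (⟨e, heC⟩ : Subgroup.centralizer ({(g' : G)} : Set G)))
        rw [hC10 _ hg'o] at this
        exact congrArg Subtype.val this
      have he2 : e ^ 2 ≠ 1 := by
        intro h2
        have heT : IsPGroup 2 (Subgroup.zpowers e) := by
          obtain ⟨i, -, hi⟩ := (Nat.dvd_prime_pow Nat.prime_two).1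
            (show orderOf e ∣ 2 ^ 1 by rw [pow_one]; exact orderOf_dvd_of_pow_eq_one h2)
          exact IsPGroup.of_card (n := i) (by rw [Nat.card_zpowers, hi])
        have hcomm' : Commute (g' : G) e :=
          (Subgroup.mem_centralizer_singleton_iff.1 heC).symm
        have := le_of_normalises hρ Q hS hsc hle hcomm hC hg'o (fun x hx => hQg g' x hx)
          (hfix5 _ hg'o) (Subgroup.zpowers e) heT (fun x hx => by
            obtain ⟨i, rfl⟩ := Subgroup.mem_zpowers_iff.1 hx
            rw [(hcomm'.zpow_right i).eq, mul_inv_cancel_right]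
            exact hx) (fun k _ x hx => hQg k x hx)
        exact he (hfix5 _ hg'o e (this (Subgroup.mem_zpowers e)) hcomm'.eq)
      have ho : orderOf (e ^ 2) = 5 := orderOf_eq_prime (by rw [← pow_mul]; exact he10) he2
      have h3 : D ≤ Subgroup.centralizer ({e ^ 2} : Set G) := fun x hx =>
        Subgroup.mem_centralizer_singleton_iff.2
          ((Commute.pow_right (Subgroup.mem_centralizer_singleton_iff.1 hx : Commute x e) 2).eq)
      have h4 := Subgroup.card_le_of_le h3
      rw [hC10 _ ho] at h4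
      have := Nat.le_of_dvd Nat.card_pos h160
      omega
    · have hDdvd : Nat.card D ∣ 2 ^ m := by
        have := D.card_subgroup_dvd_card
        rw [hm] at this
        exact (Nat.Coprime.dvd_of_dvd_mul_left
          ((Nat.prime_five.coprime_iff_not_dvd.2 h5D).symm) this)
      obtain ⟨i, hi, hi'⟩ := (Nat.dvd_prime_pow Nat.prime_two).1 hDdvd
      have him : i ≠ m := by
        rintro rfl
        have hidx : ¬ 2 ∣ D.index := by
          have h1 := D.card_mul_index
          rw [hi', hm, mul_comm 5] at h1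
          rw [Nat.eq_of_mul_eq_mul_left (by positivity) h1]
          norm_num
        let DS : Sylow 2 G := (IsPGroup.of_card hi').toSylow hidx
        have hQD : Q ≤ D := pCore_le_sylow DS
        exact he (hC e fun x hx => (Subgroup.mem_centralizer_singleton_iff.1 (hQD hx)).symm)
      rw [hi', hm]
      calc 10 * 2 ^ i = 5 * 2 ^ (i + 1) := by ring
        _ ≤ 5 * 2 ^ m := Nat.mul_le_mul_left _ (Nat.pow_le_pow_right two_pos (by omega))
  have hZcard : (Finset.univ.filter (· ∈ Z)).card = 2 := by
    rw [← Fintype.card_subtype, ← Nat.card_eq_fintype_card]; exact hsc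
  have hsum : 10 * (Nat.card (ConjClasses G) * Nat.card G) ≤
      20 * Nat.card G + (Finset.univ.filter (· ∉ Z)).card * Nat.card G := by
    rw [← sum_card_commute, ← Finset.sum_filter_add_sum_filter_not Finset.univ (· ∈ Z), mul_add]
    refine add_le_add ?_ ?_
    · refine (Nat.mul_le_mul_left 10 (Finset.sum_le_card_nsmul _ _ (Nat.card G) fun e _ =>
        Nat.card_le_card_of_injective _ Subtype.val_injective)).trans ?_
      rw [hZcard, smul_eq_mul]
      omega
    · rw [Finset.mul_sum]
      exact Finset.sum_le_card_nsmul _ _ _ fun e he => hcen e (Finset.mem_filter.1 he).2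
  have hsplit := Finset.card_filter_add_card_filter_not (s := (Finset.univ : Finset G)) (· ∈ Z)
  rw [hZcard, Finset.card_univ, ← Nat.card_eq_fintype_card] at hsplit
  have := Nat.le_of_mul_le_mul_right
    (show (10 * Nat.card (ConjClasses G)) * Nat.card G ≤
      (20 + (Finset.univ.filter (· ∉ Z)).card) * Nat.card G by rw [mul_assoc, add_mul]; exact hsum)
    Nat.card_pos
  omega

end Cfsg.Agent.H45.CoprimeTrans
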