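import Cfsg.Agent.H45.CoprimeTrans.Semilinear

/-!
The cyclic normal subgroup of a semilinear transitive group.
-/

set_option autoImplicit false
set_option linter.style.haveILetI false
set_option linter.unusedSectionVars false

namespace Cfsg.Agent.H45.CoprimeTrans

open MulAction Module Cfsg.Agent.H35.ThreeBlock

universe u

variable {p : ℕ} [hp : Fact p.Prime] {E : Type u} [Group E] [Finite E] {V : Type*} [AddCommGroup V]
  [Module (ZMod p) V] [Module.Finite (ZMod p) V] [DistribMulAction E V] [SMulCommClass E (ZMod p) V]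
  [FaithfulSMul E V]

theorem dvd_card_of_transitive (hn : 0 < finrank (ZMod p) V)
    (ht : ∀ u w : V, u ≠ 0 → w ≠ 0 → ∃ g : E, g • u = w) :
    p ^ finrank (ZMod p) V - 1 ∣ Nat.card E := by
  haveI := Module.nontrivial_of_finrank_pos (R := ZMod p) (M := V) hn
  obtain ⟨v, hv⟩ := exists_ne (0 : V)
  exact ⟨_, (card_eq_of_transitive (p := p) hv fun u hu => ht v u hv hu).symm⟩

/-- The cyclic normal subgroup of a semilinear transitive group. -/
theorem semiData_of_semilinear (hn : 0 < finrank (ZMod p) V)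
    (hsl : ∃ (F : Type) (_ : Field F) (_ : Fintype F) (e : V ≃+ F),
      ∀ g : E, ∃ (a : F) (σ : F ≃+* F), ∀ v : V, e (g • v) = a * σ (e v)) :
    ∃ C : Subgroup E, C.Normal ∧ SemiData p (finrank (ZMod p) V) C ∧
      ∃ v : V, v ≠ 0 ∧ (∀ a ∈ stabilizer E v, ∀ b ∈ stabilizer E v, a * b = b * a) ∧
        Nat.card (stabilizer E v) ≤ C.index := by
  classical
  haveI : Finite V := Module.finite_of_finite (ZMod p)
  haveI := Module.nontrivial_of_finrank_pos (R := ZMod p) (M := V) hn
  set n := finrank (ZMod p) V with hn'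
  have hcardV : Nat.card V = p ^ n := by
    rw [Module.natCard_eq_pow_finrank (K := ZMod p), Nat.card_zmod]
  obtain ⟨F, iF, iFin, e, he⟩ := hsl
  haveI : CharP F p := by
    obtain ⟨q, hq⟩ := CharP.exists F
    haveI := hq
    have h0 : ((p : ℕ) : F) = 0 := by
      have h1 : p • (e.symm 1) = (0 : V) := by
        rw [← Nat.cast_smul_eq_nsmul (ZMod p), ZMod.natCast_self, zero_smul]
      have h2 := congrArg e h1
      rw [map_nsmul, AddEquiv.apply_symm_apply, map_zero, nsmul_one] at h2
      exact h2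
    obtain rfl : q = p := (Nat.prime_dvd_prime_iff_eq (CharP.char_is_prime F q) hp.out).1
      ((CharP.cast_eq_zero_iff F q p).1 h0)
    exact hq
  letI : Algebra (ZMod p) F := ZMod.algebra F p
  have hF : Nat.card F = p ^ n := by rw [← Nat.card_congr e.toEquiv, hcardV]
  have hfr : finrank (ZMod p) F = n := by
    have h1 := Module.natCard_eq_pow_finrank (K := ZMod p) (V := F)
    rw [Nat.card_zmod, hF] at h1
    exact (Nat.pow_right_injective hp.out.two_le h1).symm
  haveI : Finite (F ≃ₐ[ZMod p] F) := Finite.of_injective (fun σ => (σ : F → F)) DFunLike.coe_injective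
  have hex : ∀ g : E, ∃ (a : F) (σ : F ≃ₐ[ZMod p] F), ∀ v : V, e (g • v) = a * σ (e v) := by
    intro g
    obtain ⟨a, σ, h⟩ := he g
    exact ⟨a, AlgEquiv.ofRingEquiv (f := σ) (fun x => RingHom.congr_fun
      (RingHom.ext_zmod ((σ : F →+* F).comp (algebraMap (ZMod p) F)) (algebraMap (ZMod p) F)) x), h⟩
  choose a σ hσ using hex
  have ha : ∀ g : E, e (g • e.symm 1) = a g := fun g => by
    rw [hσ, AddEquiv.apply_symm_apply, map_one, mul_one]
  have ha0 : ∀ g : E, a g ≠ 0 := fun g h => by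
    have h1 := hσ g (g⁻¹ • e.symm 1)
    rw [h, zero_mul, smul_inv_smul, AddEquiv.apply_symm_apply] at h1
    exact one_ne_zero h1
  have huniq : ∀ (g : E) (b : F) (τ : F ≃ₐ[ZMod p] F), (∀ v : V, e (g • v) = b * τ (e v)) →
      a g = b ∧ σ g = τ := by
    intro g b τ h
    have hb : a g = b := by rw [← ha g, h, AddEquiv.apply_symm_apply, map_one, mul_one]
    refine ⟨hb, AlgEquiv.ext fun x => ?_⟩
    have h1 := h (e.symm x)
    rw [hσ, AddEquiv.apply_symm_apply, ← hb] at h1
    exact mul_left_cancel₀ (ha0 g) h1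
  have hmul : ∀ g k : E, a (g * k) = a g * σ g (a k) ∧ σ (g * k) = σ g * σ k := fun g k =>
    huniq _ _ _ fun v => by
      rw [mul_smul, hσ, hσ, map_mul, AlgEquiv.mul_apply, mul_assoc]
  let τ : E →* (F ≃ₐ[ZMod p] F) := MonoidHom.mk' σ fun g k => (hmul g k).2
  let χ : τ.ker →* F :=
    { toFun := fun g => a g
      map_one' := by rw [Subgroup.coe_one, ← ha, one_smul, AddEquiv.apply_symm_apply]
      map_mul' := fun g k => by
        rw [Subgroup.coe_mul, (hmul g k).1, show σ (g : E) = 1 from MonoidHom.mem_ker.1 g.2,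
          AlgEquiv.one_apply] }
  have hχ : Function.Injective χ := by
    intro g k h
    refine Subtype.ext (eq_of_smul_eq_smul fun v : V => e.injective ?_)
    rw [hσ, hσ, show σ (g : E) = 1 from MonoidHom.mem_ker.1 g.2,
      show σ (k : E) = 1 from MonoidHom.mem_ker.1 k.2, show a (g : E) = a (k : E) from h]
  haveI hcyc : IsCyclic τ.ker := isCyclic_of_injective χ.toHomUnits fun g k h =>
    hχ (congrArg Units.val h)
  have hdvd : Nat.card τ.ker ∣ p ^ n - 1 := by
    have h1 := Subgroup.card_dvd_of_injective χ.toHomUnits fun g k h => hχ (congrArg Units.val h)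
    rwa [Nat.card_units, hF] at h1
  have hidx : τ.ker.index = Nat.card τ.range := Subgroup.index_ker τ
  have hgal : Nat.card (F ≃ₐ[ZMod p] F) = n := by rw [IsGalois.card_aut_eq_finrank, hfr]
  have hidxn : τ.ker.index ∣ n := by rw [hidx, ← hgal]; exact Subgroup.card_subgroup_dvd_card _
  letI : CommGroup (F ≃ₐ[ZMod p] F) := IsCyclic.commGroup
  refine ⟨τ.ker, inferInstance, ⟨fun g hg k hk => ?_, hcyc, hdvd, hidxn, fun g hg => ?_⟩,
    e.symm 1, ?_, fun g hg k hk => ?_, ?_⟩
  · letI := IsCyclic.commGroup (α := τ.ker)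
    exact congrArg Subtype.val (mul_comm (⟨g, hg⟩ : τ.ker) ⟨k, hk⟩)
  · obtain ⟨⟨i, hi⟩, hpow⟩ := (FiniteField.bijective_frobeniusAlgEquivOfAlgebraic_pow (ZMod p) F).2 (σ g)
    rw [hfr] at hi
    change FiniteField.frobeniusAlgEquivOfAlgebraic (ZMod p) F ^ i = σ g at hpow
    refine ⟨i, Nat.pos_of_ne_zero fun h0 => hg (MonoidHom.mem_ker.2 ?_), hi, ?_, fun c hc => ?_⟩
    · show σ g = 1
      rw [← hpow, h0, pow_zero]
    · have h1 : (σ g) ^ τ.ker.index = 1 := by
        rw [hidx]
        exact congrArg Subtype.val (pow_card_eq_one' (x := (⟨σ g, g, rfl⟩ : τ.range)))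
      rw [← hpow, ← pow_mul, ← orderOf_dvd_iff_pow_eq_one,
        FiniteField.orderOf_frobeniusAlgEquivOfAlgebraic, hfr] at h1
      exact h1
    · have hcσ : σ c = 1 := MonoidHom.mem_ker.1 hc
      have hfrob : σ g (a c) = a c ^ p ^ i := by
        rw [← hpow, AlgEquiv.coe_pow, FiniteField.coe_frobeniusAlgEquivOfAlgebraic_iterate, ZMod.card]
      have hpowc : a (c ^ p ^ i) = a c ^ p ^ i := map_pow χ ⟨c, hc⟩ (p ^ i)
      refine eq_of_smul_eq_smul fun v : V => e.injective ?_
      rw [hσ (c ^ p ^ i), show σ (c ^ p ^ i) = 1 from MonoidHom.mem_ker.1 (pow_mem hc _), hpowc,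
        ← hfrob, AlgEquiv.one_apply, mul_smul, mul_smul, hσ, hσ, hcσ, AlgEquiv.one_apply, map_mul]
      have h2 := hσ g (g⁻¹ • v)
      rw [smul_inv_smul] at h2
      rw [h2]
      ring
  · intro h0
    have := congrArg e h0
    rw [AddEquiv.apply_symm_apply, map_zero] at this
    exact one_ne_zero this
  · have key : ∀ x ∈ stabilizer E (e.symm (1 : F)), a x = 1 := fun x hx => by
      rw [← ha, mem_stabilizer_iff.1 hx, AddEquiv.apply_symm_apply]
    refine eq_of_smul_eq_smul fun v : V => e.injective ?_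
    rw [mul_smul, mul_smul, hσ g, hσ k, hσ k, hσ g, key g hg, key k hk, one_mul, one_mul, one_mul,
      one_mul, ← AlgEquiv.mul_apply, ← AlgEquiv.mul_apply, mul_comm (σ g)]
  · rw [hidx]
    refine Nat.card_le_card_of_injective
      (fun x => (⟨σ (x : E), (x : E), rfl⟩ : τ.range)) fun x y hxy => ?_
    refine Subtype.ext (eq_of_smul_eq_smul fun v : V => e.injective ?_)
    have hax : a (x : E) = 1 := by rw [← ha, mem_stabilizer_iff.1 x.2, AddEquiv.apply_symm_apply]
    have hay : a (y : E) = 1 := by rw [← ha, mem_stabilizer_iff.1 y.2, AddEquiv.apply_symm_apply]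
    rw [hσ, hσ, hax, hay, show σ (x : E) = σ (y : E) from congrArg Subtype.val hxy]

/-- A transitive coprime group of dimension at least three other than on `3 ^ 4` is semilinear. -/
theorem exists_semiData (hE : ¬ p ∣ Nat.card E) (hn : 3 ≤ finrank (ZMod p) V)
    (ht : ∀ u w : V, u ≠ 0 → w ≠ 0 → ∃ g : E, g • u = w)
    (h81 : ¬ (p = 3 ∧ finrank (ZMod p) V = 4)) :
    ∃ C : Subgroup E, C.Normal ∧ SemiData p (finrank (ZMod p) V) C ∧
      ∃ v : V, v ≠ 0 ∧ (∀ a ∈ stabilizer E v, ∀ b ∈ stabilizer E v, a * b = b * a) ∧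
        Nat.card (stabilizer E v) ≤ C.index := by
  classical
  haveI : Finite V := Module.finite_of_finite (ZMod p)
  haveI := Module.nontrivial_of_finrank_pos (R := ZMod p) (M := V) (by omega)
  set n := finrank (ZMod p) V with hn'
  have hcardV : Nat.card V = p ^ n := by
    rw [Module.natCard_eq_pow_finrank (K := ZMod p), Nat.card_zmod]
  have hsol := isSolvable_transitive (p := p) (V := V) hE hn (dvd_card_of_transitive (by omega) ht)
  rcases Cfsg.Agent.S3360.result p hsol (DistribMulAction.toModuleAut (ZMod p) V)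
      (fun a b h => eq_of_smul_eq_smul fun u : V => LinearEquiv.congr_fun h u)
      (fun u w hu hw => ht u w hu hw) with hsl | hsmall
  · exact semiData_of_semilinear (by omega) hsl
  · exfalso
    rw [hcardV] at hsmall
    simp only [Set.mem_insert_iff, Set.mem_singleton_iff] at hsmall
    have hbase : ∀ q k : ℕ, q.Prime → p ^ n = q ^ k → 0 < k → p = q ∧ n = k := by
      intro q k hq heq hk
      have hpq : p = q := (Nat.prime_dvd_prime_iff_eq hp.out hq).1
        (hp.out.dvd_of_dvd_pow (heq ▸ dvd_pow_self p (by omega : n ≠ 0)))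
      exact ⟨hpq, Nat.pow_right_injective hp.out.two_le (heq.trans (by rw [hpq]))⟩
    rcases hsmall with h | h | h | h | h | h
    · have := hbase 3 2 (by norm_num) (by rw [h]; norm_num) (by norm_num); omega
    · have := hbase 5 2 (by norm_num) (by rw [h]; norm_num) (by norm_num); omega
    · have := hbase 7 2 (by norm_num) (by rw [h]; norm_num) (by norm_num); omega
    · have := hbase 11 2 (by norm_num) (by rw [h]; norm_num) (by norm_num); omega
    · have := hbase 23 2 (by norm_num) (by rw [h]; norm_num) (by norm_num); omega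
    · exact h81 (hbase 3 4 (by norm_num) (by rw [h]; norm_num) (by norm_num))

/-- The class number bounds of a semilinear group in dimension at least three. -/
theorem class_bounds_of_semilinear (hE : ¬ p ∣ Nat.card E) (hn : 3 ≤ finrank (ZMod p) V)
    (ht : ∀ u w : V, u ≠ 0 → w ≠ 0 → ∃ g : E, g • u = w)
    (hsd : ∃ C : Subgroup E, C.Normal ∧ SemiData p (finrank (ZMod p) V) C ∧
      ∃ v : V, v ≠ 0 ∧ (∀ a ∈ stabilizer E v, ∀ b ∈ stabilizer E v, a * b = b * a) ∧
        Nat.card (stabilizer E v) ≤ C.index) :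
    (3 ≤ p → p ≤ Nat.card (ConjClasses E)) ∧
    ∃ v : V, v ≠ 0 ∧ (∀ a ∈ stabilizer E v, ∀ b ∈ stabilizer E v, a * b = b * a) ∧
      ((∀ a b : E, a * b = b * a) ∨
        Nat.card (ConjClasses E) + Nat.card (stabilizer E v) < p ^ finrank (ZMod p) V ∨
        (p = 2 ∧ finrank (ZMod p) V = 3 ∧ Nat.card E = 21)) := by
  classical
  obtain ⟨C, hCn, h, v, hv, hab, hs⟩ := hsd
  set n := finrank (ZMod p) V with hn'
  have hcE : (p ^ n - 1) * Nat.card (stabilizer E v) = Nat.card E :=
    card_eq_of_transitive (p := p) hv fun u hu => ht v u hv hu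
  have hn0 : n ≠ 0 := by omega
  have hfn : C.index ≤ n := Nat.le_of_dvd (by omega) h.index_dvd
  have hcn : Nat.card C ≤ p ^ n - 1 := Nat.le_of_dvd
    (Nat.sub_pos_of_lt (Nat.one_lt_pow hn0 hp.out.one_lt)) h.dvd_pred
  have hs1 : 0 < Nat.card (stabilizer E v) := Nat.card_pos
  refine ⟨fun hp3 => ?_, v, hv, hab, ?_⟩
  · by_contra hk
    have h1 := h.lower
    have h2 : p ^ n - 1 ≤ Nat.card C * C.index := by
      rw [C.card_mul_index, ← hcE]; exact Nat.le_mul_of_pos_right _ hs1
    have h3 : Nat.card C * C.index ≤ (p - 1) * n * n :=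
      (Nat.mul_le_mul_right _ (h1.trans (Nat.mul_le_mul (by omega : Nat.card (ConjClasses E) ≤ p - 1) hfn))).trans
        (Nat.mul_le_mul_left _ hfn)
    have grow : ∀ m, 3 ≤ m → (p - 1) * m * m + 1 < p ^ m := by
      intro m hm
      obtain ⟨q, rfl⟩ : ∃ q, p = q + 3 := ⟨p - 3, by omega⟩
      rw [show q + 3 - 1 = q + 2 by omega]
      induction m, hm using Nat.le_induction with
      | base => ring_nf; nlinarith [Nat.zero_le (q ^ 3), Nat.zero_le (q ^ 2)]
      | succ m hm ih =>
        rw [pow_succ]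
        have h9 : (m + 1) * (m + 1) ≤ 3 * (m * m) := by nlinarith
        have h10 := Nat.mul_le_mul_left (q + 2) h9
        have h11 : (q + 3) ^ m * 3 ≤ (q + 3) ^ m * (q + 3) := Nat.mul_le_mul_left _ (by omega)
        nlinarith
    have h4 := grow n hn
    omega
  by_cases hab' : ∀ a b : E, a * b = b * a
  · exact Or.inl hab'
  refine Or.inr ?_
  push Not at hab'
  rcases eq_or_ne p 2 with hp2 | hp2
  · subst hp2
    have hf3 : 3 ≤ C.index := by
      have hne1 : C.index ≠ 1 := fun h1 => by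
        obtain ⟨a, b, hne⟩ := hab'
        have htop := Subgroup.index_eq_one.1 h1
        exact hne (h.comm a (htop ▸ Subgroup.mem_top a) b (htop ▸ Subgroup.mem_top b))
      have hne2 : C.index ≠ 2 := fun h2 => hE (h2 ▸ C.index_dvd_card)
      have := Subgroup.index_ne_zero_of_finite (H := C)
      omega
    rcases eq_or_ne n 3 with h3 | h3
    · refine (em (Nat.card (ConjClasses E) + Nat.card (stabilizer E v) < 2 ^ n)).imp_right
        fun _ => ⟨rfl, h3, ?_⟩
      rw [h3] at hcE hcn hfn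
      have hE21 : Nat.card C * 3 = Nat.card E := by
        rw [← show C.index = 3 by omega, C.card_mul_index]
      norm_num at hcE hcn
      omega
    left
    have hup := h.upper (B := 2 ^ (n / 3) - 1)
      (fun g hg => (h.card_fixed_le Nat.prime_two hg).2 hE) hab'
    have grow : ∀ m, 4 ≤ m → 4 * m ≤ 2 ^ m := by
      intro m hm
      induction m, hm using Nat.le_induction with
      | base => norm_num
      | succ m _ ih => rw [pow_succ]; omega
    have h4 : 2 * n * 2 ^ (n / 3) ≤ 2 ^ n := by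
      have h5 : 2 * n ≤ 2 ^ (n - n / 3) := by
        rcases Nat.lt_or_ge n 7 with h7 | h7
        · interval_cases n <;> first | omega | norm_num
        · refine le_trans ?_ (grow (n - n / 3) (by omega)) |>.trans' le_rfl
          omega
      calc 2 * n * 2 ^ (n / 3) ≤ 2 ^ (n - n / 3) * 2 ^ (n / 3) := Nat.mul_le_mul_right _ h5
        _ = 2 ^ n := by rw [← pow_add, Nat.sub_add_cancel (Nat.div_le_self n 3)]
    have hP : 1 ≤ 2 ^ (n / 3) := Nat.one_le_two_pow
    have h6 : 2 * C.index * (2 ^ (n / 3) - 1) ≤ 2 * n * (2 ^ (n / 3) - 1) :=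
      Nat.mul_le_mul_right _ (by omega)
    rw [Nat.mul_sub_one, Nat.mul_sub_one] at h6
    have h7 : 2 * n ≤ 2 * n * 2 ^ (n / 3) := Nat.le_mul_of_pos_right _ hP
    have h8 : 2 * C.index ≤ 2 * C.index * 2 ^ (n / 3) := Nat.le_mul_of_pos_right _ hP
    rw [Nat.mul_sub_one] at hup
    omega
  · left
    have hp3 : 3 ≤ p := by have := hp.out.two_le; omega
    have hup := h.upper (B := p ^ (n / 2) - 1) (fun g hg => (h.card_fixed_le hp.out hg).1) hab'
    have h4 : 2 * n * p ^ (n / 2) ≤ p ^ n := by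
      have h5 : 2 * n ≤ p ^ (n - n / 2) := by
        have grow : ∀ m, 2 ≤ m → 4 * m ≤ 3 ^ m := by
          intro m hm
          induction m, hm using Nat.le_induction with
          | base => norm_num
          | succ m _ ih => rw [pow_succ]; omega
        have := grow (n - n / 2) (by omega)
        have := Nat.pow_le_pow_left hp3 (n - n / 2)
        omega
      calc 2 * n * p ^ (n / 2) ≤ p ^ (n - n / 2) * p ^ (n / 2) := Nat.mul_le_mul_right _ h5
        _ = p ^ n := by rw [← pow_add, Nat.sub_add_cancel (Nat.div_le_self n 2)]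
    have hP : 1 ≤ p ^ (n / 2) := Nat.one_le_pow _ _ hp.out.pos
    have h6 : 2 * C.index * (p ^ (n / 2) - 1) ≤ 2 * n * (p ^ (n / 2) - 1) :=
      Nat.mul_le_mul_right _ (by omega)
    rw [Nat.mul_sub_one, Nat.mul_sub_one] at h6
    have h7 : 2 * n ≤ 2 * n * p ^ (n / 2) := Nat.le_mul_of_pos_right _ hP
    have h8 : 2 * C.index ≤ 2 * C.index * p ^ (n / 2) := Nat.le_mul_of_pos_right _ hP
    rw [Nat.mul_sub_one] at hup
    omega

/-- The class number bounds in dimension at least three. -/
theorem class_bounds (hE : ¬ p ∣ Nat.card E) (hn : 3 ≤ finrank (ZMod p) V)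
    (ht : ∀ u w : V, u ≠ 0 → w ≠ 0 → ∃ g : E, g • u = w)
    (h81 : ¬ (p = 3 ∧ finrank (ZMod p) V = 4)) :
    (3 ≤ p → p ≤ Nat.card (ConjClasses E)) ∧
    ∃ v : V, v ≠ 0 ∧ (∀ a ∈ stabilizer E v, ∀ b ∈ stabilizer E v, a * b = b * a) ∧
      ((∀ a b : E, a * b = b * a) ∨
        Nat.card (ConjClasses E) + Nat.card (stabilizer E v) < p ^ finrank (ZMod p) V ∨
        (p = 2 ∧ finrank (ZMod p) V = 3 ∧ Nat.card E = 21)) :=
  class_bounds_of_semilinear hE hn ht (exists_semiData hE hn ht h81)

end Cfsg.Agent.H45.CoprimeTrans
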