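import Cfsg.Agent.H45.CoprimeTrans.Count81
import Cfsg.Agent.H45.CoprimeTrans.SemiField
import Cfsg.Agent.H30.ClassFit.KBound

/-!
The class number bound on `3 ^ 4`.
-/

set_option autoImplicit false
set_option linter.style.haveILetI false
set_option linter.unusedSectionVars false

namespace Cfsg.Agent.H45.CoprimeTrans

open MulAction Module Cfsg.Agent.H35.ThreeBlock

universe u

variable {p : ℕ} [hp : Fact p.Prime] {E : Type u} [Group E] [Finite E] {V : Type*} [AddCommGroup V]
  [Module (ZMod p) V] [Module.Finite (ZMod p) V] [DistribMulAction E V] [SMulCommClass E (ZMod p) V]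
  [FaithfulSMul E V]

theorem eighty_one (hp3 : p = 3) (hn : finrank (ZMod p) V = 4) (hE : ¬ p ∣ Nat.card E)
    (ht : ∀ u w : V, u ≠ 0 → w ≠ 0 → ∃ g : E, g • u = w) :
    ∃ v : V, v ≠ 0 ∧ ((∀ a b : E, a * b = b * a) ∨
      Nat.card (ConjClasses E) + Nat.card (ConjClasses (stabilizer E v)) < p ^ finrank (ZMod p) V) := by
  classical
  subst hp3
  haveI : Finite V := Module.finite_of_finite (ZMod 3)
  haveI := Module.nontrivial_of_finrank_pos (R := ZMod 3) (M := V) (by omega)
  set ρ := DistribMulAction.toModuleAut (ZMod 3) V (S := E) with hρdef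
  by_cases hsl : H88.Semilinear ρ
  · obtain ⟨F, iF, iFin, e, he⟩ := hsl
    obtain ⟨-, v, hv, -, hc⟩ := class_bounds_of_semilinear (p := 3) (V := V) hE (by omega) ht
      (semiData_of_semilinear (p := 3) (by omega) ⟨F, iF, iFin, e, he⟩)
    refine ⟨v, hv, ?_⟩
    rcases hc with h | h | ⟨h, -⟩
    · exact Or.inl h
    · exact Or.inr (lt_of_le_of_lt (Nat.add_le_add_left H30.ClassFit.kcard_le_card _) h)
    · omega
  have hdvd := dvd_card_of_transitive (p := 3) (V := V) (by omega) ht
  have h5 : 5 ∣ Nat.card E := Dvd.dvd.trans (by rw [hn]; norm_num) hdvd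
  have h25 : ¬ 25 ∣ Nat.card E := by
    obtain ⟨r, hr⟩ := exists_repr (p := 3) (E := E) (V := V)
    intro h
    have h1 := h.trans (Subgroup.card_dvd_of_injective r hr)
    rw [Matrix.card_GL_field, ZMod.card, hn] at h1
    simp [Fin.prod_univ_four] at h1
  obtain ⟨hle, hk⟩ := classes_of_not_semilinear (ρ := ρ)
    (fun a b h => eq_of_smul_eq_smul fun u : V => LinearEquiv.congr_fun h u) hn
    (isSolvable_three_four rfl hn hE hdvd) hsl h5 h25 (primes_three_four rfl hn hE hdvd)
  obtain ⟨v, hv⟩ := exists_ne (0 : V)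
  refine ⟨v, hv, Or.inr ?_⟩
  have hs := card_eq_of_transitive (p := 3) hv fun u hu => ht v u hv hu
  have hks : Nat.card (ConjClasses (stabilizer E v)) ≤ Nat.card (stabilizer E v) :=
    H30.ClassFit.kcard_le_card
  rw [hn] at hs ⊢
  omega

end Cfsg.Agent.H45.CoprimeTrans
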