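import Cfsg.Agent.H45.CoprimeTrans.Regular
import Cfsg.Agent.S0016
import Cfsg.Agent.S0144
import Cfsg.Agent.S3378

/-!
The exceptional reduced group `11 ^ 2 : SL(2, 5)` and its extensions by a `p'`-group.
-/

set_option autoImplicit false
set_option linter.style.haveILetI false
set_option linter.unusedSectionVars false

namespace Cfsg.Agent.H45.CoprimeTrans

universe u

open Subgroup Cfsg

section
variable {p : ℕ} [hp : Fact p.Prime] {G : Type u} [Group G] [Finite G] {V E : Subgroup G}

theorem RedData.semiregular (h : RedData p V E) (hVE : Nat.card V = Nat.card E + 1) {e : G}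
    (he : e ∈ E) {v : G} (hv : v ∈ V) (hv1 : v ≠ 1) (hev : e * v * e⁻¹ = v) : e = 1 := by
  classical
  haveI := h.normal
  let f : E → {w : V // w ≠ 1} := fun g =>
    ⟨⟨(g : G) * v * (g : G)⁻¹, h.normal.conj_mem v hv g⟩,
      fun hw => hv1 (conj_eq_one_iff.1 (congrArg Subtype.val hw))⟩
  have hsurj : Function.Surjective f := fun w => by
    obtain ⟨g, hg, hgw⟩ := h.trans v hv _ w.1.2 hv1 fun hw => w.2 (Subtype.ext hw)
    exact ⟨⟨g, hg⟩, Subtype.ext (Subtype.ext hgw)⟩
  haveI := Fintype.ofFinite V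
  have hbij := (Nat.bijective_iff_surjective_and_card f).2 ⟨hsurj, by
    rw [Nat.card_eq_fintype_card (α := {w : V // w ≠ 1}), Fintype.card_subtype_compl,
      Fintype.card_subtype_eq, ← Nat.card_eq_fintype_card, hVE, Nat.add_sub_cancel]⟩
  exact congrArg Subtype.val (hbij.1 (a₁ := ⟨e, he⟩) (a₂ := 1)
    (Subtype.ext (Subtype.ext (by simp [f, hev]))))

theorem RedData.frobenius (h : RedData p V E) (hVE : Nat.card V = Nat.card E + 1)
    (hp3 : E = ⊥ → p ≠ 2) : IsFrobeniusComplement E := by
  classical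
  haveI := h.normal
  refine ⟨fun hb => ?_, fun ht => ?_, fun g hg => ?_⟩
  · rw [hb, Subgroup.card_bot] at hVE
    obtain ⟨w, hw⟩ := Subgroup.ne_bot_iff_exists_ne_one.1 h.ne_bot
    have ho : orderOf w = p :=
      orderOf_eq_prime (Subtype.ext (by simpa using h.exp _ w.2)) hw
    have hd : p ∣ 2 := by
      have h1 := orderOf_dvd_natCard w
      rwa [ho, hVE] at h1
    exact absurd ((Nat.prime_dvd_prime_iff_eq hp.out Nat.prime_two).1 hd) (hp3 hb)
  · exact h.ne_bot (by
      have := h.compl.disjoint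
      rw [ht, disjoint_top] at this
      exact this)
  · rw [eq_bot_iff]
    rintro x ⟨hx, hx'⟩
    rw [Subgroup.mem_bot]
    obtain ⟨y, hy, hxy⟩ := hx'
    obtain ⟨⟨⟨v, hv⟩, ⟨e, he⟩⟩, hve⟩ := h.compl.2 g
    simp only at hve
    have hv1 : v ≠ 1 := fun h1 => hg (by rw [← hve, h1, one_mul]; exact he)
    have hxy' : g * y * g⁻¹ = x := hxy
    set z := e * y * e⁻¹ with hz
    have hzE : z ∈ E := mul_mem (mul_mem he hy) (inv_mem he)
    have hxz : v * z * v⁻¹ = x := by rw [hz, ← hxy', ← hve]; group
    have h1 : v * (z * v⁻¹ * z⁻¹) = 1 := by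
      refine Subgroup.disjoint_def.1 h.compl.disjoint
        (mul_mem hv (h.normal.conj_mem _ (inv_mem hv) z)) ?_
      rw [show v * (z * v⁻¹ * z⁻¹) = (v * z * v⁻¹) * z⁻¹ by group, hxz]
      exact mul_mem hx (inv_mem hzE)
    have h2 : z * v * z⁻¹ = v := by
      have h3 := eq_inv_of_mul_eq_one_right h1
      have h4 := congrArg (·⁻¹) h3
      simp only [inv_inv] at h4
      rw [show (z * v⁻¹ * z⁻¹)⁻¹ = z * v * z⁻¹ by group] at h4
      exact h4
    have hz1 := h.semiregular hVE hzE hv hv1 h2
    rw [← hxz, hz1]; group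

/-- The centraliser of a nontrivial element of the complement lies in it. -/
theorem RedData.card_centralizer (h : RedData p V E) (hVE : Nat.card V = Nat.card E + 1) (e : E)
    (he1 : e ≠ 1) :
    Nat.card (centralizer ({(e : G)} : Set G)) = Nat.card (centralizer ({e} : Set E)) := by
  classical
  haveI := h.normal
  have key : ∀ x ∈ centralizer ({(e : G)} : Set G), x ∈ E := by
    intro x hx
    obtain ⟨⟨⟨v, hv⟩, ⟨a, ha⟩⟩, hva⟩ := h.compl.2 x
    simp only at hva
    have hxe : v * a * (e : G) = (e : G) * (v * a) := by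
      rw [hva]; exact mem_centralizer_singleton_iff.1 hx
    have h1 : v⁻¹ * ((e : G) * v * (e : G)⁻¹) = a * (e : G) * a⁻¹ * (e : G)⁻¹ := by
      calc v⁻¹ * ((e : G) * v * (e : G)⁻¹) = v⁻¹ * ((e : G) * (v * a)) * a⁻¹ * (e : G)⁻¹ := by group
        _ = v⁻¹ * (v * a * (e : G)) * a⁻¹ * (e : G)⁻¹ := by rw [hxe]
        _ = a * (e : G) * a⁻¹ * (e : G)⁻¹ := by group
    have h2 : v⁻¹ * ((e : G) * v * (e : G)⁻¹) = 1 := by
      refine Subgroup.disjoint_def.1 h.compl.disjoint
        (mul_mem (inv_mem hv) (h.normal.conj_mem v hv e)) ?_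
      rw [h1]
      exact mul_mem (mul_mem (mul_mem ha e.2) (inv_mem ha)) (inv_mem e.2)
    have h3 : (e : G) * v * (e : G)⁻¹ = v := (inv_mul_eq_one.1 h2).symm
    by_contra hxE
    have hv1 : v ≠ 1 := fun hc => hxE (by rw [← hva, hc, one_mul]; exact ha)
    exact he1 (Subtype.ext (h.semiregular hVE e.2 hv hv1 h3))
  refine Nat.card_congr
    { toFun := fun x => ⟨⟨x, key x x.2⟩, mem_centralizer_singleton_iff.2
        (Subtype.ext (mem_centralizer_singleton_iff.1 x.2))⟩
      invFun := fun x => ⟨((x : E) : G), mem_centralizer_singleton_iff.2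
        (congrArg Subtype.val (mem_centralizer_singleton_iff.1 x.2))⟩
      left_inv := fun x => rfl
      right_inv := fun x => rfl }

theorem quaternion_center : ∀ x : QuaternionGroup 2, (∀ y, x * y = y * x) → x ^ 2 = 1 := by
  decide

theorem RedData.sylow_two (h : RedData p V E) (hp11 : p = 11) (hV : Nat.card V = 121)
    (hE : Nat.card E = 120) (hns : ¬ Group.IsSolvable E) (P : Sylow 2 E) :
    Nonempty ((P : Subgroup E) ≃* QuaternionGroup 2) := by
  classical
  haveI := h.normal
  have hVE : Nat.card V = Nat.card E + 1 := by omega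
  haveI : Fact (Nat.Prime 2) := ⟨Nat.prime_two⟩
  obtain ⟨v, hv⟩ := Subgroup.ne_bot_iff_exists_ne_one.1 h.ne_bot
  have hinv : ∀ t : E, t ≠ 1 → t * t = 1 → (t : G) * v * (t : G)⁻¹ = (v : G)⁻¹ := by
    intro t ht1 ht2
    have ht2' : (t : G) * (t : G) = 1 := congrArg Subtype.val ht2
    set w := (v : G) * ((t : G) * v * (t : G)⁻¹) with hw
    have hwV : w ∈ V := mul_mem v.2 (h.normal.conj_mem _ v.2 _)
    have hfix : (t : G) * w * (t : G)⁻¹ = w := by
      calc (t : G) * w * (t : G)⁻¹ =
            ((t : G) * v * (t : G)⁻¹) * (((t : G) * (t : G)) * v * ((t : G) * (t : G))⁻¹) := by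
              rw [hw]; group
        _ = ((t : G) * v * (t : G)⁻¹) * v := by rw [ht2']; group
        _ = w := by rw [hw, h.comm _ (h.normal.conj_mem _ v.2 _) _ v.2]
    have hw1 : w = 1 := by
      by_contra hne
      exact ht1 (Subtype.ext (h.semiregular hVE t.2 hwV hne hfix))
    exact eq_inv_of_mul_eq_one_right hw1
  have huniq : ∀ t t' : E, t ≠ 1 → t * t = 1 → t' ≠ 1 → t' * t' = 1 → t = t' := by
    intro t t' h1 h2 h3 h4
    have h5 : ((t'⁻¹ * t : E) : G) * v * ((t'⁻¹ * t : E) : G)⁻¹ = v := by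
      rw [Subgroup.coe_mul, Subgroup.coe_inv]
      calc (t' : G)⁻¹ * t * v * ((t' : G)⁻¹ * t)⁻¹
          = (t' : G)⁻¹ * ((t : G) * v * (t : G)⁻¹) * t' := by group
        _ = (t' : G)⁻¹ * ((t' : G) * v * (t' : G)⁻¹) * t' := by rw [hinv t h1 h2, hinv t' h3 h4]
        _ = v := by group
    have h6 := h.semiregular hVE (t'⁻¹ * t).2 v.2 (fun hc => hv (Subtype.ext hc)) h5
    exact (inv_mul_eq_one.1 (Subtype.ext h6)).symm
  have hP8 : Nat.card (P : Subgroup E) = 8 := by
    rw [show Nat.card (P : Subgroup E) = Nat.card P from rfl, P.card_eq_multiplicity, hE]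
    have h8 : (120 : ℕ).factorization 2 = 3 := by
      rw [show (120 : ℕ) = 2 ^ 3 * 15 from rfl, Nat.factorization_mul (by norm_num) (by norm_num),
        Finsupp.add_apply, Nat.Prime.factorization_pow Nat.prime_two, Finsupp.single_eq_same,
        Nat.factorization_eq_zero_of_not_dvd (n := 15) (p := 2) (by norm_num)]
    rw [h8]; norm_num
  rcases Cfsg.Agent.S0016.result 2 P.isPGroup' (fun A B hA hB => by
    have gen : ∀ A : Subgroup (P : Subgroup E), Nat.card A = 2 →
        ∃ a : (P : Subgroup E), a ≠ 1 ∧ a * a = 1 ∧ A = zpowers a := by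
      intro A hA
      obtain ⟨a, ha⟩ := exists_prime_orderOf_dvd_card' (G := A) 2 (dvd_of_eq hA.symm)
      refine ⟨a, fun h1 => ?_, ?_, (Subgroup.eq_of_le_of_card_ge (zpowers_le.2 a.2) ?_).symm⟩
      · rw [show a = 1 from Subtype.ext h1, orderOf_one] at ha; norm_num at ha
      · rw [← pow_two, ← Subgroup.coe_pow, orderOf_dvd_iff_pow_eq_one.1 (dvd_of_eq ha),
          Subgroup.coe_one]
      · rw [Nat.card_zpowers, Subgroup.orderOf_coe, ha, hA]
    obtain ⟨a, ha1, ha2, rfl⟩ := gen A hA
    obtain ⟨b, hb1, hb2, rfl⟩ := gen B hB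
    rw [show a = b from Subtype.ext (huniq a b (fun hc => ha1 (Subtype.ext hc))
      (congrArg Subtype.val ha2) (fun hc => hb1 (Subtype.ext hc)) (congrArg Subtype.val hb2))]) with
    hc | ⟨-, n, ⟨e⟩⟩
  · exfalso
    haveI := hc
    have hle := hc.normalizer_le_centralizer (P := P) (by rw [hE]; norm_num)
    haveI hK : Group.IsSolvable (MonoidHom.transferSylow P hle).ker := by
      have hc15 : Nat.card (MonoidHom.transferSylow P hle).ker = 15 := by
        have h1 := (MonoidHom.ker_transferSylow_isComplement' P hle).card_mul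
        rw [hP8, hE] at h1
        omega
      exact Cfsg.Agent.S0144.result 3 5 1 1 Nat.prime_three (by norm_num) (by rw [hc15]; norm_num)
    haveI : Group.IsSolvable (P : Subgroup E) := Group.isSolvable_of_comm fun a b =>
      (IsCyclic.commGroup (α := (P : Subgroup E))).mul_comm a b
    exact hns (Group.isSolvable_of_ker_le_range (MonoidHom.transferSylow P hle).ker.subtype
      (MonoidHom.transferSylow P hle) (by rw [Subgroup.range_subtype]))
  · have h1 : Nat.card (QuaternionGroup (2 ^ n)) = 8 := by rw [← Nat.card_congr e.toEquiv, hP8]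
    rw [Nat.card_eq_fintype_card, QuaternionGroup.card] at h1
    have hn : n = 1 := Nat.pow_right_injective le_rfl (show 2 ^ n = 2 ^ 1 by omega)
    subst hn
    exact ⟨e⟩

/-- For each of `2`, `3`, `5` an element whose centraliser is too small for a lift. -/
theorem RedData.exists_small_centralizer (h : RedData p V E) (hp11 : p = 11)
    (hV : Nat.card V = 121) (hE : Nat.card E = 120) (hns : ¬ Group.IsSolvable E) {r : ℕ}
    (hr : r.Prime) (hrE : r ∣ Nat.card E) :
    ∃ (e : E) (j : ℕ), 1 ≤ j ∧ orderOf e = r ^ j ∧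
      ¬ r * r ^ j ∣ Nat.card (centralizer ({e} : Set E)) := by
  classical
  haveI := Fact.mk hr
  by_cases h2 : r = 2
  · subst h2
    obtain ⟨P⟩ : Nonempty (Sylow 2 E) := inferInstance
    obtain ⟨f⟩ := h.sylow_two hp11 hV hE hns P
    have ho : orderOf ((f.symm (QuaternionGroup.a 1) : (P : Subgroup E)) : E) = 4 := by
      rw [Subgroup.orderOf_coe, MulEquiv.orderOf_eq, QuaternionGroup.orderOf_a_one]
    refine ⟨((f.symm (QuaternionGroup.a 1) : (P : Subgroup E)) : E), 2, by norm_num,
      by rw [ho]; norm_num, fun hd => ?_⟩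
    set e := ((f.symm (QuaternionGroup.a 1) : (P : Subgroup E)) : E)
    obtain ⟨Q, hQ⟩ := Sylow.exists_subgroup_card_pow_prime 2 (n := 3)
      (G := centralizer ({e} : Set E)) (by simpa using hd)
    set Q' := Q.map (centralizer ({e} : Set E)).subtype with hQ'
    have hQc : Nat.card Q' = 2 ^ 3 := by
      rw [hQ', Subgroup.card_map_of_injective Subtype.val_injective, hQ]
    obtain ⟨S, hS⟩ := (IsPGroup.of_card hQc).exists_le_sylow
    obtain ⟨g⟩ := h.sylow_two hp11 hV hE hns S
    have hS8 : Nat.card (S : Subgroup E) = 8 := by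
      rw [Nat.card_congr g.toEquiv, Nat.card_eq_fintype_card, QuaternionGroup.card]
    have hQS : Q' = (S : Subgroup E) := Subgroup.eq_of_le_of_card_ge hS (by rw [hS8, hQc]; norm_num)
    have heS : e ∈ (S : Subgroup E) := by
      -- `e` centralises a Sylow subgroup, so lies in it
      have hzp : IsPGroup 2 (zpowers e) := IsPGroup.of_card (n := 2) (by rw [Nat.card_zpowers, ho]; norm_num)
      have hnorm : zpowers e ≤ normalizer ((S : Subgroup E) : Set E) := by
        rw [zpowers_le]
        refine centralizer_le_normalizer _ (mem_centralizer_iff.2 fun s hs => ?_)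
        obtain ⟨q, hq, rfl⟩ := (hQS ▸ hs : s ∈ Q')
        exact mem_centralizer_singleton_iff.1 q.2
      have hle := S.is_maximal' (hzp.to_sup_of_normal_right' S.isPGroup' hnorm) le_sup_right
      exact hle ▸ (le_sup_left : zpowers e ≤ zpowers e ⊔ (S : Subgroup E)) (mem_zpowers e)
    have hcen : ∀ s : (S : Subgroup E), ⟨e, heS⟩ * s = s * ⟨e, heS⟩ := fun s => by
      obtain ⟨q, hq, hqs⟩ := (hQS.symm ▸ s.2 : (s : E) ∈ Q')
      refine Subtype.ext ?_
      show e * (s : E) = (s : E) * e
      rw [← hqs]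
      exact (mem_centralizer_singleton_iff.1 q.2).symm
    have h4 := quaternion_center (g ⟨e, heS⟩) fun y => by
      obtain ⟨s, rfl⟩ := g.surjective y
      rw [← map_mul, ← map_mul, hcen]
    have h5 := orderOf_dvd_of_pow_eq_one h4
    rw [g.orderOf_eq, Subgroup.orderOf_mk, ho] at h5
    exact absurd (Nat.le_of_dvd two_pos h5) (by norm_num)
  · obtain ⟨e, he⟩ := exists_prime_orderOf_dvd_card' (G := E) r hrE
    refine ⟨e, 1, le_rfl, by rw [he, pow_one], fun hd => ?_⟩
    have h120 : r * r ^ 1 ∣ 120 := hE ▸ hd.trans (Subgroup.card_subgroup_dvd_card _)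
    rw [pow_one] at h120
    have hr7 : r ≤ 10 := by
      have := Nat.le_of_dvd (by norm_num) h120
      nlinarith
    interval_cases r <;> first | omega | norm_num at hr | norm_num at h120

end

section
variable {G : Type u} [Group G] [Finite G] (N : Subgroup G) [N.Normal]

theorem add_two_le {α β : Type*} [Finite α] [Finite β] (f : α → β) (hf : Function.Surjective f)
    {a b c d : α} (hab : a ≠ b) (hfab : f a = f b) (hcd : c ≠ d) (hfcd : f c = f d)
    (hne : f a ≠ f c ∨ (a = c ∧ b ≠ d)) : Nat.card β + 2 ≤ Nat.card α := by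
  classical
  haveI := Fintype.ofFinite α
  haveI := Fintype.ofFinite β
  have hsub : (Finset.univ : Finset β) ⊆
      ((Finset.univ : Finset α).erase b |>.erase d).image f := by
    intro y _
    obtain ⟨x, rfl⟩ := hf y
    rw [Finset.mem_image]
    simp only [Finset.mem_erase, Finset.mem_univ, and_true]
    rcases hne with hne | ⟨rfl, hne⟩
    · by_cases h1 : x = b
      · exact ⟨a, ⟨fun h => hne (by rw [h, ← hfcd]), hab⟩, by rw [h1, hfab]⟩
      · by_cases h2 : x = d
        · exact ⟨c, ⟨hcd, fun h => hne (by rw [h, hfab])⟩, by rw [h2, hfcd]⟩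
        · exact ⟨x, ⟨h2, h1⟩, rfl⟩
    · by_cases h1 : x = b
      · exact ⟨a, ⟨hcd, hab⟩, by rw [h1, hfab]⟩
      · by_cases h2 : x = d
        · exact ⟨a, ⟨hcd, hab⟩, by rw [h2, hfcd]⟩
        · exact ⟨x, ⟨h2, h1⟩, rfl⟩
  have h1 := (Finset.card_le_card hsub).trans Finset.card_image_le
  have hbd : b ≠ d := by
    rcases hne with hne | ⟨-, hne⟩
    · exact fun h => hne (by rw [hfab, hfcd, h])
    · exact hne
  rw [Finset.card_univ, Finset.card_erase_of_mem (by simpa using hbd.symm),
    Finset.card_erase_of_mem (Finset.mem_univ _), Finset.card_univ] at h1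
  have h2 : 2 ≤ Fintype.card α := Fintype.one_lt_card_iff.2 ⟨a, b, hab⟩
  rw [Nat.card_eq_fintype_card, Nat.card_eq_fintype_card]
  omega

/-- The extension of the exception by a nontrivial `p'`-group has at least eleven classes. -/
theorem eleven_le [Fact (Nat.Prime 11)] (hN : N ≠ ⊥) (hco : (Nat.card N).Coprime 11)
    {V E : Subgroup (G ⧸ N)} (h : RedData 11 V E) (hV : Nat.card V = 121) (hE : Nat.card E = 120)
    (hk : Nat.card (ConjClasses E) = 9) (hns : ¬ Group.IsSolvable E) :
    11 ≤ Nat.card (RegClass 11 G) := by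
  classical
  by_contra hlt
  have hVE : Nat.card V = Nat.card E + 1 := by omega
  set π := QuotientGroup.mk' N
  have hπ : Function.Surjective π := QuotientGroup.mk'_surjective N
  have hkQ : Nat.card (RegClass 11 (G ⧸ N)) = 9 := h.card_regClass.trans hk
  have hreg : ∀ x : G, ¬ 11 ∣ orderOf (π x) → ¬ 11 ∣ orderOf x := by
    intro x hx hd
    have h1 : orderOf x ∣ orderOf (π x) * Nat.card N := by
      have hmem : x ^ orderOf (π x) ∈ N :=
        (QuotientGroup.eq_one_iff _).1 ((map_pow π x _).trans (pow_orderOf_eq_one _))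
      rw [orderOf_dvd_iff_pow_eq_one, pow_mul]
      exact congrArg Subtype.val (pow_card_eq_one' (x := (⟨_, hmem⟩ : N)))
    rcases (Nat.Prime.dvd_mul (Fact.out : Nat.Prime 11)).1 (hd.trans h1) with h2 | h2
    · exact hx h2
    · exact absurd (Nat.eq_one_of_dvd_coprimes hco h2 dvd_rfl) (by norm_num)
  have hπN : ∀ n ∈ N, π n = 1 := fun n hn => (QuotientGroup.eq_one_iff n).2 hn
  have h1reg : ¬ 11 ∣ orderOf (1 : G) := by rw [orderOf_one]; norm_num
  have hNreg : ∀ n ∈ N, ¬ 11 ∣ orderOf n := fun n hn =>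
    hreg n (by rw [hπN n hn, orderOf_one]; norm_num)
  let cls : ∀ x : G, ¬ 11 ∣ orderOf x → RegClass 11 G := fun x hx =>
    ⟨ConjClasses.mk x, x, rfl, hx⟩
  have hcls : ∀ x y : G, ConjClasses.mk x = ConjClasses.mk y → IsConj x y := fun x y h =>
    ConjClasses.mk_eq_mk_iff_isConj.1 h
  have hmap : ∀ (x y : G), IsConj (π x) (π y) →
      ConjClasses.mk (π x) = ConjClasses.mk (π y) := fun x y h =>
    ConjClasses.mk_eq_mk_iff_isConj.2 h
  obtain ⟨n₀, hn₀⟩ := Subgroup.ne_bot_iff_exists_ne_one.1 hN
  have hn₀1 : (n₀ : G) ≠ 1 := fun h => hn₀ (Subtype.ext h)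
  have hbig : ∀ {x y : G} {hx : ¬ 11 ∣ orderOf x} {hy : ¬ 11 ∣ orderOf y}, IsConj (π x) (π y) →
      ¬ IsConj x y → (π x ≠ 1 ∨ (x = n₀ ∧ y ≠ 1)) → False := by
    intro x y hx hy hxy hne hcase
    refine hlt ?_
    suffices h : Nat.card (RegClass 11 (G ⧸ N)) + 2 ≤ Nat.card (RegClass 11 G) by omega
    rcases hcase with hcase | ⟨rfl, hy1⟩
    · refine add_two_le (regMap π) (regMap_surjective π hπ) (a := cls 1 h1reg)
        (b := cls n₀ (hNreg _ n₀.2)) (c := cls x hx) (d := cls y hy) ?_ ?_ (fun h => hne (hcls _ _ (congrArg Subtype.val h)))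
        (Subtype.ext (hmap _ _ hxy)) (Or.inl fun h => hcase ?_)
      · exact fun h => hn₀1 (isConj_one_right.1 (hcls _ _ (congrArg Subtype.val h)))
      · exact Subtype.ext (hmap _ _ (by rw [map_one, hπN _ n₀.2]))
      · have h2 : IsConj (π 1) (π x) := ConjClasses.mk_eq_mk_iff_isConj.1 (congrArg Subtype.val h)
        rw [map_one] at h2
        exact isConj_one_right.1 h2
    · refine add_two_le (regMap π) (regMap_surjective π hπ) (a := cls n₀ hx)
        (b := cls 1 h1reg) (c := cls n₀ hx) (d := cls y hy) ?_ ?_ (fun h => hne (hcls _ _ (congrArg Subtype.val h)))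
        (Subtype.ext (hmap _ _ hxy)) (Or.inr ⟨rfl, fun h => hy1 (isConj_one_right.1 (hcls _ _ (congrArg Subtype.val h)))⟩)
      · exact fun h => hn₀1 (isConj_one_right.1 (hcls _ _ (congrArg Subtype.val h)).symm)
      · exact Subtype.ext (hmap _ _ (by rw [map_one, hπN _ n₀.2]))
  -- one class in `N`
  have hNone : ∀ m ∈ N, m ≠ 1 → IsConj (n₀ : G) m := fun m hm hm1 => by
    by_contra hne
    exact hbig (hx := hNreg _ n₀.2) (hy := hNreg m hm) (by rw [hπN _ n₀.2, hπN _ hm]) hne
      (Or.inr ⟨rfl, hm1⟩)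
  have hfib : ∀ x y : G, ¬ 11 ∣ orderOf (π x) → π x ≠ 1 → π y = π x → IsConj x y := by
    intro x y hx hx1 hxy
    by_contra hne
    exact hbig (hx := hreg x hx) (hy := hreg y (by rw [hxy]; exact hx)) (by rw [hxy]) hne (Or.inl hx1)
  have hEreg : ∀ e : E, ¬ 11 ∣ orderOf (e : G ⧸ N) := fun e hd => h.not_dvd (hd.trans (by
    rw [Subgroup.orderOf_coe]; exact orderOf_dvd_natCard e))
  -- the prime of `N`
  obtain ⟨r, hr, hrd⟩ := Nat.exists_prime_and_dvd (n := orderOf (n₀ : G))
    (fun h => hn₀1 (orderOf_eq_one_iff.1 h))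
  haveI := Fact.mk hr
  have hexp : ∀ m ∈ N, m ≠ 1 → orderOf m = r := by
    obtain ⟨n₁, hn₁⟩ : ∃ n₁ ∈ N, orderOf n₁ = r := by
      refine ⟨(n₀ : G) ^ (orderOf (n₀ : G) / r), pow_mem n₀.2 _, ?_⟩
      rw [orderOf_pow_orderOf_div (orderOf_pos _).ne' hrd]
    intro m hm hm1
    have hn₁1 : n₁ ≠ 1 := fun h => by rw [h, orderOf_one] at hn₁; exact hr.ne_one hn₁.2.symm
    obtain ⟨c, hc⟩ := isConj_iff.1 ((hNone n₁ hn₁.1 hn₁1).symm.trans (hNone m hm hm1))
    rw [← hc, ← hn₁.2]
    simpa using (MulAut.conj c).orderOf_eq n₁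
  have hNr : IsPGroup r N := fun m => by
    refine ⟨1, ?_⟩
    rw [pow_one]
    rcases eq_or_ne m 1 with rfl | hm1
    · exact one_pow r
    · rw [← hexp m m.2 (fun h => hm1 (Subtype.ext h)), Subgroup.orderOf_coe, pow_orderOf_eq_one]
  have hNab : ∀ a ∈ N, ∀ b ∈ N, a * b = b * a := by
    haveI : Nontrivial N := (Subgroup.nontrivial_iff_ne_bot N).2 hN
    haveI := hNr.center_nontrivial
    obtain ⟨z, hz⟩ := exists_ne (1 : Subgroup.center N)
    intro a ha b hb
    rcases eq_or_ne a 1 with rfl | ha1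
    · rw [one_mul, mul_one]
    have hz1 : ((z : N) : G) ≠ 1 := fun h => hz (Subtype.ext (Subtype.ext h))
    obtain ⟨c, hc⟩ := isConj_iff.1 ((hNone _ (z : N).2 hz1).symm.trans (hNone a ha ha1))
    have hb' : c⁻¹ * b * c ∈ N := by simpa using (inferInstance : N.Normal).conj_mem b hb c⁻¹
    have h1 : (c⁻¹ * b * c) * ((z : N) : G) = ((z : N) : G) * (c⁻¹ * b * c) :=
      congrArg Subtype.val (Subgroup.mem_center_iff.1 z.2 ⟨_, hb'⟩)
    rw [← hc]
    calc c * ((z : N) : G) * c⁻¹ * b = c * (((z : N) : G) * (c⁻¹ * b * c)) * c⁻¹ := by group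
      _ = c * ((c⁻¹ * b * c) * ((z : N) : G)) * c⁻¹ := by rw [h1]
      _ = b * (c * ((z : N) : G) * c⁻¹) := by group
  by_cases hrE : r ∣ Nat.card E
  · -- a lift of an element of `r`-power order centralises too much
    obtain ⟨e, j, hj, heo, hsmall⟩ := h.exists_small_centralizer rfl hV hE hns hr hrE
    obtain ⟨x, hx⟩ := hπ (e : G ⧸ N)
    have he1 : e ≠ 1 := fun hc => by
      rw [hc, orderOf_one] at heo
      exact absurd heo.symm (Nat.one_lt_pow (by omega) hr.one_lt).ne'
    have hπx1 : π x ≠ 1 := by rw [hx]; exact fun hc => he1 (Subtype.ext hc)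
    set D := (centralizer ({π x} : Set (G ⧸ N))).comap π with hD
    set C := centralizer ({x} : Set G) with hC
    have hND : N ≤ D := fun m hm => by
      rw [hD, Subgroup.mem_comap, hπN m hm]
      exact one_mem _
    have hDcard : Nat.card D = Nat.card N * Nat.card (centralizer ({e} : Set E)) := by
      rw [← h.card_centralizer hVE e he1, ← hx]
      let φ : D →* centralizer ({π x} : Set (G ⧸ N)) := (π.comp D.subtype).codRestrict _ fun d => d.2
      have hφ : Function.Surjective φ := fun y => by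
        obtain ⟨g, hg⟩ := hπ (y : G ⧸ N)
        exact ⟨⟨g, by rw [hD, Subgroup.mem_comap, hg]; exact y.2⟩, Subtype.ext hg⟩
      have hker : φ.ker = N.subgroupOf D := by
        ext d
        rw [MonoidHom.mem_ker, Subgroup.mem_subgroupOf]
        exact ⟨fun h => (QuotientGroup.eq_one_iff _).1 (congrArg Subtype.val h),
          fun h => Subtype.ext (hπN _ h)⟩
      rw [← φ.ker.card_mul_index, Subgroup.index_ker, MonoidHom.range_eq_top.2 hφ,
        Subgroup.card_top, hker, Nat.card_congr (subgroupOfEquivOfLe hND).toEquiv]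
    have hCD : C ≤ D := fun g hg => by
      rw [hD, Subgroup.mem_comap, mem_centralizer_singleton_iff, ← map_mul, ← map_mul,
        mem_centralizer_singleton_iff.1 hg]
    have hidx : (C.subgroupOf D).index = Nat.card N := by
      have horb : Function.Bijective fun q : D ⧸ C.subgroupOf D => Quotient.liftOn' q
          (fun d => (⟨x⁻¹ * ((d : G) * x * (d : G)⁻¹), by
            rw [← QuotientGroup.eq_one_iff]
            show π (x⁻¹ * ((d : G) * x * (d : G)⁻¹)) = 1
            have hd := mem_centralizer_singleton_iff.1 d.2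
            rw [map_mul, map_mul, map_mul, map_inv, map_inv, hd]
            group⟩ : N))
          (fun a b hab => by
            rw [QuotientGroup.leftRel_apply, Subgroup.mem_subgroupOf] at hab
            have h1 := mem_centralizer_singleton_iff.1 hab
            refine Subtype.ext ?_
            show x⁻¹ * ((a : G) * x * (a : G)⁻¹) = x⁻¹ * ((b : G) * x * (b : G)⁻¹)
            simp only [Subgroup.coe_mul, Subgroup.coe_inv] at h1
            congr 1
            calc (a : G) * x * (a : G)⁻¹ = (a : G) * (x * ((a : G)⁻¹ * b)) * (b : G)⁻¹ := by group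
              _ = (a : G) * (((a : G)⁻¹ * b) * x) * (b : G)⁻¹ := by rw [h1]
              _ = (b : G) * x * (b : G)⁻¹ := by group) := by
        refine ⟨fun q q' hq => ?_, fun m => ?_⟩
        · induction q using Quotient.inductionOn' with
          | h a =>
          induction q' using Quotient.inductionOn' with
          | h b =>
          have h1 : x⁻¹ * ((a : G) * x * (a : G)⁻¹) = x⁻¹ * ((b : G) * x * (b : G)⁻¹) :=
            congrArg Subtype.val hq
          refine Quotient.sound' ?_
          rw [QuotientGroup.leftRel_apply, Subgroup.mem_subgroupOf, hC, mem_centralizer_singleton_iff]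
          simp only [Subgroup.coe_mul, Subgroup.coe_inv]
          have h2 := mul_left_cancel h1
          calc (a : G)⁻¹ * b * x = (a : G)⁻¹ * ((b : G) * x * (b : G)⁻¹) * b := by group
            _ = (a : G)⁻¹ * ((a : G) * x * (a : G)⁻¹) * b := by rw [h2]
            _ = x * ((a : G)⁻¹ * b) := by group
        · obtain ⟨g, hg⟩ := isConj_iff.1 (hfib x (x * m) (by rw [hx]; exact hEreg e) hπx1
            (by rw [map_mul, hπN _ m.2, mul_one]))
          have hgD : g ∈ D := by
            rw [hD, Subgroup.mem_comap, mem_centralizer_singleton_iff]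
            have h2 := congrArg π hg
            rw [map_mul, map_mul, map_mul, map_inv, hπN _ m.2, mul_one, mul_inv_eq_iff_eq_mul] at h2
            exact h2
          refine ⟨Quotient.mk'' ⟨g, hgD⟩, Subtype.ext ?_⟩
          show x⁻¹ * (g * x * g⁻¹) = m
          rw [hg, inv_mul_cancel_left]
      rw [Subgroup.index_eq_card]
      exact Nat.card_eq_of_bijective _ horb
    have hCcard : Nat.card C = Nat.card (centralizer ({e} : Set E)) := by
      have h1 := (C.subgroupOf D).card_mul_index
      rw [hidx, hDcard, Nat.card_congr (subgroupOfEquivOfLe hCD).toEquiv, mul_comm] at h1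
      exact Nat.eq_of_mul_eq_mul_left Nat.card_pos h1
    -- a fixed point of `x` in `N`
    obtain ⟨u, hu, hu1, hux⟩ : ∃ u ∈ N, u ≠ 1 ∧ x * u = u * x := by
      have hxo : IsPGroup r (zpowers x) := by
        have h2 : x ^ r ^ j ∈ N := (QuotientGroup.eq_one_iff _).1 (by
          show π (x ^ r ^ j) = 1
          rw [map_pow, ← orderOf_dvd_iff_pow_eq_one, hx, Subgroup.orderOf_coe, heo])
        have h3 : orderOf x ∣ r ^ (j + 1) := by
          rw [orderOf_dvd_iff_pow_eq_one, pow_succ, pow_mul]
          rcases eq_or_ne (x ^ r ^ j) 1 with h4 | h4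
          · rw [h4, one_pow]
          · exact orderOf_dvd_iff_pow_eq_one.1 (dvd_of_eq (hexp _ h2 h4))
        obtain ⟨i, -, hi⟩ := (Nat.dvd_prime_pow hr).1 h3
        exact IsPGroup.of_card (n := i) (by rw [Nat.card_zpowers, hi])
      let c : zpowers x →* MulAut N := MulAut.conjNormal.comp (zpowers x).subtype
      letI : MulAction (zpowers x) N := MulAction.compHom N c
      haveI : Nontrivial N := (Subgroup.nontrivial_iff_ne_bot N).2 hN
      obtain ⟨i, hi0, hi⟩ := (IsPGroup.nontrivial_iff_card hNr).1 inferInstance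
      obtain ⟨b, hb, hb1⟩ := hxo.exists_fixed_point_of_prime_dvd_card_of_fixed_point N
        (hi ▸ dvd_pow_self r hi0.ne') (a := (1 : N)) (MulAction.mem_fixedPoints.2 fun g => map_one (c g))
      refine ⟨b, b.2, fun h => hb1 (Subtype.ext h.symm), ?_⟩
      have h4 : x * (b : G) * x⁻¹ = b :=
        congrArg Subtype.val (MulAction.mem_fixedPoints.1 hb ⟨x, mem_zpowers x⟩)
      exact mul_inv_eq_iff_eq_mul.1 h4
    refine hsmall ?_
    rw [← hCcard, ← ((π.comp C.subtype).ker).card_mul_index, Subgroup.index_ker]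
    refine Nat.mul_dvd_mul ?_ ?_
    · have hmem : (⟨u, mem_centralizer_singleton_iff.2 hux.symm⟩ : C) ∈ (π.comp C.subtype).ker :=
        hπN u hu
      have h5 := orderOf_dvd_natCard (⟨_, hmem⟩ : (π.comp C.subtype).ker)
      rwa [← Subgroup.orderOf_coe, ← Subgroup.orderOf_coe, hexp u hu hu1] at h5
    · have hmem : π x ∈ (π.comp C.subtype).range :=
        ⟨⟨x, mem_centralizer_singleton_iff.2 rfl⟩, rfl⟩
      have h5 := orderOf_dvd_natCard (⟨_, hmem⟩ : (π.comp C.subtype).range)
      rwa [← Subgroup.orderOf_coe, show ((⟨π x, hmem⟩ : (π.comp C.subtype).range) : G ⧸ N) = π x from rfl,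
        hx, Subgroup.orderOf_coe, heo] at h5
  · -- `E` acts semiregularly on `N`
    set M := E.comap π with hM
    have hfree : ∀ g ∈ M, ∀ u ∈ N, u ≠ 1 → g * u = u * g → g ∈ N := by
      intro g hg u hu hu1 hgu
      by_contra hgN
      have hπg1 : π g ≠ 1 := fun h => hgN ((QuotientGroup.eq_one_iff g).1 h)
      have hπgE : ¬ r ∣ orderOf (π g) := fun hd => hrE (hd.trans (by
        rw [← Subgroup.orderOf_mk (π g) hg]; exact orderOf_dvd_natCard _))
      obtain ⟨y, hy, hyr⟩ := exists_regular_preimage (p := r) π g hπgE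
      have hgreg : ¬ 11 ∣ orderOf (π g) := hEreg ⟨π g, hg⟩
      obtain ⟨c, hc⟩ := isConj_iff.1 (hfib g y hgreg hπg1 hy)
      set u' := c * u * c⁻¹
      have hu' : u' ∈ N := (inferInstance : N.Normal).conj_mem u hu c
      have hu'1 : u' ≠ 1 := fun h => hu1 (conj_eq_one_iff.1 h)
      have hcomm : Commute y u' := by
        show y * u' = u' * y
        rw [← hc]
        calc c * g * c⁻¹ * (c * u * c⁻¹) = c * (g * u) * c⁻¹ := by group
          _ = c * (u * g) * c⁻¹ := by rw [hgu]
          _ = c * u * c⁻¹ * (c * g * c⁻¹) := by group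
      have h1 : orderOf (y * u') = orderOf y * r := by
        rw [hcomm.orderOf_mul_eq_mul_orderOf_of_coprime, hexp u' hu' hu'1]
        rw [hexp u' hu' hu'1]
        exact ((Nat.Prime.coprime_iff_not_dvd hr).2 hyr).symm
      obtain ⟨d, hd⟩ := isConj_iff.1 (hfib y (y * u') (by rw [hy]; exact hgreg)
        (by rw [hy]; exact hπg1) (by rw [map_mul, hπN _ hu', mul_one]))
      have h2 : orderOf (y * u') = orderOf y := by
        rw [← hd]; simpa using (MulAut.conj d).orderOf_eq y
      rw [h2] at h1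
      have := (Nat.mul_eq_left (orderOf_pos y).ne').1 h1.symm
      exact hr.ne_one this
    obtain ⟨a, ha⟩ := IsPGroup.iff_card.1 hNr
    haveI : Nontrivial N := (Subgroup.nontrivial_iff_ne_bot N).2 hN
    have ha1 : 1 < r ^ a := ha ▸ Finite.one_lt_card
    have hcardM : Nat.card M = Nat.card N * 120 := by
      let φ : M →* E := (π.comp M.subtype).codRestrict _ fun d => d.2
      have hφ : Function.Surjective φ := fun y => by
        obtain ⟨g, hg⟩ := hπ (y : G ⧸ N)
        exact ⟨⟨g, by rw [hM, Subgroup.mem_comap, hg]; exact y.2⟩, Subtype.ext hg⟩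
      have hNM : N ≤ M := fun m hm => by rw [hM, Subgroup.mem_comap, hπN m hm]; exact one_mem _
      have hker : φ.ker = N.subgroupOf M := by
        ext d
        rw [MonoidHom.mem_ker, Subgroup.mem_subgroupOf]
        exact ⟨fun h => (QuotientGroup.eq_one_iff _).1 (congrArg Subtype.val h),
          fun h => Subtype.ext (hπN _ h)⟩
      rw [← φ.ker.card_mul_index, Subgroup.index_ker, MonoidHom.range_eq_top.2 hφ,
        Subgroup.card_top, hE, hker, Nat.card_congr (subgroupOfEquivOfLe hNM).toEquiv]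
    -- orbits of `M` on the nontrivial elements of `N`
    letI : MulAction M {u : N // u ≠ 1} :=
      { smul := fun g u => ⟨MulAut.conjNormal (g : G) u.1, fun h => u.2 (by simpa using h)⟩
        one_smul := fun u => Subtype.ext (by
          show MulAut.conjNormal ((1 : M) : G) u.1 = u.1
          simp)
        mul_smul := fun g k u => Subtype.ext (by
          show MulAut.conjNormal ((g * k : M) : G) u.1 = _
          rw [Subgroup.coe_mul, map_mul]; rfl) }
    haveI := Fintype.ofFinite N
    have h120 : 120 ∣ r ^ a - 1 := by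
      have hc : Nat.card {u : N // u ≠ 1} = r ^ a - 1 := by
        rw [Nat.card_eq_fintype_card, Fintype.card_subtype_compl, Fintype.card_subtype_eq,
          ← Nat.card_eq_fintype_card, ha]
      rw [← hc, Nat.card_congr (MulAction.selfEquivSigmaOrbits M {u : N // u ≠ 1})]
      haveI : Fintype (Quotient (MulAction.orbitRel M {u : N // u ≠ 1})) := Fintype.ofFinite _
      rw [Nat.card_sigma]
      refine Finset.dvd_sum fun o _ => ?_
      have hstab : Nat.card (MulAction.stabilizer M o.out) = Nat.card N := by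
        have hNM : N ≤ M := fun m hm => by rw [hM, Subgroup.mem_comap, hπN m hm]; exact one_mem _
        rw [← Nat.card_congr (subgroupOfEquivOfLe hNM).toEquiv]
        congr 1
        refine congrArg (fun S : Subgroup M => ↥S) ?_
        ext g
        rw [MulAction.mem_stabilizer_iff, Subgroup.mem_subgroupOf]
        constructor
        · intro hg
          have h4 : (g : G) * (o.out.1 : G) * (g : G)⁻¹ = (o.out.1 : G) :=
            congrArg (fun z : {u : N // u ≠ 1} => ((z : N) : G)) hg
          exact hfree _ g.2 _ o.out.1.2 (fun h => o.out.2 (Subtype.ext h)) (mul_inv_eq_iff_eq_mul.1 h4)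
        · intro hg
          refine Subtype.ext (Subtype.ext ?_)
          show (g : G) * (o.out.1 : G) * (g : G)⁻¹ = _
          rw [hNab _ hg _ o.out.1.2, mul_inv_cancel_right]
      have h5 := (MulAction.stabilizer M o.out).card_mul_index
      rw [hstab, MulAction.index_stabilizer, hcardM, ← Nat.card_coe_set_eq] at h5
      rw [← Nat.eq_of_mul_eq_mul_left Nat.card_pos h5]
    -- the orbit of `G`
    have h14520 : r ^ a - 1 ∣ 14520 := by
      have hGN : Nat.card (G ⧸ N) = 14520 := by rw [← h.compl.card_mul, hV, hE]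
      let C := centralizer ({(n₀ : G)} : Set G)
      have hNC : N ≤ C := fun m hm => mem_centralizer_singleton_iff.2 (hNab m hm _ n₀.2)
      have hidx : C.index = r ^ a - 1 := by
        have hbij : Function.Bijective fun q : G ⧸ C => Quotient.liftOn' q
            (fun g => (⟨MulAut.conjNormal g n₀, fun h => hn₀ (by simpa using h)⟩ : {u : N // u ≠ 1}))
            (fun g k hgk => by
              rw [QuotientGroup.leftRel_apply] at hgk
              have h1 := mem_centralizer_singleton_iff.1 hgk
              refine Subtype.ext (Subtype.ext ?_)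
              show g * (n₀ : G) * g⁻¹ = k * (n₀ : G) * k⁻¹
              calc g * (n₀ : G) * g⁻¹ = g * ((n₀ : G) * (g⁻¹ * k)) * k⁻¹ := by group
                _ = g * ((g⁻¹ * k) * (n₀ : G)) * k⁻¹ := by rw [h1]
                _ = k * (n₀ : G) * k⁻¹ := by group) := by
          refine ⟨fun q q' hq => ?_, fun u => ?_⟩
          · induction q using Quotient.inductionOn' with
            | h g =>
            induction q' using Quotient.inductionOn' with
            | h k =>
            have h1 : g * (n₀ : G) * g⁻¹ = k * (n₀ : G) * k⁻¹ :=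
              congrArg (fun z : {u : N // u ≠ 1} => ((z : N) : G)) hq
            refine Quotient.sound' ?_
            rw [QuotientGroup.leftRel_apply, mem_centralizer_singleton_iff]
            calc g⁻¹ * k * (n₀ : G) = g⁻¹ * (k * (n₀ : G) * k⁻¹) * k := by group
              _ = g⁻¹ * (g * (n₀ : G) * g⁻¹) * k := by rw [h1]
              _ = (n₀ : G) * (g⁻¹ * k) := by group
          · obtain ⟨g, hg⟩ := isConj_iff.1 (hNone _ u.1.2 fun h => u.2 (Subtype.ext h))
            exact ⟨Quotient.mk'' g, Subtype.ext (Subtype.ext hg)⟩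
        rw [Subgroup.index_eq_card, Nat.card_eq_of_bijective _ hbij, Nat.card_eq_fintype_card,
          Fintype.card_subtype_compl, Fintype.card_subtype_eq, ← Nat.card_eq_fintype_card, ha]
      rw [← hidx, ← hGN, ← Subgroup.index_eq_card]
      exact Subgroup.index_dvd_of_le hNC
    obtain ⟨d, hd⟩ := h120
    have hdd : d ∣ 121 := by
      have h6 : 120 * d ∣ 120 * 121 := hd ▸ h14520
      exact Nat.dvd_of_mul_dvd_mul_left (by norm_num) h6
    have hd1 : d = 1 ∨ d = 11 ∨ d = 121 := by
      have h7 : d ∈ Nat.divisors 121 := Nat.mem_divisors.2 ⟨hdd, by norm_num⟩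
      rw [show Nat.divisors 121 = {1, 11, 121} by decide] at h7
      simpa using h7
    have ha0 : a ≠ 0 := fun h => by simp [h] at ha1
    rcases hd1 with rfl | rfl | rfl
    · have h8 : r ∣ 11 ^ 2 := by
        rw [show (11 : ℕ) ^ 2 = r ^ a by omega]; exact dvd_pow_self r ha0
      have h11 : r = 11 := (Nat.prime_dvd_prime_iff_eq hr (by norm_num)).1 (hr.dvd_of_dvd_pow h8)
      exact absurd (Nat.eq_one_of_dvd_coprimes hco (ha ▸ dvd_pow_self r ha0) (by rw [h11]))
        hr.ne_one
    · have h9 : r = 1321 := (Nat.prime_dvd_prime_iff_eq hr (by norm_num)).1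
        (by rw [show (1321 : ℕ) = r ^ a by omega]; exact dvd_pow_self r ha0)
      have h10 : a = 1 := by
        refine Nat.pow_right_injective hr.two_le (show r ^ a = r ^ 1 from ?_)
        rw [pow_one]; omega
      -- the automorphisms of a group of prime order commute
      haveI : IsCyclic N := isCyclic_of_prime_card (p := r) (by rw [ha, h10, pow_one])
      apply hns
      refine Group.isSolvable_of_comm fun e e' => ?_
      obtain ⟨g, hg⟩ := hπ (e : G ⧸ N)
      obtain ⟨k, hk⟩ := hπ (e' : G ⧸ N)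
      have hgM : g ∈ M := by rw [hM, Subgroup.mem_comap, hg]; exact e.2
      have hkM : k ∈ M := by rw [hM, Subgroup.mem_comap, hk]; exact e'.2
      have hconjc : (MulAut.conjNormal (g * k * g⁻¹ * k⁻¹) : MulAut N) = 1 := by
        simp only [map_mul, map_inv]
        refine (IsCyclic.mulAutMulEquiv N).injective ?_
        simp only [map_mul, map_inv, map_one]
        group
        simp [mul_comm, mul_left_comm]
      have hfix : (g * k * g⁻¹ * k⁻¹) * (n₀ : G) * (g * k * g⁻¹ * k⁻¹)⁻¹ = n₀ :=
        congrArg Subtype.val (DFunLike.congr_fun hconjc n₀)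
      have hN' := hfree _ (mul_mem (mul_mem (mul_mem hgM hkM) (inv_mem hgM)) (inv_mem hkM)) _ n₀.2
        hn₀1 (mul_inv_eq_iff_eq_mul.1 hfix)
      have h11 := hπN _ hN'
      rw [map_mul, map_mul, map_mul, map_inv, map_inv, hg, hk, mul_inv_eq_one,
        mul_inv_eq_iff_eq_mul] at h11
      exact Subtype.ext h11
    · have h8 : r ∣ 13 * 1117 := by
        rw [show (13 : ℕ) * 1117 = r ^ a by omega]; exact dvd_pow_self r ha0
      have h13 : ∀ q, q.Prime → q ∣ r ^ a → q = r := fun q hq hd =>
        (Nat.prime_dvd_prime_iff_eq hq hr).1 (hq.dvd_of_dvd_pow hd)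
      have e1 := h13 13 (by norm_num) ⟨1117, by omega⟩
      have e2 := h13 1117 (by norm_num) ⟨13, by omega⟩
      omega

end

end Cfsg.Agent.H45.CoprimeTrans
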