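import Cfsg.Agent.H45.CoprimeTrans.Solvable
import Cfsg.Agent.H25.FixedVector.Fixed
import Cfsg.Agent.H76.GLTwoTori
import Cfsg.Agent.S0144

/-!
The four pairs `(3, 4)`, `(3, 6)`, `(5, 6)`, `(17, 6)`: the transitive group is still solvable.
-/

set_option autoImplicit false
set_option linter.style.haveILetI false
set_option linter.unusedSectionVars false

namespace Cfsg.Agent.H45.CoprimeTrans

open MulAction Module CharBasic Cfsg.Agent.Arith Cfsg.Agent.H35.ThreeBlock Cfsg.Agent.H80

universe u

variable {p : ℕ} [hp : Fact p.Prime] {E : Type u} [Group E] [Finite E] {V : Type*} [AddCommGroup V]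
  [Module (ZMod p) V] [Module.Finite (ZMod p) V] [DistribMulAction E V] [SMulCommClass E (ZMod p) V]
  [FaithfulSMul E V]

/-- An element whose prime order is prime to `l - 1` centralises an element of order `l` whose
subgroup it normalises. -/
theorem commute_of_normalises {q l : ℕ} (hl : l.Prime) (hq : q.Prime) (hql : ¬ q ∣ l - 1) {x y : E}
    (hx : orderOf x = q) (hy : orderOf y = l) (hN : (Subgroup.zpowers y).Normal) : Commute x y := by
  classical
  let c : E →* MulAut (Subgroup.zpowers y) := MulAut.conjNormal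
  have h1 : orderOf (c x) ∣ q := hx ▸ orderOf_map_dvd c x
  have h2 : orderOf (c x) ∣ l - 1 := by
    refine (orderOf_dvd_natCard (c x)).trans (dvd_of_eq ?_)
    rw [IsCyclic.card_mulAut, Nat.card_zpowers, hy, Nat.totient_prime hl]
  have h3 : c x = 1 := orderOf_eq_one_iff.1
    (Nat.eq_one_of_dvd_coprimes (hq.coprime_iff_not_dvd.2 hql) h1 h2)
  have h4 : x * y * x⁻¹ = y :=
    congrArg Subtype.val (DFunLike.congr_fun h3 (⟨y, Subgroup.mem_zpowers y⟩ : Subgroup.zpowers y))
  exact mul_inv_eq_iff_eq_mul.1 h4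

theorem mem_zpowers_symm {a b : E} {l : ℕ} [Fact l.Prime] (ha : orderOf a = l) (hb : orderOf b = l)
    (h : b ∈ Subgroup.zpowers a) : a ∈ Subgroup.zpowers b := by
  have hle : Subgroup.zpowers b ≤ Subgroup.zpowers a := Subgroup.zpowers_le.2 h
  have := Subgroup.eq_of_le_of_card_ge hle (by rw [Nat.card_zpowers, Nat.card_zpowers, ha, hb])
  exact this ▸ Subgroup.mem_zpowers a

theorem orderOf_conj' {a : E} {l : ℕ} (ha : orderOf a = l) (g : E) : orderOf (g * a * g⁻¹) = l := by
  rw [← ha]; simpa using (MulAut.conj g).orderOf_eq a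

/-- In dimension six, an element of order `l` dividing `p ^ 3 - 1` primitively generates a normal
subgroup once its Sylow subgroup is normal. -/
theorem exists_normal_zpowers {l q : ℕ} [Fact l.Prime] (hn : finrank (ZMod p) V = 6)
    (hl : IsPPD l p 3) (hq : IsPPD q p 6) {x : E} (hx : orderOf x = q) (hx8 : x ^ 7 = 1)
    (hlE : l ∣ Nat.card E) (hl8 : 8 ≤ l) (hE : ¬ p ∣ Nat.card E) (P : Sylow l E)
    [hPn : (P : Subgroup E).Normal] : ∃ y : E, orderOf y = l ∧ (Subgroup.zpowers y).Normal := by
  classical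
  haveI : Finite V := Module.finite_of_finite (ZMod p)
  have hq' : IsPPD q p (finrank (ZMod p) V) := by rw [hn]; exact hq
  have hPab : ∀ a ∈ (P : Subgroup E), ∀ b ∈ (P : Subgroup E), a * b = b * a := by
    intro a ha b hb
    refine congrArg Subtype.val (Blichfeldt.commute_of_big
      ((hasFaithful (p := p) (V := V) hE).subgroup (P : Subgroup E)) ?_ ⟨a, ha⟩ ⟨b, hb⟩)
    intro s hs hsd
    obtain ⟨k, hk⟩ := IsPGroup.iff_card.1 P.isPGroup'
    rw [hk] at hsd
    rw [(Nat.prime_dvd_prime_iff_eq hs Fact.out).1 (hs.dvd_of_dvd_pow hsd), hn]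
    omega
  have hmem : ∀ a : E, orderOf a = l → a ∈ (P : Subgroup E) := by
    intro a ha
    obtain ⟨S, hS⟩ := (IsPGroup.of_card (p := l) (n := 1)
      (by rw [Nat.card_zpowers, ha, pow_one]) : IsPGroup l (Subgroup.zpowers a)).exists_le_sylow
    haveI : Subsingleton (Sylow l E) := Sylow.unique_of_normal P hPn |>.instSubsingleton
    rw [Subsingleton.elim P S]
    exact hS (Subgroup.mem_zpowers a)
  have hcm : ∀ a b : E, orderOf a = l → orderOf b = l → Commute a b := fun a b ha hb =>
    hPab a (hmem a ha) b (hmem b hb)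
  have h3 : (0 : ℕ) < 3 := by norm_num
  have hinf : ∀ a b : E, orderOf a = l → orderOf b = l → b ∉ Subgroup.zpowers a →
      fixd (p := p) (V := V) a ⊓ fixd (p := p) (V := V) b = ⊥ := by
    intro a b ha hb hab
    have := finrank_add_two_mul_le (V := V) hl h3 ha hb (hcm a b ha hb) hab
      (fixd (p := p) a ⊓ fixd (p := p) b) (fun u hu => mem_fixd.1 hu.1) (fun u hu => mem_fixd.1 hu.2)
    exact Submodule.finrank_eq_zero.1 (by omega)
  have hdim : ∀ a : E, orderOf a = l → fixd (p := p) (V := V) a ≠ ⊥ →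
      finrank (ZMod p) (fixd (p := p) (V := V) a) = 3 := by
    intro a ha hne
    obtain ⟨⟨k, hk⟩, h2⟩ := le_finrank_mvd (V := V) hl h3 ha
    have h4 := finrank_mvd_add (p := p) (V := V) a
    have h5 : finrank (ZMod p) (fixd (p := p) (V := V) a) ≠ 0 := fun h =>
      hne (Submodule.finrank_eq_zero.1 h)
    omega
  -- three such subgroups have no room
  have three : ∀ a b c : E, orderOf a = l → orderOf b = l → orderOf c = l →
      b ∉ Subgroup.zpowers a → c ∉ Subgroup.zpowers a → c ∉ Subgroup.zpowers b →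
      fixd (p := p) (V := V) a ≠ ⊥ → fixd (p := p) (V := V) b ≠ ⊥ →
      fixd (p := p) (V := V) c ≠ ⊥ → False := by
    intro a b c ha hb hc hab hac hbc fa fb fc
    have htop : fixd (p := p) (V := V) a ⊔ fixd (p := p) (V := V) b = ⊤ := by
      refine Submodule.eq_top_of_finrank_eq ?_
      have e := Submodule.finrank_sup_add_finrank_inf_eq (fixd (p := p) (V := V) a)
        (fixd (p := p) (V := V) b)
      rw [hinf a b ha hb hab, finrank_bot, hdim a ha fa, hdim b hb fb] at e
      omega
    obtain ⟨u, hu, hu0⟩ := (Submodule.ne_bot_iff _).1 fc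
    obtain ⟨u₁, hu₁, u₂, hu₂, he⟩ := Submodule.mem_sup.1 (htop ▸ Submodule.mem_top : u ∈ _ ⊔ _)
    have m₁ := smul_mem_fixd (hcm c a hc ha) hu₁
    have m₂ := smul_mem_fixd (hcm c b hc hb) hu₂
    have hsum : c • u₁ - u₁ = -(c • u₂ - u₂) := by
      have h := mem_fixd.1 hu
      rw [← he, smul_add] at h
      rw [eq_neg_iff_add_eq_zero, ← add_sub_add_comm, h, sub_self]
    have hd1 : c • u₁ - u₁ = 0 := by
      refine (Submodule.mem_bot (ZMod p)).1 (hinf a b ha hb hab ▸ ⟨Submodule.sub_mem _ m₁ hu₁, ?_⟩)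
      rw [hsum]
      exact Submodule.neg_mem _ (Submodule.sub_mem _ m₂ hu₂)
    have hd2 : c • u₂ - u₂ = 0 := by rw [hd1] at hsum; exact neg_eq_zero.1 hsum.symm
    have z1 : u₁ = 0 := (Submodule.mem_bot (ZMod p)).1
      (hinf a c ha hc hac ▸ ⟨hu₁, mem_fixd.2 (sub_eq_zero.1 hd1)⟩)
    have z2 : u₂ = 0 := (Submodule.mem_bot (ZMod p)).1
      (hinf b c hb hc hbc ▸ ⟨hu₂, mem_fixd.2 (sub_eq_zero.1 hd2)⟩)
    exact hu0 (by rw [← he, z1, z2, add_zero])
  have hfree : ∀ a : E, orderOf a = l → fixd (p := p) (V := V) a = ⊥ := by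
    intro a ha
    by_contra hne
    have hconj : ∀ g : E, fixd (p := p) (V := V) (g * a * g⁻¹) ≠ ⊥ := by
      intro g
      obtain ⟨u, hu, hu0⟩ := (Submodule.ne_bot_iff _).1 hne
      refine (Submodule.ne_bot_iff _).2 ⟨g • u, mem_fixd.2 ?_, fun h => hu0 (smul_left_cancel g (h.trans (smul_zero g).symm))⟩
      rw [← mul_smul, inv_mul_cancel_right, mul_smul, mem_fixd.1 hu]
    have hT : ∀ g h : E, g * a * g⁻¹ ∈ Subgroup.zpowers a → h * a * h⁻¹ ∈ Subgroup.zpowers a →
        g * h * a * (g * h)⁻¹ ∈ Subgroup.zpowers a := by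
      intro g h hg hh
      obtain ⟨i, hi⟩ := Subgroup.mem_zpowers_iff.1 hh
      rw [show g * h * a * (g * h)⁻¹ = g * (h * a * h⁻¹) * g⁻¹ by group, ← hi, ← conj_zpow]
      exact zpow_mem hg i
    have hxa : x * a * x⁻¹ ∈ Subgroup.zpowers a := by
      by_contra hxa
      refine three a (x * a * x⁻¹) (x * x * a * (x * x)⁻¹) ha (orderOf_conj' ha x)
        (orderOf_conj' ha _) hxa ?_ ?_ hne (hconj x) (hconj _)
      · intro h2
        have h4 := hT _ _ h2 h2
        have h8 := hT _ _ h4 h4
        rw [show x * x * (x * x) * (x * x * (x * x)) = x ^ 7 * x by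
          simp [pow_succ, mul_assoc], hx8, one_mul] at h8
        exact hxa h8
      · intro h2
        obtain ⟨i, hi⟩ := Subgroup.mem_zpowers_iff.1 h2
        refine hxa ?_
        rw [conj_zpow] at hi
        have hi' : x * a ^ i * x⁻¹ = x * (x * a * x⁻¹) * x⁻¹ := by rw [hi]; group
        rw [← mul_left_cancel (mul_right_cancel hi')]
        exact zpow_mem (Subgroup.mem_zpowers a) i
    have hinv : ∀ u ∈ fixd (p := p) (V := V) a, x • u ∈ fixd (p := p) (V := V) a := by
      intro u hu
      obtain ⟨j, hj⟩ := Subgroup.mem_zpowers_iff.1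
        (mem_zpowers_symm ha (orderOf_conj' ha x) hxa)
      have hmem : x * a * x⁻¹ ∈ stabilizer E (x • u) := by
        rw [mem_stabilizer_iff, ← mul_smul, inv_mul_cancel_right, mul_smul, mem_fixd.1 hu]
      rw [mem_fixd, ← mem_stabilizer_iff]
      exact hj ▸ zpow_mem hmem j
    have htop := eq_top_of_invariant hq' hx hinv hne
    have := hdim a ha hne
    rw [htop, finrank_top, hn] at this
    omega
  haveI : Nontrivial V := Module.nontrivial_of_finrank_pos (R := ZMod p) (by omega)
  obtain ⟨y, hy⟩ := exists_prime_orderOf_dvd_card' (G := E) l hlE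
  let B : Subgroup E :=
    { carrier := {u | u ∈ (P : Subgroup E) ∧ u ^ l = 1}
      one_mem' := ⟨one_mem _, one_pow _⟩
      mul_mem' := fun {a b} ha hb => ⟨mul_mem ha.1 hb.1, by
        rw [Commute.mul_pow (hPab a ha.1 b hb.1), ha.2, hb.2, one_mul]⟩
      inv_mem' := fun {a} ha => ⟨inv_mem ha.1, by rw [inv_pow, ha.2, inv_one]⟩ }
  have hyB : y ∈ B := ⟨hmem y hy, hy ▸ pow_orderOf_eq_one y⟩
  refine ⟨y, hy, ⟨fun z hz g => ?_⟩⟩
  obtain ⟨i, rfl⟩ := Subgroup.mem_zpowers_iff.1 hz
  rw [← conj_zpow]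
  refine zpow_mem ?_ i
  have hy1 : y ≠ 1 := fun h => by rw [h, orderOf_one] at hy; omega
  have hco : l.Coprime (Nat.card V) := by
    rw [Module.natCard_eq_pow_finrank (K := ZMod p), Nat.card_zmod]
    exact Nat.Coprime.pow_right _ ((Nat.coprime_primes Fact.out hp.out).2 (ppd_ne_base hl h3))
  exact H25.FixedVector.mem_zpowers_of_semiregular (V := V) hco (B := B) (fun b hb => hb.2)
    (fun a ha b hb => hPab a ha.1 b hb.1) (fun b hb hb1 v hv => (Submodule.mem_bot (ZMod p)).1
      (hfree b (orderOf_eq_prime hb.2 hb1) ▸ mem_fixd.2 hv))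
    ⟨hmem _ (orderOf_conj' hy g), by rw [conj_pow, hyB.2, mul_one, mul_inv_cancel]⟩ hyB hy1

/-- Elements of order seven commuting with an element of order `l` commute, in dimension six. -/
theorem commute_of_commute_y {l : ℕ} (hn : finrank (ZMod p) V = 6) (hp2 : p ≠ 2)
    (hl : IsPPD l p 3) (h7 : IsPPD 7 p 6) (hE : ¬ p ∣ Nat.card E) {x x' y : E} (hx : orderOf x = 7)
    (hx' : orderOf x' = 7) (hy : orderOf y = l) (hxy : Commute x y) (hx'y : Commute x' y) :
    Commute x x' := by
  classical
  haveI : Finite V := Module.finite_of_finite (ZMod p)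
  haveI : Finite (Module.End (ZMod p) V) := Module.finite_of_finite (ZMod p)
  haveI : Nontrivial V := Module.nontrivial_of_finrank_pos (R := ZMod p) (by omega)
  haveI : Fact (Nat.Prime 7) := ⟨by norm_num⟩
  have h7' : IsPPD 7 p (finrank (ZMod p) V) := by rw [hn]; exact h7
  set A : Subalgebra (ZMod p) (Module.End (ZMod p) V) :=
    Algebra.adjoin (ZMod p) {lin (p := p) (V := V) y} with hA
  haveI : IsMulCommutative A := inferInstance
  have hyA : (lin (p := p) (V := V) y) ∈ A := Algebra.subset_adjoin rfl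
  have hcomm : ∀ g : E, Commute g y → ∀ T ∈ A, ∀ u : V, T (g • u) = g • T u := by
    intro g hg T hT
    induction hT using Algebra.adjoin_induction with
    | mem T hT =>
      rw [Set.mem_singleton_iff] at hT
      subst hT
      exact fun u => by simp [← mul_smul, hg.eq]
    | algebraMap c => exact fun u => by simp [smul_comm]
    | add T S _ _ hT hS => exact fun u => by simp [hT u, hS u]
    | mul T S _ _ hT hS => exact fun u => by simp [hS u, hT (S u)]
  haveI : Nontrivial A := ⟨⟨0, 1, fun h => zero_ne_one (congrArg Subtype.val h)⟩⟩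
  letI : CommRing A := { (inferInstance : Ring A) with mul_comm := mul_comm' }
  haveI : NoZeroDivisors A := ⟨fun {S T} h => by
    by_cases hT : T = 0
    · exact Or.inr hT
    refine Or.inl (Subtype.ext ?_)
    obtain ⟨v, hv⟩ : ∃ v, (T : Module.End (ZMod p) V) v ≠ 0 := by
      by_contra hc
      push Not at hc
      exact hT (Subtype.ext (LinearMap.ext hc))
    exact end_eq_zero_of_apply h7' hx (hcomm x hxy S S.2) hv
      (LinearMap.congr_fun (congrArg Subtype.val h) v)⟩
  haveI : IsDomain A := NoZeroDivisors.to_isDomain A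
  letI : Field A := (Finite.isDomain_to_isField A).toField
  -- the size of the field
  let yU : (Module.End (ZMod p) V)ˣ :=
    { val := lin y
      inv := lin y⁻¹
      val_inv := LinearMap.ext fun u => by simp
      inv_val := LinearMap.ext fun u => by simp }
  have hyord : orderOf (⟨_, hyA⟩ : A) = l := by
    rw [← hy, orderOf_eq_orderOf_iff]
    intro k
    rw [Subtype.ext_iff, SubmonoidClass.coe_pow]
    constructor
    · intro h
      refine eq_of_smul_eq_smul fun u : V => ?_
      have h1 : (lin (p := p) (V := V) y ^ k) u = u := by rw [h]; rfl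
      rw [one_smul]
      refine (?_ : y ^ k • u = (lin (p := p) (V := V) y ^ k) u).trans h1
      clear h1 h
      induction k with
      | zero => simp
      | succ k ih => rw [pow_succ', pow_succ', mul_smul, ih]; rfl
    · intro h
      refine LinearMap.ext fun u => ?_
      refine (?_ : (lin (p := p) (V := V) y ^ k) u = y ^ k • u).trans (by rw [h, one_smul]; rfl)
      clear h
      induction k with
      | zero => simp
      | succ k ih => rw [pow_succ', pow_succ', mul_smul, ← ih]; rfl
  obtain ⟨k, hk⟩ : ∃ k, Nat.card A = p ^ k :=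
    ⟨finrank (ZMod p) A, by rw [Module.natCard_eq_pow_finrank (K := ZMod p), Nat.card_zmod]⟩
  haveI := Fintype.ofFinite A
  have hlk : l ∣ p ^ k - 1 := by
    rw [← hyord, ← hk, Nat.card_eq_fintype_card, orderOf_dvd_iff_pow_eq_one]
    refine FiniteField.pow_card_sub_one_eq_one _ fun h0 => ?_
    rw [h0, orderOf_zero] at hyord
    exact hl.1.ne_zero hyord.symm
  obtain ⟨e, he⟩ := (hl.dvd_iff hp.out.one_le (by norm_num)).1 hlk
  have hkd : k * finrank A V = 6 := by
    have h1 := Module.natCard_eq_pow_finrank (K := A) (V := V)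
    rw [hk, Module.natCard_eq_pow_finrank (K := ZMod p), Nat.card_zmod, hn, ← pow_mul] at h1
    exact (Nat.pow_right_injective hp.out.two_le h1).symm
  have he0 : 0 < e := Nat.pos_of_ne_zero fun h => by subst h; simp [he] at hkd
  have hd2 : finrank A V ≤ 2 := by
    by_contra hc
    nlinarith [Nat.mul_le_mul he0 (show 3 ≤ finrank A V by omega)]
  -- the centraliser of `y` acts over the field
  let D := Subgroup.centralizer ({y} : Set E)
  let f : D →* (V →ₗ[A] V) :=
    { toFun := fun g =>
        { toFun := fun u => (g : E) • u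
          map_add' := smul_add _
          map_smul' := fun T u =>
            (hcomm g (Subgroup.mem_centralizer_singleton_iff.1 g.2) T T.2 u).symm }
      map_one' := LinearMap.ext fun u => one_smul E u
      map_mul' := fun a b => LinearMap.ext fun u => mul_smul (a : E) (b : E) u }
  have hxD : x ∈ D := Subgroup.mem_centralizer_singleton_iff.2 hxy.eq
  have hx'D : x' ∈ D := Subgroup.mem_centralizer_singleton_iff.2 hx'y.eq
  have hfinj : Function.Injective f := fun a b h =>
    Subtype.ext (eq_of_smul_eq_smul fun u : V => LinearMap.congr_fun h u)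
  suffices hD : Commute (⟨x, hxD⟩ : D) ⟨x', hx'D⟩ from congrArg Subtype.val hD.eq
  rcases (show finrank A V = 1 ∨ finrank A V = 2 by
    have : finrank A V ≠ 0 := fun h => by simp [h] at hkd
    omega) with h1 | h2
  · refine hfinj ?_
    rw [map_mul, map_mul]
    obtain ⟨v, hv, hgen⟩ := finrank_eq_one_iff'.1 h1
    obtain ⟨a, ha⟩ := hgen (f ⟨x, hxD⟩ v)
    obtain ⟨b, hb⟩ := hgen (f ⟨x', hx'D⟩ v)
    refine LinearMap.ext fun u => ?_
    obtain ⟨c, rfl⟩ := hgen u
    rw [Module.End.mul_apply, Module.End.mul_apply, map_smul, map_smul, map_smul, map_smul, ← ha,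
      ← hb, map_smul, map_smul, ← ha, ← hb, smul_smul a b, smul_smul b a, mul_comm a b]
  · let b := Module.finBasisOfFinrankEq A V h2
    let φ : D →* GL (Fin 2) A :=
      ((LinearMap.toMatrixAlgEquiv b).toAlgHom.toMonoidHom.comp f).toHomUnits
    have hφ : Function.Injective φ := fun a c h =>
      hfinj ((LinearMap.toMatrixAlgEquiv b).injective (congrArg Units.val h))
    haveI : CharP A p := charP_of_injective_algebraMap (algebraMap (ZMod p) A).injective p
    have hk3 : k = 3 := by rw [h2] at hkd; omega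
    have h72 : ((2 : ℕ) : A) ≠ 0 := fun h =>
      hp2 ((Nat.prime_dvd_prime_iff_eq hp.out Nat.prime_two).1 ((CharP.cast_eq_zero_iff A p 2).1 h))
    have hns : ∀ z : E, ∀ hz : z ∈ D, orderOf z = 7 → ∀ j, 1 ≤ j → j ≤ 5 →
        (⟨φ ⟨z, hz⟩, _, rfl⟩ : φ.range) ^ j ∉ H76.GLT.scalars φ.range := by
      intro z hz hzo j hj1 hj5 hmem
      obtain ⟨c, hc⟩ := hmem
      have hc' : LinearMap.toMatrixAlgEquiv b (f (⟨z, hz⟩ ^ j)) = c • 1 := by
        rw [map_pow, map_pow, ← hc, SubgroupClass.coe_pow, Units.val_pow_eq_pow_val]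
        rfl
      have h7pow : (⟨z, hz⟩ : D) ^ 7 = 1 := Subtype.ext (hzo ▸ pow_orderOf_eq_one z)
      have hc7 : c ^ 7 = 1 := by
        have h1 : (c • (1 : Matrix (Fin 2) (Fin 2) A)) ^ 7 = 1 := by
          rw [← hc', ← map_pow, ← map_pow, ← pow_mul, mul_comm, pow_mul, h7pow, one_pow, map_one,
            map_one]
        have h2' := congrFun (congrFun h1 0) 0
        simpa [smul_pow] using h2'
      have hc1 : c = 1 := by
        by_contra hne
        have ho : orderOf c = 7 := orderOf_eq_prime hc7 hne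
        refine h7.2.2 3 (by norm_num) (by norm_num) ?_
        rw [← hk3, ← hk, Nat.card_eq_fintype_card, ← ho, orderOf_dvd_iff_pow_eq_one]
        exact FiniteField.pow_card_sub_one_eq_one _ fun h0 => by simp [h0] at hc7
      rw [hc1, one_smul] at hc'
      have hzj : (⟨z, hz⟩ : D) ^ j = 1 := hfinj ((LinearMap.toMatrixAlgEquiv b).injective
        (hc'.trans (by rw [map_one, map_one])))
      have hd := orderOf_dvd_iff_pow_eq_one.2 (congrArg Subtype.val hzj : z ^ j = 1)
      rw [hzo] at hd
      have := Nat.le_of_dvd (by omega) hd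
      omega
    have hcop : ∀ z : φ.range, (orderOf z : A) ≠ 0 := fun z h => hE
      (((CharP.cast_eq_zero_iff A p _).1 h).trans ((orderOf_dvd_natCard z).trans
        ((Subgroup.card_range_dvd φ).trans (Subgroup.card_subgroup_dvd_card D))))
    have hc := H76.GLT.commute_of_six (by exact_mod_cast h72) φ.range hcop
      (hns x hxD hx) (hns x' hx'D hx')
    refine hφ ?_
    rw [map_mul, map_mul]
    exact congrArg Subtype.val hc.eq

/-- The three pairs in dimension six. -/
theorem isSolvable_six {l : ℕ} [Fact l.Prime] (hn : finrank (ZMod p) V = 6) (hp2 : p ≠ 2)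
    (hl : IsPPD l p 3) (h7 : IsPPD 7 p 6) (h7l : ¬ 7 ∣ l - 1) (hE : ¬ p ∣ Nat.card E)
    (hdvd : p ^ finrank (ZMod p) V - 1 ∣ Nat.card E) (hl8 : 8 ≤ l) (P : Sylow l E)
    [(P : Subgroup E).Normal] : Group.IsSolvable E := by
  rw [hn] at hdvd
  haveI : Fact (Nat.Prime 7) := ⟨by norm_num⟩
  obtain ⟨x, hx⟩ := exists_prime_orderOf_dvd_card' (G := E) 7 (h7.2.1.trans hdvd)
  obtain ⟨y, hy, hN⟩ := exists_normal_zpowers (p := p) (V := V) hn hl h7 hx
    (hx ▸ pow_orderOf_eq_one x) ((hl.2.1.trans (Nat.pow_sub_one_dvd_pow_sub_one p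
      (by norm_num : 3 ∣ 6))).trans hdvd) hl8 hE P
  have h7' : IsPPD 7 p (finrank (ZMod p) V) := by rw [hn]; exact h7
  have hxy : ∀ g : E, Commute (g * x * g⁻¹) y := fun g =>
    commute_of_normalises (l := l) Fact.out (by norm_num) h7l (orderOf_conj' hx g) hy hN
  refine isSolvable_of_normal_zpowers (p := p) (V := V) h7' hx fun g => ?_
  exact mem_zpowers_of_commute (p := p) (V := V) (by omega) h7' hx (orderOf_conj' hx g)
    (commute_of_commute_y (p := p) (V := V) hn hp2 hl h7 hE hx (orderOf_conj' hx g) hy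
      (by simpa using hxy 1) (hxy g))

/-- The prime divisors for the pair `(3, 4)`. -/
theorem primes_three_four (hp3 : p = 3) (hn : finrank (ZMod p) V = 4)
    (hE : ¬ p ∣ Nat.card E) (hdvd : p ^ finrank (ZMod p) V - 1 ∣ Nat.card E) :
    ∀ q : ℕ, q.Prime → q ∣ Nat.card E → q = 2 ∨ q = 5 := by
  classical
  subst hp3
  haveI : Finite V := Module.finite_of_finite (ZMod 3)
  rw [hn] at hdvd
  have h5 : IsPPD 5 3 4 := by
    refine ⟨by norm_num, by norm_num, fun k hk hk4 => ?_⟩
    interval_cases k <;> norm_num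
  have h13 : IsPPD 13 3 3 := by
    refine ⟨by norm_num, by norm_num, fun k hk hk4 => ?_⟩
    interval_cases k <;> norm_num
  haveI : Fact (Nat.Prime 5) := ⟨by norm_num⟩
  haveI : Fact (Nat.Prime 13) := ⟨by norm_num⟩
  obtain ⟨x, hx⟩ := exists_prime_orderOf_dvd_card' (G := E) 5 (h5.2.1.trans hdvd)
  have hn13 : ¬ 13 ∣ Nat.card E := by
    intro h
    obtain ⟨P⟩ : Nonempty (Sylow 13 E) := inferInstance
    haveI := (sylow_normal_of_sq_not_dvd (hasFaithful (p := 3) (V := V) hE)
      (by rw [hn]; norm_num) P).2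
    obtain ⟨z, hz⟩ := exists_prime_orderOf_dvd_card' (G := E) 13 h
    have hmem : ∀ a : E, orderOf a = 13 → a ∈ (P : Subgroup E) := fun a ha => by
      obtain ⟨S, hS⟩ := (IsPGroup.of_card (p := 13) (n := 1)
        (by rw [Nat.card_zpowers, ha, pow_one]) : IsPGroup 13 (Subgroup.zpowers a)).exists_le_sylow
      obtain ⟨g, hg⟩ := MulAction.exists_smul_eq E P S
      rw [Sylow.smul_eq_of_normal] at hg
      exact hg ▸ hS (Subgroup.mem_zpowers a)
    have hPab : ∀ a b : E, orderOf a = 13 → orderOf b = 13 → Commute a b := fun a b ha hb =>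
      congrArg Subtype.val (Blichfeldt.commute_of_big
        ((hasFaithful (p := 3) (V := V) hE).subgroup (P : Subgroup E)) (fun q hq hqd => by
          obtain ⟨k, hk⟩ := IsPGroup.iff_card.1 P.isPGroup'
          rw [hk] at hqd
          rw [(Nat.prime_dvd_prime_iff_eq hq (Fact.out : Nat.Prime 13)).1
            (hq.dvd_of_dvd_pow hqd), hn]
          norm_num) ⟨a, hmem a ha⟩ ⟨b, hmem b hb⟩)
    have huniq : ∀ g : E, g * z * g⁻¹ ∈ Subgroup.zpowers z := fun g => by
      by_contra hc
      have := finrank_add_two_mul_le (V := V) h13 (by norm_num) hz (orderOf_conj' hz g)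
        (hPab z _ hz (orderOf_conj' hz g)) hc ⊥
        (fun u hu => by simp [(Submodule.mem_bot _).1 hu])
        (fun u hu => by simp [(Submodule.mem_bot _).1 hu])
      rw [finrank_bot, hn] at this
      omega
    haveI : (Subgroup.zpowers z).Normal := ⟨fun a ha g => by
      obtain ⟨i, rfl⟩ := Subgroup.mem_zpowers_iff.1 ha
      rw [← conj_zpow]
      exact zpow_mem (huniq g) i⟩
    have hxz : Commute x z := commute_of_normalises (l := 13) (by norm_num)
      (by norm_num : Nat.Prime 5) (by norm_num) hx hz inferInstance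
    have h5' : IsPPD 5 3 (finrank (ZMod 3) V) := by rw [hn]; exact h5
    obtain ⟨⟨k, hk⟩, hle⟩ := le_finrank_mvd (V := V) h13 (by norm_num) hz
    have hsum := finrank_mvd_add (p := 3) (V := V) z
    rw [hn] at hsum
    have hne : fixd (p := 3) (V := V) z ≠ ⊥ := fun h => by
      rw [h, finrank_bot] at hsum
      omega
    have htop := eq_top_of_invariant h5' hx (fun u hu => smul_mem_fixd hxz hu) hne
    rw [htop, finrank_top, hn] at hsum
    omega
  intro q hq hqd
  haveI := Fact.mk hq
  obtain ⟨g, hg⟩ := exists_prime_orderOf_dvd_card' (G := E) q hqd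
  have hq3 : q ≠ 3 := fun h => hE (h ▸ hqd)
  have hgq : g ^ q = 1 := hg ▸ pow_orderOf_eq_one g
  have hd := dvd_pow_finrank_mvd hq hgq hq3 (mvd (p := 3) (V := V) g)
    (fun u hu => smul_mem_mvd (Commute.refl g) hu)
    (fun u hu hf => eq_zero_of_mem_mvd_fixd hgq (not_dvd_of_ne hq hq3) hu hf)
  have hpos : 0 < finrank (ZMod 3) (mvd (p := 3) (V := V) g) := Nat.pos_of_ne_zero fun h =>
    mvd_ne_bot (p := 3) (V := V) (g := g) (fun h' => by
      rw [h', orderOf_one] at hg
      exact hq.ne_one hg.symm) (Submodule.finrank_eq_zero.1 h)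
  have hle : finrank (ZMod 3) (mvd (p := 3) (V := V) g) ≤ 4 := hn ▸ Submodule.finrank_le _
  interval_cases finrank (ZMod 3) (mvd (p := 3) (V := V) g)
  · exact Or.inl ((Nat.prime_dvd_prime_iff_eq hq Nat.prime_two).1 (by simpa using hd))
  · exact Or.inl ((Nat.prime_dvd_prime_iff_eq hq Nat.prime_two).1
      (hq.dvd_of_dvd_pow (show q ∣ 2 ^ 3 by simpa using hd)))
  · rcases hq.dvd_mul.1 (show q ∣ 2 * 13 by simpa using hd) with h | h
    · exact Or.inl ((Nat.prime_dvd_prime_iff_eq hq Nat.prime_two).1 h)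
    · exact absurd ((Nat.prime_dvd_prime_iff_eq hq (by norm_num)).1 h ▸ hqd) hn13
  · rcases hq.dvd_mul.1 (show q ∣ 2 ^ 4 * 5 by simpa using hd) with h | h
    · exact Or.inl ((Nat.prime_dvd_prime_iff_eq hq Nat.prime_two).1 (hq.dvd_of_dvd_pow h))
    · exact Or.inr ((Nat.prime_dvd_prime_iff_eq hq (by norm_num)).1 h)

/-- The pair `(3, 4)`. -/
theorem isSolvable_three_four (hp3 : p = 3) (hn : finrank (ZMod p) V = 4)
    (hE : ¬ p ∣ Nat.card E) (hdvd : p ^ finrank (ZMod p) V - 1 ∣ Nat.card E) :
    Group.IsSolvable E := by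
  classical
  haveI : Fact (Nat.Prime 3) := ⟨Nat.prime_three⟩
  have hprimes := primes_three_four (p := p) (V := V) hp3 hn hE hdvd
  refine Cfsg.Agent.S0144.result 2 5 ((Nat.card E).factorization 2) ((Nat.card E).factorization 5)
    Nat.prime_two (by norm_num) ?_
  have hcard := (Nat.card E).prod_factorization_pow_eq_self Nat.card_pos.ne'
  rw [Finsupp.prod_of_support_subset _ (s := {2, 5}) (fun q hq => by
    rw [Nat.support_factorization] at hq
    rcases hprimes q (Nat.prime_of_mem_primeFactors hq) (Nat.dvd_of_mem_primeFactors hq) with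
      h | h <;> simp [h]) _ (fun i _ => pow_zero i), Finset.prod_pair (by norm_num)] at hcard
  exact hcard.symm

/-- A coprime transitive linear group of dimension at least three is solvable. -/
theorem isSolvable_transitive (hE : ¬ p ∣ Nat.card E) (hn : 3 ≤ finrank (ZMod p) V)
    (hdvd : p ^ finrank (ZMod p) V - 1 ∣ Nat.card E) : Group.IsSolvable E := by
  classical
  have hppd : ∀ l q m : ℕ, q.Prime → l ∣ q ^ m - 1 → l.Prime →
      (∀ k < m, 0 < k → ¬ l ∣ q ^ k - 1) → IsPPD l q m :=
    fun l q m _ h hl h' => ⟨hl, h, fun k hk hkm => h' k hkm hk⟩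
  by_cases h34 : p = 3 ∧ finrank (ZMod p) V = 4
  · exact isSolvable_three_four h34.1 h34.2 hE hdvd
  by_cases h36 : p = 3 ∧ finrank (ZMod p) V = 6
  · obtain ⟨rfl, hn6⟩ := h36
    haveI : Fact (Nat.Prime 13) := ⟨by norm_num⟩
    obtain ⟨P⟩ : Nonempty (Sylow 13 E) := inferInstance
    obtain ⟨σ, hσ⟩ := exists_complex_repr (p := 3) (E := E) (V := V) hE
    haveI := sylow_normal_half σ hσ hE (by norm_num) (by rw [hn6]) P
    exact isSolvable_six (l := 13) hn6 (by norm_num) (hppd 13 3 3 (by norm_num) (by norm_num)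
      (by norm_num) (by decide)) (hppd 7 3 6 (by norm_num) (by norm_num) (by norm_num) (by decide))
      (by norm_num) hE hdvd (by norm_num) P
  by_cases h56 : p = 5 ∧ finrank (ZMod p) V = 6
  · obtain ⟨rfl, hn6⟩ := h56
    haveI : Fact (Nat.Prime 31) := ⟨by norm_num⟩
    obtain ⟨P⟩ : Nonempty (Sylow 31 E) := inferInstance
    haveI := (sylow_normal_of_sq_not_dvd (hasFaithful (p := 5) (V := V) hE)
      (by rw [hn6]; norm_num) P).2
    exact isSolvable_six (l := 31) hn6 (by norm_num) (hppd 31 5 3 (by norm_num) (by norm_num)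
      (by norm_num) (by decide)) (hppd 7 5 6 (by norm_num) (by norm_num) (by norm_num) (by decide))
      (by norm_num) hE hdvd (by norm_num) P
  by_cases h176 : p = 17 ∧ finrank (ZMod p) V = 6
  · obtain ⟨rfl, hn6⟩ := h176
    haveI : Fact (Nat.Prime 307) := ⟨by norm_num⟩
    obtain ⟨P⟩ : Nonempty (Sylow 307 E) := inferInstance
    haveI := (sylow_normal_of_sq_not_dvd (hasFaithful (p := 17) (V := V) hE)
      (by rw [hn6]; norm_num) P).2
    exact isSolvable_six (l := 307) hn6 (by norm_num) (hppd 307 17 3 (by norm_num) (by norm_num)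
      (by norm_num) (by decide)) (hppd 7 17 6 (by norm_num) (by norm_num) (by norm_num) (by decide))
      (by norm_num) hE hdvd (by norm_num) P
  exact isSolvable_of_dim_ge_three hE hn hdvd h34 h36 h56 h176

end Cfsg.Agent.H45.CoprimeTrans
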