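import Cfsg.Agent.H88.NHall
import Cfsg.Agent.H88.NBase

/-!
A `2`-group of symplectic type inside a transitive group on `3 ^ 4`, after the proof of
`H88.hall_higman`.
-/

set_option autoImplicit false
set_option maxHeartbeats 1000000
set_option linter.style.haveILetI false
set_option linter.unusedSectionVars false

namespace Cfsg.Agent.H45.CoprimeTrans

open Cfsg.Agent.H88
open scoped commutatorElement

variable [Fact (Nat.Prime 3)] {V : Type*} [AddCommGroup V] [Module (ZMod 3) V] [Finite V] [Nontrivial V]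
  {G : Type*} [Group G] [Finite G] {ρ : G →* (V ≃ₗ[ZMod 3] V)}

theorem mem_scal_of_commute_all {e : G}
    (h : ∀ T : Module.End (ZMod 3) V, Commute (ρ e : Module.End (ZMod 3) V) T) : e ∈ scal ρ := by
  obtain ⟨v, hv⟩ := exists_ne (0 : V)
  obtain ⟨φ, hφ⟩ := LinearMap.exists_leftInverse_of_injective (LinearMap.toSpanSingleton (ZMod 3) V v)
    (LinearMap.ker_eq_bot.2 (smul_left_injective (ZMod 3) hv))
  have hφv : φ v = 1 := by
    have h1 := LinearMap.congr_fun hφ 1
    simpa using h1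
  refine ⟨φ (ρ e v), LinearMap.ext fun w => ?_⟩
  have h1 := LinearMap.congr_fun (h (φ.smulRight w)).eq v
  simp only [Module.End.mul_apply, LinearMap.smulRight_apply, hφv, one_smul] at h1
  rw [h1]
  rfl

theorem card_scal_le (hρ : Function.Injective ρ) : Nat.card (scal ρ) ≤ 2 := by
  classical
  choose c hc using fun s : scal ρ => s.2
  have h0 : ∀ s, c s ≠ 0 := fun s h => by
    have h1 := rho_inv_mul (ρ := ρ) (s : G)
    rw [hc s, h, map_zero, mul_zero] at h1
    exact zero_ne_one h1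
  refine le_trans (Nat.card_le_card_of_injective (fun s => Units.mk0 (c s) (h0 s)) fun s t hst => ?_)
    (le_of_eq (by rw [Nat.card_units, Nat.card_zmod]))
  refine Subtype.ext (eq_of_rho_eq hρ ?_)
  rw [hc s, hc t, show c s = c t from congrArg Units.val hst]

theorem exists_symplectic (hρ : Function.Injective ρ) (hd4 : Module.finrank (ZMod 3) V = 4)
    {g : G} (hgo : orderOf g = 5) (P : Subgroup G) (hP : IsPGroup 2 P)
    (hnorm : ∀ x ∈ P, g * x * g⁻¹ ∈ P) (hnc : ∃ x ∈ P, g * x ≠ x * g) :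
    ∃ S : Subgroup G, S ≤ P ∧ (∀ x ∈ S, g * x * g⁻¹ ∈ S) ∧ Nat.card S = 32 ∧
      Nat.card (scal ρ) = 2 ∧ scal ρ ≤ S ∧
      (∀ x ∈ S, g * x = x * g → x ∈ scal ρ) ∧
      (∀ x ∈ S, ∀ y ∈ S, ⁅x, y⁆ ∈ scal ρ) ∧
      (∀ e : G, (∀ x ∈ S, e * x = x * e) → e ∈ scal ρ) := by
  classical
  haveI := finite_end (q := 3) (V := V)
  haveI : FiniteDimensional (ZMod 3) V := Module.Finite.of_finite
  haveI : Fact (Nat.Prime 2) := ⟨Nat.prime_two⟩
  have hℓ : Nat.Prime 5 := Nat.prime_five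
  haveI : Fact (Nat.Prime 5) := ⟨hℓ⟩
  have hq : Nat.Prime 3 := Nat.prime_three
  have hr : Nat.Prime 2 := Nat.prime_two
  have hℓq : (5 : ℕ) ≠ 3 := by norm_num
  have hrℓ : (2 : ℕ) ≠ 5 := by norm_num
  have hrq : (2 : ℕ) ≠ 3 := by norm_num
  have hprim : ∀ k, 0 < k → k < Module.finrank (ZMod 3) V → ¬ 5 ∣ 3 ^ k - 1 := by
    intro k hk hk4
    rw [hd4] at hk4
    interval_cases k <;> norm_num
  have hbig : Module.finrank (ZMod 3) V < 5 := by omega
  obtain ⟨hfl, hcard⟩ := primitive_fieldLike hρ hℓ hℓq hprim hgo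
  have hgc : ∀ x ∈ ({g} : Set G), ∀ y ∈ ({g} : Set G), x * y = y * x := by rintro a rfl b rfl; rfl
  -- the centraliser of `g` is commutative
  have hcent : ∀ x : G, g * x = x * g → (ρ x : Module.End (ZMod 3) V) ∈ spanAlg ρ {g} := by
    intro x hx
    refine hfl.mem_of_commute (fun r hr s hs => spanAlg_comm hgc hr hs) hcard fun s hs => commute_spanAlg ?_ hs
    rintro y rfl
    show (ρ x : Module.End (ZMod 3) V) * (ρ y : Module.End (ZMod 3) V) = _
    rw [← rho_mul, ← hx, rho_mul]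
  have hcomm : ∀ x y : G, g * x = x * g → g * y = y * g → x * y = y * x := fun x y hx hy =>
    hρ (LinearEquiv.toLinearMap_injective (by
      rw [rho_mul, rho_mul]; exact (spanAlg_comm hgc (hcent x hx) (hcent y hy)).eq))
  let h := g
  -- a minimal subgroup
  let Good : ℕ → Prop := fun k => ∃ Q : Subgroup G, Q ≤ P ∧ (∀ x ∈ Q, h * x * h⁻¹ ∈ Q) ∧
    (∃ x ∈ Q, g * x ≠ x * g) ∧ Nat.card Q = k
  obtain ⟨Q, hQP, hQh, hQnc, hQk⟩ : Good (Nat.find (⟨_, P, le_rfl, hnorm, hnc, rfl⟩ : ∃ k, Good k)) := Nat.find_spec _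
  have hmin : ∀ T : Subgroup G, T ≤ Q → (∀ x ∈ T, h * x * h⁻¹ ∈ T) → (∃ x ∈ T, g * x ≠ x * g) → T = Q := fun T hT hTh hTn =>
    Subgroup.eq_of_le_of_card_ge hT (by rw [hQk]; exact Nat.find_min' _ ⟨T, hT.trans hQP, hTh, hTn, rfl⟩)
  have hQp : IsPGroup 2 Q := hP.to_le hQP
  have hpowQ : ∀ {T : Subgroup G}, (∀ x ∈ T, h * x * h⁻¹ ∈ T) → ∀ k : ℕ, ∀ x ∈ T, h ^ k * x * (h ^ k)⁻¹ ∈ T := by
    intro T hT k
    induction k with
    | zero => intro x hx; simpa using hx
    | succ k ih =>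
      intro x hx
      rw [pow_succ', mul_inv_rev, show h * h ^ k * x * ((h ^ k)⁻¹ * h⁻¹) = h * (h ^ k * x * (h ^ k)⁻¹) * h⁻¹ by group]
      exact hT _ (ih x hx)
  have hgnorm : ∀ {T : Subgroup G}, (∀ x ∈ T, h * x * h⁻¹ ∈ T) → ∀ x ∈ T, g * x * g⁻¹ ∈ T :=
    fun hT => hT
  -- abelian invariant subgroups are centralised
  obtain ⟨M, hM⟩ := hQp.exists_card_eq
  have hQpow : ∀ x ∈ Q, x ^ 2 ^ M = 1 := fun x hx => by
    have := pow_card_eq_one' (x := (⟨x, hx⟩ : Q))
    rw [hM] at this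
    exact congrArg Subtype.val this
  have habel : ∀ T : Subgroup G, T ≤ Q → (∀ x ∈ T, h * x * h⁻¹ ∈ T) → (∀ x ∈ T, ∀ y ∈ T, x * y = y * x) →
      ∀ x ∈ T, g * x = x * g := fun T hT hTh hTc =>
    commute_of_abelian hρ hℓ hℓq hprim hbig hgo (A := (T : Set G)) hTc (hgnorm hTh)
      (Nat.Coprime.pow_left M ((Nat.coprime_primes hr hq).2 hrq)) (fun x hx => hQpow x (hT hx))
  -- `Z`, the centraliser of `g`
  set Z : Subgroup G := Q ⊓ Subgroup.centralizer ({g} : Set G) with hZ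
  have hZmem : ∀ {x}, x ∈ Z ↔ x ∈ Q ∧ g * x = x * g := by
    intro x
    rw [hZ, Subgroup.mem_inf, Subgroup.mem_centralizer_singleton_iff]
    exact ⟨fun hx => ⟨hx.1, hx.2.symm⟩, fun hx => ⟨hx.1, hx.2.symm⟩⟩
  have hhg : h * g = g * h := rfl
  have hconjg : ∀ {x}, g * x = x * g → g * (h * x * h⁻¹) = h * x * h⁻¹ * g := by
    intro x hx
    show g * (g * x * g⁻¹) = g * x * g⁻¹ * g
    rw [hx, mul_inv_cancel_right, hx]
  have hZh : ∀ x ∈ Z, h * x * h⁻¹ ∈ Z := fun x hx =>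
    hZmem.2 ⟨hQh x (hZmem.1 hx).1, hconjg (hZmem.1 hx).2⟩
  -- commutators lie in `Z`
  have hder : ∀ x ∈ Q, ∀ y ∈ Q, ⁅x, y⁆ ∈ Z := by
    haveI : Group.IsNilpotent Q := hQp.isNilpotent
    set D := ⁅Q, Q⁆
    have hDQ : D ≤ Q := Subgroup.commutator_le_self Q
    have hmapQ : Q.map (MulAut.conj h).toMonoidHom ≤ Q := by
      rintro _ ⟨x, hx, rfl⟩
      exact hQh x hx
    have hDh : ∀ x ∈ D, h * x * h⁻¹ ∈ D := fun x hx => by
      have : D.map (MulAut.conj h).toMonoidHom ≤ D := by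
        rw [Subgroup.map_commutator]; exact Subgroup.commutator_mono hmapQ hmapQ
      exact this ⟨x, hx, rfl⟩
    intro x hx y hy
    refine hZmem.2 ⟨hDQ (Subgroup.commutator_mem_commutator hx hy), ?_⟩
    by_contra hne
    have hDQ' : D = Q := hmin D hDQ hDh ⟨_, Subgroup.commutator_mem_commutator hx hy, hne⟩
    haveI : Nontrivial Q := by
      obtain ⟨z, hz, hzn⟩ := hQnc
      refine ⟨⟨⟨z, hz⟩, 1, fun e => hzn ?_⟩⟩
      rw [show z = 1 from congrArg Subtype.val e]
      group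
    have hlt : commutator Q ≠ ⊤ := by
      intro e
      obtain ⟨n, hn⟩ := Subgroup.nilpotent_iff_lowerCentralSeries.1 (inferInstance : Group.IsNilpotent Q)
      have hall : ∀ k, (⊤ : Subgroup Q).lowerCentralSeries k = ⊤ := fun k => by
        induction k with
        | zero => rfl
        | succ k ih => rw [Subgroup.lowerCentralSeries_succ, ih, ← commutator_def]; exact e
      rw [hall] at hn
      exact top_ne_bot hn
    refine hlt (Subgroup.map_injective Q.subtype_injective ?_)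
    rw [Subgroup.map_subtype_commutator, ← MonoidHom.range_eq_map, Subgroup.range_subtype]
    exact hDQ'
  have hZn : ∀ x ∈ Q, ∀ z ∈ Z, x * z * x⁻¹ ∈ Z := fun x hx z hz => by
    have := Z.mul_mem (hder x hx z (hZmem.1 hz).1) hz
    simpa [commutatorElement_def] using this
  -- modulo `Z` only the identity is fixed
  have hfpf : ∀ x ∈ Q, x⁻¹ * (g * x * g⁻¹) ∈ Z → x ∈ Z := by
    intro x hx hz
    set z := x⁻¹ * (g * x * g⁻¹) with hzdef
    have hgx : g * x * g⁻¹ = x * z := by rw [hzdef]; group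
    have hgz : g * z * g⁻¹ = z := by rw [(hZmem.1 hz).2]; group
    have hiter : ∀ k : ℕ, g ^ k * x * (g ^ k)⁻¹ = x * z ^ k := by
      intro k
      induction k with
      | zero => simp
      | succ k ih =>
        calc g ^ (k + 1) * x * (g ^ (k + 1))⁻¹ = g * (g ^ k * x * (g ^ k)⁻¹) * g⁻¹ := by rw [pow_succ']; group
          _ = g * (x * z ^ k) * g⁻¹ := by rw [ih]
          _ = (g * x * g⁻¹) * (g * z * g⁻¹) ^ k := by rw [conj_pow]; group
          _ = x * z ^ (k + 1) := by rw [hgx, hgz, pow_succ']; group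
    have h1 := hiter 5
    rw [show g ^ 5 = 1 from hgo ▸ pow_orderOf_eq_one g] at h1
    have hzl : z ^ 5 = 1 := by simpa using h1.symm
    have hz1 : z = 1 := by
      have h2 := (pow_gcd_eq_one (m := 5) (n := 2 ^ M)).2 ⟨hzl, hQpow z (hZmem.1 hz).1⟩
      rw [show Nat.gcd 5 (2 ^ M) = 1 from Nat.Coprime.pow_right M ((Nat.coprime_primes hℓ hr).2 hrℓ.symm), pow_one] at h2
      exact h2
    rw [hz1, mul_one, mul_inv_eq_iff_eq_mul] at hgx
    exact hZmem.2 ⟨hx, hgx⟩
  -- `Z` is central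
  have hZc : ∀ x ∈ Q, ∀ z ∈ Z, x * z = z * x := by
    set T := Q ⊓ Subgroup.centralizer (Z : Set G)
    have hTh : ∀ x ∈ T, h * x * h⁻¹ ∈ T := by
      intro x hx
      refine ⟨hQh x hx.1, Subgroup.mem_centralizer_iff.2 fun z hz => ?_⟩
      -- write `z` as a conjugate of an element of `Z`
      have hZk := hpowQ hZh (orderOf h - 1) z hz
      have e1 : h ^ (orderOf h - 1) = h⁻¹ := eq_inv_of_mul_eq_one_left (by
        rw [← pow_succ, Nat.sub_add_cancel (orderOf_pos h), pow_orderOf_eq_one])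
      rw [e1, inv_inv] at hZk
      have := Subgroup.mem_centralizer_iff.1 hx.2 _ hZk
      calc z * (h * x * h⁻¹) = h * ((h⁻¹ * z * h) * x) * h⁻¹ := by group
        _ = h * (x * (h⁻¹ * z * h)) * h⁻¹ := by rw [this]
        _ = h * x * h⁻¹ * z := by group
    by_cases hT : ∃ x ∈ T, g * x ≠ x * g
    · have := hmin T inf_le_left hTh hT
      intro x hx z hz
      rw [← this] at hx
      exact (Subgroup.mem_centralizer_iff.1 hx.2 z hz).symm
    · exfalso
      push Not at hT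
      obtain ⟨x, hx, hxn⟩ := hQnc
      refine hxn (hZmem.1 (hfpf x hx (hZmem.2 ⟨Q.mul_mem (Q.inv_mem hx) (hgnorm hQh x hx), hT _
        ⟨Q.mul_mem (Q.inv_mem hx) (hgnorm hQh x hx), Subgroup.mem_centralizer_iff.2 fun z hz => ?_⟩⟩))).2
      -- conjugation by `x⁻¹ (g x g⁻¹)` is trivial on `Z`
      have hz' := hZn x hx z hz
      have h1 : g * (x * z * x⁻¹) * g⁻¹ = x * z * x⁻¹ := by rw [(hZmem.1 hz').2]; group
      have hgz : g * z * g⁻¹ = z := by rw [(hZmem.1 hz).2]; group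
      have h2 : (g * x * g⁻¹) * z * (g * x * g⁻¹)⁻¹ = x * z * x⁻¹ := by
        conv_rhs => rw [← h1]
        conv_lhs => rw [← hgz]
        group
      calc z * (x⁻¹ * (g * x * g⁻¹)) = x⁻¹ * (x * z * x⁻¹) * (g * x * g⁻¹) := by group
        _ = x⁻¹ * ((g * x * g⁻¹) * z * (g * x * g⁻¹)⁻¹) * (g * x * g⁻¹) := by rw [h2]
        _ = x⁻¹ * (g * x * g⁻¹) * z := by group
  -- elements centralising `Q` are in `Z`
  have hrad : ∀ x ∈ Q, (∀ y ∈ Q, x * y = y * x) → x ∈ Z := by
    intro x hx hxc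
    set T := Q ⊓ Subgroup.centralizer (Q : Set G)
    have hxT : x ∈ T := ⟨hx, Subgroup.mem_centralizer_iff.2 fun y hy => (hxc y hy).symm⟩
    refine hZmem.2 ⟨hx, habel T inf_le_left ?_ ?_ x hxT⟩
    · intro y hy
      refine ⟨hQh y hy.1, Subgroup.mem_centralizer_iff.2 fun z hz => ?_⟩
      have hZk := hpowQ hQh (orderOf h - 1) z hz
      have e1 : h ^ (orderOf h - 1) = h⁻¹ := eq_inv_of_mul_eq_one_left (by
        rw [← pow_succ, Nat.sub_add_cancel (orderOf_pos h), pow_orderOf_eq_one])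
      rw [e1, inv_inv] at hZk
      have := Subgroup.mem_centralizer_iff.1 hy.2 _ hZk
      calc z * (h * y * h⁻¹) = h * ((h⁻¹ * z * h) * y) * h⁻¹ := by group
        _ = h * (y * (h⁻¹ * z * h)) * h⁻¹ := by rw [this]
        _ = h * y * h⁻¹ * z := by group
    · exact fun y hy z hz => (Subgroup.mem_centralizer_iff.1 hy.2 z hz.1).symm
  -- the field of `Z`
  set R := spanAlg ρ (Z : Set G)
  have hRle : R ≤ spanAlg ρ {g} := Algebra.adjoin_le (by rintro _ ⟨z, hz, rfl⟩; exact hcent z (hZmem.1 hz).2)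
  have hRfl : FieldLike R := hfl.mono hRle
  have hRcomm : ∀ a ∈ R, ∀ b ∈ R, Commute a b := fun a ha b hb => spanAlg_comm hgc (hRle ha) (hRle hb)
  -- commutator pairing
  have hbil : ∀ x ∈ Q, ∀ y ∈ Q, ∀ w ∈ Q, ⁅x * y, w⁆ = ⁅x, w⁆ * ⁅y, w⁆ := by
    intro x hx y hy w hw
    have hc := hZc x hx _ (hder y hy w hw)
    have hc2 := hcomm _ _ (hZmem.1 (hder y hy w hw)).2 (hZmem.1 (hder x hx w hw)).2
    calc ⁅x * y, w⁆ = (x * ⁅y, w⁆) * x⁻¹ * ⁅x, w⁆ := by simp only [commutatorElement_def]; group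
      _ = (⁅y, w⁆ * x) * x⁻¹ * ⁅x, w⁆ := by rw [hc]
      _ = ⁅y, w⁆ * ⁅x, w⁆ := by group
      _ = ⁅x, w⁆ * ⁅y, w⁆ := hc2
  haveI : (Z.subgroupOf Q).Normal := ⟨fun z hz x => by
    rw [Subgroup.mem_subgroupOf] at hz ⊢
    exact hZn x x.2 z hz⟩
  set W := ↥Q ⧸ Z.subgroupOf Q
  haveI : Fintype W := Fintype.ofFinite W
  have hmod : ∀ a b : Q, ((a : W) = (b : W)) ↔ (a : G)⁻¹ * (b : G) ∈ Z := fun a b => by
    rw [QuotientGroup.eq, Subgroup.mem_subgroupOf]
    rfl
  let f : W → Module.End (ZMod 3) V := fun w => (ρ (w.out : G) : Module.End (ZMod 3) V)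
  have hindep := indep_of_chars hRfl hRcomm f (fun w => (ρ _).injective) (by
    intro i j hij
    obtain ⟨y, hy, hne⟩ : ∃ y ∈ Q, ⁅(i.out : G), y⁆ ≠ ⁅(j.out : G), y⁆ := by
      by_contra hall
      push Not at hall
      refine hij ?_
      rw [← Quotient.out_eq i, ← Quotient.out_eq j]
      refine (hmod i.out j.out).2 (hrad _ (Q.mul_mem (Q.inv_mem i.out.2) j.out.2) fun y hy => ?_)
      have h0 : ⁅(i.out : G)⁻¹ * j.out, y⁆ = 1 := by
        rw [hbil _ (Q.inv_mem i.out.2) _ j.out.2 y hy, ← hall y hy, ← hbil _ (Q.inv_mem i.out.2) _ i.out.2 y hy,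
          inv_mul_cancel, commutatorElement_one_left]
      exact commutatorElement_eq_one_iff_mul_comm.1 h0
    refine ⟨(ρ y : Module.End (ZMod 3) V), (ρ y⁻¹ : Module.End (ZMod 3) V),
      fun l => (ρ ⁅y, (l.out : G)⁆ : Module.End (ZMod 3) V),
      fun s hs => commute_spanAlg (fun z hz => by
        show (ρ y : Module.End (ZMod 3) V) * _ = _
        rw [← rho_mul, hZc y hy z hz, rho_mul]) hs,
      rho_inv_mul y, fun l => mem_spanAlg (hder y hy _ l.out.2), fun l => ?_, fun e => hne ?_⟩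
    · simp only [f]
      rw [← rho_mul, ← rho_mul, ← rho_mul]
      congr 2
      simp only [commutatorElement_def]
      group
    · rw [← commutatorElement_inv y (i.out : G), ← commutatorElement_inv y (j.out : G),
        hρ (LinearEquiv.toLinearMap_injective e)])
  -- counting the combinations
  have hcount : Nat.card R ^ Nat.card W ≤ Nat.card (Module.End (ZMod 3) V) := by
    rw [← Nat.card_fun]
    refine Nat.card_le_card_of_injective (fun c : W → R => ∑ w, (c w : Module.End (ZMod 3) V) * f w) fun c c' hcc => ?_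
    funext w
    refine Subtype.ext (sub_eq_zero.1 (hindep (fun w => (c w : Module.End (ZMod 3) V) - c' w)
      (fun w => R.sub_mem (c w).2 (c' w).2) ?_ w))
    simp only [sub_mul, Finset.sum_sub_distrib]
    exact sub_eq_zero.2 hcc
  have hinj : Function.Injective (fun c : W → R => ∑ w, (c w : Module.End (ZMod 3) V) * f w) := by
    intro c c' hcc
    funext w
    refine Subtype.ext (sub_eq_zero.1 (hindep (fun w => (c w : Module.End (ZMod 3) V) - c' w)
      (fun w => R.sub_mem (c w).2 (c' w).2) ?_ w))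
    simp only [sub_mul, Finset.sum_sub_distrib]
    exact sub_eq_zero.2 hcc
  have hEnd : Nat.card (Module.End (ZMod 3) V) = 3 ^ 16 := by
    rw [Module.natCard_eq_pow_finrank (K := ZMod 3), Nat.card_zmod, Module.finrank_linearMap, hd4]
  rw [hEnd] at hcount
  have hR3 : 3 ≤ Nat.card R := le_card_spanAlg _
  obtain ⟨j, hj⟩ : ∃ k, Nat.card W = 2 ^ k := (hQp.to_quotient _).exists_card_eq
  have hW16 : Nat.card W ≤ 16 := (Nat.pow_le_pow_iff_right (by norm_num : 1 < 3)).1
    ((Nat.pow_le_pow_left hR3 _).trans hcount)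
  have hW1 : 1 < Nat.card W := by
    obtain ⟨x, hx, hxn⟩ := hQnc
    refine (Finite.one_lt_card_iff_nontrivial).2 ⟨⟨((⟨x, hx⟩ : ↥Q) : W), 1, fun e => hxn ?_⟩⟩
    rw [QuotientGroup.eq_one_iff, Subgroup.mem_subgroupOf] at e
    exact (hZmem.1 e).2
  -- fixed points of `g` on `Q`
  have hQZ : Nat.card Q = Nat.card W * Nat.card Z := by
    rw [← Nat.card_congr (Subgroup.subgroupOfEquivOfLe (inf_le_left : Z ≤ Q)).toEquiv]
    exact Subgroup.card_eq_card_quotient_mul_card_subgroup _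
  have hmod5 : Nat.card Q ≡ Nat.card Z [MOD 5] := by
    have hg5 : IsPGroup 5 (Subgroup.zpowers g) :=
      IsPGroup.of_card (n := 1) (by rw [Nat.card_zpowers, hgo, pow_one])
    have hHQ : ∀ k : Subgroup.zpowers g, ∀ x ∈ Q, (k : G) * x * (k : G)⁻¹ ∈ Q := by
      rintro ⟨k, hk⟩ x hx
      obtain ⟨i, -, rfl⟩ := (IsOfFinOrder.mem_zpowers_iff_mem_range_orderOf
        (isOfFinOrder_of_finite g)).1 hk |> Finset.mem_image.1
      exact hpowQ hQh i x hx
    letI : MulAction (Subgroup.zpowers g) Q :=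
      { smul := fun k x => ⟨(k : G) * x * (k : G)⁻¹, hHQ k x x.2⟩
        one_smul := fun x => Subtype.ext (show ((1 : Subgroup.zpowers g) : G) * x * _ = _ by simp)
        mul_smul := fun k k' x => Subtype.ext (by
          show ((k * k' : Subgroup.zpowers g) : G) * x * _ =
            (k : G) * ((k' : G) * x * (k' : G)⁻¹) * (k : G)⁻¹
          simp [mul_assoc]) }
    refine (hg5.card_modEq_card_fixedPoints Q).trans ?_
    · refine congrArg (· % 5) (Nat.card_congr ?_)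
      exact
        { toFun := fun x => ⟨((x : Q) : G), hZmem.2 ⟨(x : Q).2, mul_inv_eq_iff_eq_mul.1
            (congrArg Subtype.val (x.2 ⟨g, Subgroup.mem_zpowers g⟩))⟩⟩
          invFun := fun z => ⟨⟨z, (hZmem.1 z.2).1⟩, fun k => Subtype.ext (by
            show (k : G) * (z : G) * (k : G)⁻¹ = z
            have hc : Commute g (z : G) := (hZmem.1 z.2).2
            obtain ⟨i, hi⟩ := Subgroup.mem_zpowers_iff.1 k.2
            rw [← hi, (hc.zpow_left i).eq, mul_inv_cancel_right])⟩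
          left_inv := fun x => rfl
          right_inv := fun z => rfl }
  have hWmod : Nat.card W ≡ 1 [MOD 5] := by
    have h1 : Nat.card W * Nat.card Z ≡ 1 * Nat.card Z [MOD 5] := by rw [one_mul, ← hQZ]; exact hmod5
    refine Nat.ModEq.cancel_right_of_coprime ?_ h1
    obtain ⟨k, hk⟩ := (hQp.to_le (inf_le_left : Z ≤ Q)).exists_card_eq
    rw [hk]
    exact Nat.Coprime.pow_right k (by norm_num)
  have hW : Nat.card W = 16 := by
    rw [hj] at hW16 hW1 hWmod ⊢
    have : j ≤ 4 := (Nat.pow_le_pow_iff_right (by norm_num : 1 < 2)).1 hW16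
    interval_cases j <;> simp [Nat.ModEq] at hW1 hWmod ⊢
  have hR : Nat.card R = 3 := by
    rw [hW] at hcount
    exact le_antisymm ((Nat.pow_le_pow_iff_left (by norm_num : 16 ≠ 0)).1 hcount) hR3
  have hZscal : Z ≤ scal ρ := fun z hz => by
    by_contra hzs
    have h1 : 3 ^ 2 ≤ Nat.card R := sq_le_card_spanAlg (A := (Z : Set G)) hz hzs
    omega
  have hZ1 : 1 < Nat.card Z := by
    by_contra hle
    obtain ⟨x, hx, hxn⟩ := hQnc
    refine hxn (habel Q le_rfl hQh (fun a ha b hb => ?_) x hx)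
    have h1 : ⁅a, b⁆ ∈ Z := hder a ha b hb
    rw [Subgroup.eq_bot_of_card_le Z (not_lt.1 hle), Subgroup.mem_bot] at h1
    exact commutatorElement_eq_one_iff_mul_comm.1 h1
  have hsc : Nat.card (scal ρ) = 2 := le_antisymm (card_scal_le hρ)
    (hZ1.trans_le (Subgroup.card_le_of_le hZscal))
  have hZeq : Z = scal ρ := Subgroup.eq_of_le_of_card_ge hZscal (by omega)
  refine ⟨Q, hQP, hQh, ?_, hsc, hZeq ▸ inf_le_left, fun x hx hxg => hZscal (hZmem.2 ⟨hx, hxg⟩),
    fun x hx y hy => hZscal (hder x hx y hy), fun e he => mem_scal_of_commute_all fun T => ?_⟩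
  · rw [hQZ, hW, hZeq, hsc]
  obtain ⟨c, rfl⟩ := (hinj.bijective_of_nat_card_le (by
    rw [hEnd, Nat.card_fun, hR, hW])).2 T
  refine Commute.sum_right _ _ _ fun w _ => Commute.mul_right ?_ ?_
  · refine commute_spanAlg (fun z hz => ?_) (c w).2
    show (ρ e : Module.End (ZMod 3) V) * _ = _
    rw [← rho_mul, he z (hZmem.1 hz).1, rho_mul]
  · show (ρ e : Module.End (ZMod 3) V) * _ = _
    rw [← rho_mul, he _ w.out.2, rho_mul]

end Cfsg.Agent.H45.CoprimeTrans
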