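import Cfsg.Agent.H80.Blichfeldt
import Cfsg.Agent.CharInduce.Ops
import Cfsg.Agent.S4503

/-!
A group with a normal subgroup of prime power index, complemented by a cyclic group whose nontrivial
elements have one common abelian centraliser in it, is abelian when it has a faithful character of
degree smaller than the square root of the index.
-/

set_option autoImplicit false
set_option linter.style.haveILetI false

namespace Cfsg.Agent.H45.CoprimeTrans

open scoped ComplexConjugate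
open CharBasic Cfsg.Agent.CharInduce Cfsg.Agent.H80

universe u

variable {M : Type u} [Group M] [Finite M]

/-- In an abelian group the norm of a character is at least its degree. -/
theorem degree_le_norm {A : Type u} [Group A] [Fintype A] (hab : ∀ a b : A, a * b = b * a)
    {χ : A → ℂ} (hχ : Cfsg.IsCharacter A χ) :
    ∃ N D : ℕ, Cfsg.classInner χ χ = N ∧ χ 1 = D ∧ D ≤ N := by
  have hlin := commutative_iff_forall_linear.1 hab
  refine IsChar.induction_on (p := fun φ => ∃ N D : ℕ, Cfsg.classInner φ φ = N ∧ φ 1 = D ∧ D ≤ N) hχ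
    ⟨0, 0, by simp [Cfsg.classInner], by simp, le_rfl⟩ ?_
  rintro φ ψ hφ hψ ⟨N, D, hN, hD, hDN⟩
  obtain ⟨a, ha⟩ := classInner_isChar_nat (IsIrr.isCharacter hφ) hψ
  obtain ⟨b, hb⟩ := classInner_isChar_nat hψ (IsIrr.isCharacter hφ)
  refine ⟨1 + a + (b + N), 1 + D, ?_, ?_, by omega⟩
  · rw [classInner_add_left, classInner_add_right, classInner_add_right, classInner_irr_self hφ,
      ha, hb, hN]
    push_cast
    ring
  · have h1 : φ 1 = 1 := hlin ⟨φ, hφ⟩
    rw [Pi.add_apply, h1, hD]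
    push_cast
    ring

variable {K Z : Subgroup M}

/-- Conjugates of `Z w` fill the coset `K w`, each as often as `Z` is large. -/
theorem sum_coset [K.Normal] [Fintype K] [Fintype Z] (hZK : Z ≤ K) {w : M}
    (hcent : ∀ k ∈ K, Commute k w → k ∈ Z) (hZw : ∀ z ∈ Z, Commute z w)
    (hZab : ∀ u ∈ Z, ∀ v ∈ Z, u * v = v * u)
    (hpow : ∀ k ∈ K, Commute k (w ^ Nat.card Z) → Commute k w)
    (F : M → ℝ) (hF : ∀ g h : M, F (g⁻¹ * h * g) = F h) :
    (Fintype.card Z : ℝ) * ∑ k : K, F (k * w) = (Fintype.card K : ℝ) * ∑ z : Z, F (z * w) := by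
  classical
  have hmem : ∀ (k : K) (z : Z), (k : M)⁻¹ * (z * w) * k * w⁻¹ ∈ K := by
    intro k z
    rw [show (k : M)⁻¹ * (z * w) * k * w⁻¹ = (k : M)⁻¹ * z * (w * k * w⁻¹) by group]
    exact mul_mem (mul_mem (inv_mem k.2) (hZK z.2)) ((inferInstance : K.Normal).conj_mem _ k.2 w)
  let f : K × Z → K := fun q => ⟨_, hmem q.1 q.2⟩
  have key : ∀ q q' : K × Z, f q = f q' → ((q'.1 : M) * (q.1 : M)⁻¹) ∈ Z ∧ q.2 = q'.2 := by
    rintro ⟨k, z⟩ ⟨k', z'⟩ h
    have h' : (k : M)⁻¹ * (z * w) * k * w⁻¹ = (k' : M)⁻¹ * (z' * w) * k' * w⁻¹ :=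
      congrArg Subtype.val h
    have h'' := mul_right_cancel h'
    set u := (k' : M) * (k : M)⁻¹ with hu
    have hc : u * (z * w) * u⁻¹ = z' * w := by
      rw [hu, show (k' : M) * (k : M)⁻¹ * (z * w) * ((k' : M) * (k : M)⁻¹)⁻¹ =
        (k' : M) * ((k : M)⁻¹ * (z * w) * k) * (k' : M)⁻¹ by group, h'']
      group
    have hzp : ∀ v : Z, ((v : M) * w) ^ Nat.card Z = w ^ Nat.card Z := fun v => by
      rw [(hZw v v.2).mul_pow, show (v : M) ^ Nat.card Z = 1 from
        congrArg Subtype.val (pow_card_eq_one' (x := v)), one_mul]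
    have huw : Commute u (w ^ Nat.card Z) := by
      have h1 := congrArg (· ^ Nat.card Z) hc
      simp only [conj_pow, hzp] at h1
      exact mul_inv_eq_iff_eq_mul.1 h1
    have huK : u ∈ K := mul_mem k'.2 (inv_mem k.2)
    have huw' := hpow u huK huw
    have huZ := hcent u huK huw'
    refine ⟨huZ, Subtype.ext (mul_right_cancel (b := w) ?_)⟩
    rw [← hc, mul_inv_eq_iff_eq_mul.2]
    rw [← mul_assoc, hZab u huZ z z.2, mul_assoc, huw'.eq, ← mul_assoc]
  have hle : ∀ b : K, (Finset.univ.filter fun q => f q = b).card ≤ Fintype.card Z := by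
    intro b
    rcases Finset.eq_empty_or_nonempty (Finset.univ.filter fun q => f q = b) with h | ⟨q₀, hq₀⟩
    · rw [h, Finset.card_empty]; exact Nat.zero_le _
    rw [Finset.mem_filter] at hq₀
    refine (Finset.card_le_card_of_injOn (fun q => ((q.1 : M) * (q₀.1 : M)⁻¹))
      (t := (Finset.univ : Finset Z).image Subtype.val) ?_ ?_).trans
      (Finset.card_image_le.trans le_rfl)
    · intro q hq
      simp only [Finset.coe_filter, Set.mem_ofPred_eq] at hq
      have := (key q₀ q (hq₀.2.trans hq.2.symm)).1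
      simp only [Finset.coe_image, Finset.coe_univ, Set.image_univ, Set.mem_range]
      exact ⟨⟨_, this⟩, rfl⟩
    · intro q hq q' hq' he
      simp only [Finset.coe_filter, Set.mem_ofPred_eq] at hq hq'
      exact Prod.ext (Subtype.ext (mul_right_cancel he)) (key q q' (hq.2.trans hq'.2.symm)).2
  have hsum : ∑ b : K, (Finset.univ.filter fun q => f q = b).card = ∑ _b : K, Fintype.card Z := by
    rw [← Finset.card_eq_sum_card_fiberwise (fun q _ => Finset.mem_univ (f q)),
      Finset.card_univ, Fintype.card_prod, Finset.sum_const, Finset.card_univ, smul_eq_mul]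
  have heq := (Finset.sum_eq_sum_iff_of_le fun b _ => hle b).1 hsum
  calc (Fintype.card Z : ℝ) * ∑ k : K, F (k * w)
      = ∑ b : K, ∑ q ∈ Finset.univ.filter (fun q => f q = b), F ((f q : M) * w) := by
        rw [Finset.mul_sum]
        refine Finset.sum_congr rfl fun b hb => ?_
        rw [Finset.sum_congr rfl (g := fun _ => F ((b : M) * w))
          (fun q hq => by rw [(Finset.mem_filter.1 hq).2]), Finset.sum_const, heq b hb, nsmul_eq_mul]
    _ = ∑ q : K × Z, F ((f q : M) * w) := Finset.sum_fiberwise _ _ _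
    _ = ∑ q : K × Z, F ((q.2 : M) * w) := Finset.sum_congr rfl fun q _ => by
        show F ((q.1 : M)⁻¹ * (q.2 * w) * q.1 * w⁻¹ * w) = _
        rw [inv_mul_cancel_right, hF]
    _ = _ := by
        rw [Fintype.sum_prod_type]
        simp

/-- The criterion. -/
theorem abelian_of_fpf {r a n : ℕ} (hr : r.Prime) (ha : n ^ 2 < r ^ a)
    (hF : Blichfeldt.HasFaithful n M) (K : Subgroup M) [hK : K.Normal] {y : M}
    (hy : orderOf y = r ^ a) (hrK : ¬ r ∣ Nat.card K) (hidx : K.index = r ^ a)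
    (Z : Subgroup M) (hZK : Z ≤ K) (hZab : ∀ u ∈ Z, ∀ v ∈ Z, u * v = v * u)
    (hZy : ∀ u ∈ Z, Commute u y)
    (hcent : ∀ i : ℕ, ¬ r ^ a ∣ i → ∀ k ∈ K, Commute k (y ^ i) → k ∈ Z) (u v : M) :
    u * v = v * u := by
  classical
  haveI := Fintype.ofFinite M
  have hdisj : ∀ {g : M}, g ∈ K → g ∈ Subgroup.zpowers y → g = 1 := by
    intro g hgK hgy
    refine orderOf_eq_one_iff.1 (Nat.eq_one_of_dvd_coprimes
      ((hr.coprime_iff_not_dvd.2 hrK).pow_left a) ?_ ?_)
    · rw [← hy]; exact orderOf_dvd_of_mem_zpowers hgy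
    · rw [← Subgroup.orderOf_mk g hgK]; exact orderOf_dvd_natCard _
  let Y := Subgroup.zpowers y
  have hcomp : Function.Bijective fun q : K × Y => (q.1 : M) * q.2 := by
    refine (Nat.bijective_iff_injective_and_card _).2 ⟨?_, ?_⟩
    · rintro ⟨k, w⟩ ⟨k', w'⟩ h
      have h' : (k : M) * w = (k' : M) * w' := h
      have h1 : (k' : M)⁻¹ * k = (w' : M) * (w : M)⁻¹ := by
        rw [eq_mul_inv_iff_mul_eq, mul_assoc, h', inv_mul_cancel_left]
      have h2 := hdisj (mul_mem (inv_mem k'.2) k.2) (h1 ▸ mul_mem w'.2 (inv_mem w.2))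
      refine Prod.ext (Subtype.ext (inv_mul_eq_one.1 h2).symm) (Subtype.ext ?_)
      rw [h1] at h2
      exact (mul_inv_eq_one.1 h2).symm
    · rw [Nat.card_prod, Nat.card_zpowers, hy, ← hidx, Subgroup.card_mul_index]
  let ψ : Z × Y →* M := MonoidHom.noncommCoprod Z.subtype Y.subtype fun z w => by
    obtain ⟨i, hi⟩ := Subgroup.mem_zpowers_iff.1 w.2
    show Commute (z : M) (w : M)
    rw [← hi]
    exact (hZy z z.2).zpow_right i
  have hψ : Function.Injective ψ := by
    refine (injective_iff_map_eq_one ψ).2 ?_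
    rintro ⟨z, w⟩ h
    have h' : (z : M) * w = 1 := h
    have hz := hdisj (hZK z.2) (by rw [eq_inv_of_mul_eq_one_left h']; exact inv_mem w.2)
    rw [hz, one_mul] at h'
    exact Prod.ext (Subtype.ext hz) (Subtype.ext h')
  let A := ψ.range
  haveI := Fintype.ofFinite A
  have hA : ∀ s t : A, s * t = t * s := by
    rintro ⟨_, ⟨z, w⟩, rfl⟩ ⟨_, ⟨z', w'⟩, rfl⟩
    refine Subtype.ext ?_
    show ψ (z, w) * ψ (z', w') = ψ (z', w') * ψ (z, w)
    rw [← map_mul, ← map_mul]
    congr 1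
    refine Prod.ext (Subtype.ext (hZab z z.2 z' z'.2)) ?_
    show w * w' = w' * w
    exact IsCyclic.commGroup.mul_comm w w'
  obtain ⟨s, hdeg, hker⟩ := Blichfeldt.exists_constituents hF
  suffices hlin : ∀ φ ∈ s, (φ : M → ℂ) 1 = 1 by
    have h1 : u * v * u⁻¹ * v⁻¹ = 1 :=
      hker _ fun φ hφ => Cfsg.Agent.S4503.commutator_apply _ φ.2 (hlin φ hφ) u v
    rwa [mul_inv_eq_one, mul_inv_eq_iff_eq_mul] at h1
  intro φ hφ
  obtain ⟨d, hdn, hd⟩ := hdeg φ hφ
  obtain ⟨N, D, hN, hD, hDN⟩ := degree_le_norm hA (IsChar.res (IsIrr.isCharacter φ.2) A)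
  have hDd : D = d := by
    have : (φ : M → ℂ) ((1 : A) : M) = D := hD
    rw [Subgroup.coe_one, hd] at this
    exact_mod_cast this.symm
  have hcls := IsChar.isClassFunction (IsIrr.isCharacter φ.2)
  let F : M → ℝ := fun g => ‖(φ : M → ℂ) g‖ ^ 2
  have hFc : ∀ g h : M, F (g⁻¹ * h * g) = F h := fun g h => by
    have := hcls h g⁻¹
    rw [inv_inv] at this
    simp only [F, this]
  -- the three sums
  have hM : ∑ g : M, F g = Nat.card M := by
    have h := classInner_irr_self φ.2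
    rw [classInner_self_eq, Complex.ofReal_eq_one, inv_mul_eq_one₀ (by simp [Nat.card_pos.ne'])] at h
    exact h.symm
  have hSA : ∑ g : A, F g = Nat.card A * N := by
    rw [classInner_self_eq, ← Complex.ofReal_natCast, Complex.ofReal_inj,
      inv_mul_eq_iff_eq_mul₀ (by simp [Nat.card_pos.ne'])] at hN
    exact hN
  have hsplit : ∑ g : M, F g = ∑ w : Y, ∑ k : K, F (k * w) := by
    rw [← (Equiv.ofBijective _ hcomp).sum_comp, Fintype.sum_prod_type, Finset.sum_comm]
    rfl
  have hAcard : Nat.card A = Nat.card Z * r ^ a := by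
    rw [← Nat.card_congr (MonoidHom.ofInjective hψ).toEquiv, Nat.card_prod, Nat.card_zpowers, hy]
  have hsplitA : ∑ g : A, F g = ∑ w : Y, ∑ z : Z, F (z * w) := by
    rw [← (MonoidHom.ofInjective hψ).toEquiv.sum_comp, Fintype.sum_prod_type, Finset.sum_comm]
    rfl
  have hrow : ∀ w : Y, w ≠ 1 →
      (Fintype.card Z : ℝ) * ∑ k : K, F (k * w) = (Fintype.card K : ℝ) * ∑ z : Z, F (z * w) := by
    intro w hw
    obtain ⟨i, hi⟩ := (mem_powers_iff_mem_zpowers (x := y)).2 w.2
    change y ^ i = (w : M) at hi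
    have hni : ¬ r ^ a ∣ i := fun h => hw (Subtype.ext (by
      rw [← hi, Subgroup.coe_one, ← orderOf_dvd_iff_pow_eq_one, hy]; exact h))
    have hco : (r ^ a).Coprime (Nat.card Z) :=
      Nat.Coprime.pow_left a (hr.coprime_iff_not_dvd.2 fun h =>
        hrK (h.trans (Subgroup.card_dvd_of_le hZK)))
    rw [← hi]
    refine sum_coset hZK (hcent i hni) (fun z hz => (hZy z hz).pow_right i) hZab ?_ F hFc
    intro k hk hc
    rw [← pow_mul] at hc
    have hk' := hcent (i * Nat.card Z) (fun h => hni (hco.dvd_of_dvd_mul_right h)) k hk hc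
    exact (hZy k hk').pow_right i
  have hK1 : 0 ≤ ∑ k : K, F (k * ((1 : Y) : M)) := Finset.sum_nonneg fun k _ => by positivity
  have hZ1 : ∑ z : Z, F (z * ((1 : Y) : M)) ≤ Fintype.card Z * (d : ℝ) ^ 2 := by
    refine (Finset.sum_le_card_nsmul _ _ ((d : ℝ) ^ 2) fun z _ => ?_).trans (by simp)
    obtain ⟨m, ρ, -, hρ⟩ := φ.2
    have hb := norm_character_le ρ ((z : M) * ((1 : Y) : M))
    have hm : (d : ℂ) = (Module.finrank ℂ (Fin m → ℂ) : ℂ) := by
      rw [← hd, ← hρ, Representation.char_one]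
    rw [Nat.cast_inj] at hm
    rw [← hm, hρ] at hb
    exact pow_le_pow_left₀ (norm_nonneg _) hb 2
  have hMc : (Nat.card M : ℝ) = Fintype.card K * (r : ℝ) ^ a := by
    rw [← K.card_mul_index, hidx, Nat.card_eq_fintype_card]
    push_cast
    rfl
  have hAc : (Nat.card A : ℝ) = Fintype.card Z * (r : ℝ) ^ a := by
    rw [hAcard, Nat.card_eq_fintype_card]
    push_cast
    rfl
  have e1 := Finset.add_sum_erase Finset.univ (fun w : Y => ∑ k : K, F (k * w)) (Finset.mem_univ 1)
  have e2 := Finset.add_sum_erase Finset.univ (fun w : Y => ∑ z : Z, F (z * w)) (Finset.mem_univ 1)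
  have e3 : (Fintype.card Z : ℝ) * ∑ w ∈ Finset.univ.erase (1 : Y), ∑ k : K, F (k * w) =
      (Fintype.card K : ℝ) * ∑ w ∈ Finset.univ.erase (1 : Y), ∑ z : Z, F (z * w) := by
    rw [Finset.mul_sum, Finset.mul_sum]
    exact Finset.sum_congr rfl fun w hw => hrow w (Finset.mem_erase.1 hw).1
  beta_reduce at e1 e2
  rw [← hsplit, hM, hMc] at e1
  rw [← hsplitA, hSA, hAc] at e2
  have hzpos : (0 : ℝ) < Fintype.card Z := by exact_mod_cast Fintype.card_pos
  have hkpos : (0 : ℝ) < Fintype.card K := by exact_mod_cast Fintype.card_pos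
  have hmain : (r : ℝ) ^ a * N ≤ (r : ℝ) ^ a + (d : ℝ) ^ 2 := by
    refine le_of_mul_le_mul_left ?_ (mul_pos hzpos hkpos)
    nlinarith [mul_nonneg hzpos.le hK1, mul_le_mul_of_nonneg_left hZ1 hkpos.le, e1, e2, e3]
  have hnat : r ^ a * N ≤ r ^ a + d ^ 2 := by exact_mod_cast hmain
  have hd2 : d ^ 2 ≤ n ^ 2 := Nat.pow_le_pow_left hdn 2
  have hN1 : N ≤ 1 := by
    by_contra h
    have : r ^ a * 2 ≤ r ^ a * N := Nat.mul_le_mul_left _ (by omega)
    omega
  obtain ⟨d', hd', hd''⟩ := IsIrr.exists_degree φ.2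
  have : d' = d := by rw [hd] at hd''; exact_mod_cast hd''.symm
  rw [hd, show d = 1 by omega, Nat.cast_one]

end Cfsg.Agent.H45.CoprimeTrans
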