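import Cfsg.Agent.H45.CoprimeTrans.PlaneGroup
import Cfsg.Agent.H35.ThreeBlock.DimTwo
import Cfsg.Agent.H66.OrderSixty
import Cfsg.Agent.H30.ClassFit.KBound

/-!
Class numbers of transitive coprime groups in dimension two.
-/

set_option autoImplicit false
set_option linter.style.haveILetI false
set_option linter.unusedSectionVars false

namespace Cfsg.Agent.H45.CoprimeTrans

open MulAction Module Cfsg.Agent.H35.ThreeBlock Cfsg.Agent.H76

universe u

set_option maxRecDepth 100000 in
set_option synthInstance.maxSize 100000 in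
theorem plane_numeric : ∀ p < 60, ∀ z < 60, z ∣ p - 1 → 5 ≤ p → Nat.Prime p →
    ∀ Nm ∈ [(12, 7), (24, 8), (60, 9)], ¬ p ∣ z * Nm.1 → (p ^ 2 - 1) ∣ z * Nm.1 →
      2 ∣ z * Nm.2 → (z * Nm.1 = p ^ 2 - 1 → 2 ∣ z) →
        z * Nm.2 / 2 + z * Nm.1 / (p ^ 2 - 1) < p ^ 2 ∧
          (p ≤ z * Nm.2 / 2 ∨ (p = 11 ∧ z = 2 ∧ Nm.1 = 60)) := by
  decide +kernel

theorem card_conjClasses_congr {X Y : Type*} [Group X] [Group Y] [Finite X] (e : X ≃* Y) :
    Nat.card (ConjClasses Y) = Nat.card (ConjClasses X) := by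
  haveI : Finite Y := Finite.of_equiv X e.toEquiv
  exact le_antisymm (H30.ClassFit.kcard_le_of_surjective e.toMonoidHom e.surjective)
    (H30.ClassFit.kcard_le_of_surjective e.symm.toMonoidHom e.symm.surjective)

theorem card_conjClasses_of_comm {X : Type*} [Group X] (h : ∀ a b : X, a * b = b * a) :
    Nat.card (ConjClasses X) = Nat.card X :=
  (Nat.card_congr (Equiv.ofBijective ConjClasses.mk ⟨fun a b hab => by
    obtain ⟨c, hc⟩ := isConj_iff.1 (ConjClasses.mk_eq_mk_iff_isConj.1 hab)
    rw [← hc, h c a, mul_inv_cancel_right], ConjClasses.mk_surjective⟩)).symm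

variable {p : ℕ} [hp : Fact p.Prime] {E : Type u} [Group E] [Finite E] {V : Type*} [AddCommGroup V]
  [Module (ZMod p) V] [Module.Finite (ZMod p) V] [DistribMulAction E V] [SMulCommClass E (ZMod p) V]
  [FaithfulSMul E V]

/-- The class numbers in dimension two. -/
theorem plane_bounds (hE : ¬ p ∣ Nat.card E) (hp5 : 5 ≤ p) (hn : finrank (ZMod p) V = 2)
    (ht : ∀ u w : V, u ≠ 0 → w ≠ 0 → ∃ g : E, g • u = w) {v : V} (hv : v ≠ 0) :
    (p ≤ Nat.card (ConjClasses E) ∨
      (p = 11 ∧ Nat.card (ConjClasses E) = 9 ∧ Nat.card E = 120 ∧ ¬ Group.IsSolvable E)) ∧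
    ((∀ a b : E, a * b = b * a) ∨
      Nat.card (ConjClasses E) + Nat.card (stabilizer E v) < p ^ 2) := by
  classical
  set s := Nat.card (stabilizer E v) with hs
  have hcard : (p ^ 2 - 1) * s = Nat.card E := by
    rw [← hn]; exact card_eq_of_transitive (p := p) hv fun u hu => ht v u hv hu
  have hs1 : 0 < s := Nat.card_pos
  have hp2 : p < p ^ 2 - 1 := by
    have : 5 * p ≤ p ^ 2 := by rw [sq]; exact Nat.mul_le_mul_right p hp5
    omega
  by_cases hab : ∀ a b : E, a * b = b * a
  · refine ⟨Or.inl ?_, Or.inl hab⟩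
    rw [card_conjClasses_of_comm hab, ← hcard]
    exact hp2.le.trans (Nat.le_mul_of_pos_right _ hs1)
  push Not at hab
  let b₀ := Module.finBasisOfFinrankEq (ZMod p) V hn
  let r : E →* Module.End (ZMod p) V :=
    { toFun := fun g => lin g
      map_one' := LinearMap.ext fun u => one_smul E u
      map_mul' := fun x y => LinearMap.ext fun u => mul_smul x y u }
  let φ : E →* GL (Fin 2) (ZMod p) :=
    ((LinearMap.toMatrixAlgEquiv b₀).toAlgHom.toMonoidHom.comp r).toHomUnits
  have hφ : Function.Injective φ := fun x y h => eq_of_smul_eq_smul fun u : V =>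
    LinearMap.congr_fun ((LinearMap.toMatrixAlgEquiv b₀).injective (congrArg Units.val h) : r x = r y) u
  let e : E ≃* φ.range := MonoidHom.ofInjective hφ
  haveI := Fintype.ofFinite φ.range
  have hHc : Nat.card φ.range = Nat.card E := (Nat.card_congr e.toEquiv).symm
  have h2 : (2 : ZMod p) ≠ 0 := fun h => by
    have : p ∣ 2 := (ZMod.natCast_eq_zero_iff 2 p).1 (by exact_mod_cast h)
    have := Nat.le_of_dvd two_pos this
    omega
  have hcop : ∀ x : φ.range, (orderOf x : ZMod p) ≠ 0 := fun x h =>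
    hE (((ZMod.natCast_eq_zero_iff _ p).1 h).trans (hHc ▸ orderOf_dvd_natCard x))
  have hS := GLT.good h2 φ.range hcop
  have hne : ∃ u w : φ.range, u * w ≠ w * u := by
    obtain ⟨a, b, hne⟩ := hab
    exact ⟨e a, e b, fun h => hne (e.injective (by rw [map_mul, map_mul, h]))⟩
  obtain ⟨N, hN, hshape⟩ := plane_shapes hS hne
  rw [card_conjClasses_congr e] at hshape
  rw [hHc] at hN
  set z := Nat.card (GLT.scalars φ.range) with hz
  have hz0 : 0 < z := Nat.card_pos
  have hzp : z ∣ p - 1 := by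
    let χ : GLT.scalars φ.range →* ZMod p :=
      { toFun := fun g => (((g : φ.range) : GL (Fin 2) (ZMod p)) : Matrix (Fin 2) (Fin 2) (ZMod p)) 0 0
        map_one' := by simp
        map_mul' := fun g g' => by
          obtain ⟨c, hc⟩ := g.2
          obtain ⟨c', hc'⟩ := g'.2
          simp [hc, hc', mul_comm] }
    have h1 := Subgroup.card_dvd_of_injective χ.toHomUnits fun g g' h => by
      obtain ⟨c, hc⟩ := g.2
      obtain ⟨c', hc'⟩ := g'.2
      have h' : χ g = χ g' := congrArg Units.val h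
      refine Subtype.ext (Subtype.ext (Units.ext ?_))
      rw [hc, hc']
      simp only [χ, MonoidHom.coe_mk, OneHom.coe_mk, hc, hc'] at h'
      simp at h'
      rw [h']
    rwa [Nat.card_units, Nat.card_zmod] at h1
  have hzle : z ≤ p - 1 := Nat.le_of_dvd (by omega) hzp
  -- the central involution of a semiregular group
  have heven : s = 1 → 2 ∣ z := by
    intro hs'
    have h2E : 2 ∣ Nat.card E := by
      rw [← hcard]
      refine Dvd.dvd.mul_right ?_ s
      obtain ⟨k, hk⟩ := hp.out.odd_of_ne_two (by omega)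
      exact ⟨2 * k * k + 2 * k, by rw [hk, show (2 * k + 1) ^ 2 = 2 * (2 * k * k + 2 * k) + 1 by ring,
        Nat.add_sub_cancel]⟩
    haveI : Fact (Nat.Prime 2) := ⟨Nat.prime_two⟩
    obtain ⟨x, hx⟩ := exists_prime_orderOf_dvd_card' (G := E) 2 h2E
    have hxx : x * x = 1 := by rw [← sq, ← hx, pow_orderOf_eq_one]
    have hneg : ∀ u : V, x • u = -u := by
      intro u
      have hfix : x • (u + x • u) = u + x • u := by
        rw [smul_add, ← mul_smul, hxx, one_smul, add_comm]
      have h0 : u + x • u = 0 := free_of_transitive (q := 2) (v := v) (fun w hw => ht v w hv hw)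
        (by rw [← hs, hs']; norm_num) x hx _ hfix
      exact eq_neg_of_add_eq_zero_right h0
    have hmem : e x ∈ GLT.scalars φ.range := by
      refine ⟨-1, ?_⟩
      show LinearMap.toMatrixAlgEquiv b₀ (r x) = _
      rw [show r x = (-1 : ZMod p) • (1 : Module.End (ZMod p) V) from LinearMap.ext fun u => by
        simp [r, hneg], map_smul, map_one]
    have ho : orderOf (⟨e x, hmem⟩ : GLT.scalars φ.range) = 2 := by
      rw [← Subgroup.orderOf_coe, show ((⟨e x, hmem⟩ : GLT.scalars φ.range) : φ.range) = e x from rfl,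
        e.orderOf_eq, hx]
    exact ho ▸ orderOf_dvd_natCard _
  -- the dihedral shape
  rcases hshape with ⟨b, hb, rfl, hk, x, hx, hxc⟩ | hrest
  · have hbz : b * z ≤ p ^ 2 - 1 := by
      rw [← hxc]; simpa using card_centralizer_le φ.range hx
    have hs2 : s ≤ 2 := by
      by_contra hc
      nlinarith [Nat.mul_le_mul_left (p ^ 2 - 1) (show 3 ≤ s by omega)]
    have hN2 : (p ^ 2 - 1) * s = 2 * (b * z) := by rw [hcard, hN]; ring
    have hk2 : 2 * Nat.card (ConjClasses E) = b * z + 3 * z := by rw [hk]; ring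
    have h5p : 5 * p ≤ p ^ 2 := by rw [sq]; exact Nat.mul_le_mul_right p hp5
    refine ⟨Or.inl ?_, Or.inr ?_⟩
    · have h3 : p ^ 2 - 1 ≤ (p ^ 2 - 1) * s := Nat.le_mul_of_pos_right _ hs1
      omega
    · omega
  -- the three exceptional shapes
  obtain ⟨m, hm, hk, hfive⟩ : ∃ m, (N, m) ∈ [(12, 7), (24, 8), (60, 9)] ∧
      2 * Nat.card (ConjClasses E) = m * z ∧ (N = 60 → ∃ x : φ.range, x ∉ GLT.scalars φ.range ∧
        Nat.card (Subgroup.centralizer ({x} : Set φ.range)) = 5 * z) := by
    rcases hrest with ⟨rfl, hk⟩ | ⟨rfl, hk⟩ | ⟨rfl, hk, hx⟩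
    · exact ⟨7, by simp, hk, by norm_num⟩
    · exact ⟨8, by simp, hk, by norm_num⟩
    · exact ⟨9, by simp, hk, fun _ => hx⟩
  have hN60 : N ≤ 60 := by
    simp only [List.mem_cons, Prod.mk.injEq, List.not_mem_nil, or_false] at hm
    omega
  have hp60 : p < 60 := by
    have h1 : (p - 1) * (p + 1) = p ^ 2 - 1 := by rw [mul_comm, ← Nat.sq_sub_sq, one_pow]
    have h3 : p ^ 2 - 1 ≤ N * z := by rw [← hN, ← hcard]; exact Nat.le_mul_of_pos_right _ hs1
    have h4 : N * z ≤ 60 * (p - 1) := Nat.mul_le_mul hN60 hzle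
    have h5 : (p - 1) * (p + 1) ≤ (p - 1) * 60 := by rw [h1]; linarith
    have := Nat.le_of_mul_le_mul_left h5 (by omega)
    omega
  have hzN : z * N = (p ^ 2 - 1) * s := by rw [hcard, hN, mul_comm]
  obtain ⟨hk1, hk2⟩ := plane_numeric p hp60 z (by omega) hzp hp5 hp.out (N, m) hm
    (fun h => hE (by rw [hN, mul_comm]; exact h)) ⟨s, hzN⟩ ⟨Nat.card (ConjClasses E), by rw [hk, mul_comm]⟩
    (fun h => heven (by
      have h' : (p ^ 2 - 1) * s = (p ^ 2 - 1) * 1 := by rw [← hzN, mul_one]; exact h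
      exact Nat.eq_of_mul_eq_mul_left (by omega) h'))
  simp only at hk1 hk2
  have hkz : z * m / 2 = Nat.card (ConjClasses E) := by
    rw [mul_comm z m, ← hk, Nat.mul_div_cancel_left _ two_pos]
  have hsz : z * N / (p ^ 2 - 1) = s := by rw [hzN, Nat.mul_div_cancel_left _ (by omega)]
  rw [hkz, hsz] at hk1
  rw [hkz] at hk2
  refine ⟨hk2.imp id ?_, Or.inr hk1⟩
  rintro ⟨h11, hz2, rfl⟩
  have hm9 : m = 9 := by simpa using hm
  have hc120 : Nat.card E = 120 := by rw [hN, hz2]
  refine ⟨h11, by rw [hm9, hz2] at hk; omega, hc120, fun hsol => ?_⟩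
  -- the quotient by the scalars is alternating
  obtain ⟨x, hx, hxc⟩ := hfive rfl
  haveI : (GLT.scalars φ.range).Normal := ⟨fun a ha g => by
    rwa [Subgroup.mem_center_iff.1 (hS.central ha) g, mul_inv_cancel_right]⟩
  set Q := φ.range ⧸ GLT.scalars φ.range
  have hQ : Nat.card Q = 60 := by
    have h1 := Subgroup.card_eq_card_quotient_mul_card_subgroup (GLT.scalars φ.range)
    change Nat.card φ.range = Nat.card Q * z at h1
    rw [hHc, hc120, hz2] at h1
    omega
  have hns : Nat.card (Sylow 5 Q) ≠ 1 := by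
    intro h1
    haveI : Fact (Nat.Prime 5) := ⟨by norm_num⟩
    haveI : Subsingleton (Sylow 5 Q) := Finite.card_le_one_iff_subsingleton.1 h1.le
    obtain ⟨u, hu⟩ := exists_prime_orderOf_dvd_card'
      (G := Subgroup.centralizer ({x} : Set φ.range)) 5 (by rw [hxc]; exact dvd_mul_right 5 z)
    set u' : φ.range := (u : φ.range) with hu'
    have huS : u' ∉ GLT.scalars φ.range := fun hmem => by
      have h5 := orderOf_dvd_natCard (⟨u', hmem⟩ : GLT.scalars φ.range)
      rw [← Subgroup.orderOf_coe, show ((⟨u', hmem⟩ : GLT.scalars φ.range) : φ.range) = u' from rfl,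
        hu', Subgroup.orderOf_coe, hu, ← hz, hz2] at h5
      norm_num at h5
    have hq5 : orderOf (QuotientGroup.mk' (GLT.scalars φ.range) u') = 5 :=
      orderOf_eq_prime (by rw [← map_pow, show u' ^ 5 = 1 by
          rw [hu', ← Subgroup.coe_pow, ← hu, pow_orderOf_eq_one, Subgroup.coe_one], map_one])
        (fun h => huS ((QuotientGroup.eq_one_iff u').1 h))
    obtain ⟨P, hP⟩ := (IsPGroup.of_card (p := 5) (n := 1)
      (G := Subgroup.zpowers (QuotientGroup.mk' (GLT.scalars φ.range) u'))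
      (by rw [Nat.card_zpowers, hq5, pow_one])).exists_le_sylow
    have hPc : Nat.card (P : Subgroup Q) = 5 := by
      obtain ⟨j, hj⟩ := IsPGroup.iff_card.1 P.isPGroup'
      have hd : 5 ^ j ∣ 60 := by rw [← hj, ← hQ]; exact Subgroup.card_subgroup_dvd_card _
      have h5le : 5 ≤ Nat.card (P : Subgroup Q) := by
        have := Subgroup.card_le_of_le hP
        rwa [Nat.card_zpowers, hq5] at this
      have hj1 : j ≤ 1 := by
        by_contra hc
        have := (pow_dvd_pow 5 (show 2 ≤ j by omega)).trans hd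
        norm_num at this
      interval_cases j <;> simp_all
    have hPeq : Subgroup.zpowers (QuotientGroup.mk' (GLT.scalars φ.range) u') = (P : Subgroup Q) :=
      Subgroup.eq_of_le_of_card_ge hP (by rw [hPc, Nat.card_zpowers, hq5])
    have hall : ∀ g : φ.range, Commute (g * u' * g⁻¹) u' := by
      intro g
      have hg := MulAction.exists_smul_eq Q P (QuotientGroup.mk' (GLT.scalars φ.range) g • P)
      have hmem : QuotientGroup.mk' (GLT.scalars φ.range) (g * u' * g⁻¹) ∈ (P : Subgroup Q) := by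
        have h3 : (QuotientGroup.mk' (GLT.scalars φ.range) g • P : Sylow 5 Q) = P := Subsingleton.elim _ _
        rw [← h3, map_mul, map_mul, map_inv]
        exact ⟨_, hPeq ▸ Subgroup.mem_zpowers _, rfl⟩
      rw [← hPeq] at hmem
      obtain ⟨i, hi⟩ := Subgroup.mem_zpowers_iff.1 hmem
      rw [← map_zpow] at hi
      have hcen := hS.central (QuotientGroup.eq.1 hi)
      have h6 : g * u' * g⁻¹ = u' ^ i * ((u' ^ i)⁻¹ * (g * u' * g⁻¹)) := by group
      rw [h6]
      exact ((Commute.refl u').zpow_left i).mul_left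
        (Subgroup.mem_center_iff.1 hcen u').symm
    have h7 := ACP.stab_card hS huS
    have h8 : Nat.card {g : φ.range // Commute (g * u' * g⁻¹) u'} = 120 := by
      rw [Nat.card_congr (Equiv.subtypeUnivEquiv hall), hHc, hc120]
    have h9 : Nat.card (Subgroup.centralizer ({u'} : Set φ.range)) = 5 * z := by
      rw [← hxc]
      exact ACP.card_centralizer_of_conj hS (g := 1) hx huS (by
        rw [one_mul, inv_one, mul_one]
        exact Subgroup.mem_centralizer_singleton_iff.1 u.2)
    rw [h8, h9, hz2] at h7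
    omega
  obtain ⟨eA⟩ := H66.iso_altFive hQ hns
  haveI : Group.IsSolvable φ.range :=
    Group.isSolvable_of_surjective (f := e.toMonoidHom) e.surjective
  haveI : Group.IsSolvable Q :=
    Group.isSolvable_of_surjective (QuotientGroup.mk'_surjective (GLT.scalars φ.range))
  haveI : Group.IsSolvable (alternatingGroup (Fin 5)) :=
    Group.isSolvable_of_surjective (f := eA.toMonoidHom) eA.surjective
  haveI : Group.IsSolvable (Equiv.Perm.sign (α := Fin 5)).ker :=
    inferInstanceAs (Group.IsSolvable (alternatingGroup (Fin 5)))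
  exact Equiv.Perm.not_isSolvable_fin_5 (Group.isSolvable_of_ker_le_range
    (alternatingGroup (Fin 5)).subtype Equiv.Perm.sign (by rw [Subgroup.range_subtype]; exact le_rfl))

end Cfsg.Agent.H45.CoprimeTrans
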