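import Cfsg.Agent.H45.CoprimeTrans.SemiField
import Cfsg.Agent.H45.CoprimeTrans.Plane
import Cfsg.Agent.H45.CoprimeTrans.Eighty

/-!
The class numbers of coprime transitive linear groups in all dimensions.
-/

set_option autoImplicit false
set_option linter.style.haveILetI false
set_option linter.unusedSectionVars false

namespace Cfsg.Agent.H45.CoprimeTrans

open MulAction Module Cfsg.Agent.H35.ThreeBlock

universe u

variable {p : ℕ} [hp : Fact p.Prime] {E : Type u} [Group E] [Finite E] {V : Type*} [AddCommGroup V]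
  [Module (ZMod p) V] [Module.Finite (ZMod p) V] [DistribMulAction E V] [SMulCommClass E (ZMod p) V]
  [FaithfulSMul E V]

/-- A commutative transitive group is cyclic. -/
theorem isCyclic_of_comm_transitive (hn : 0 < finrank (ZMod p) V)
    (hab : ∀ a b : E, a * b = b * a)
    (ht : ∀ u w : V, u ≠ 0 → w ≠ 0 → ∃ g : E, g • u = w) : IsCyclic E := by
  classical
  haveI : Finite V := Module.finite_of_finite (ZMod p)
  haveI := Module.nontrivial_of_finrank_pos (R := ZMod p) (M := V) hn
  haveI : IsMulCommutative (Algebra.adjoin (ZMod p)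
      (Set.range fun g : E => lin (p := p) (V := V) g)) := Algebra.isMulCommutative_adjoin (ZMod p) (by
    rintro _ ⟨g, rfl⟩ _ ⟨g', rfl⟩
    refine LinearMap.ext fun u => ?_
    show g • g' • u = g' • g • u
    rw [← mul_smul, ← mul_smul, hab])
  set A : Subalgebra (ZMod p) (Module.End (ZMod p) V) :=
    Algebra.adjoin (ZMod p) (Set.range fun g : E => lin (p := p) (V := V) g) with hA
  have hcomm : ∀ T ∈ A, ∀ (g : E) (u : V), T (g • u) = g • T u := by
    intro T hT
    induction hT using Algebra.adjoin_induction with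
    | mem T hT =>
      obtain ⟨g', rfl⟩ := hT
      exact fun g u => by simp [← mul_smul, hab]
    | algebraMap c => exact fun g u => by simp [smul_comm]
    | add T S _ _ hT hS => exact fun g u => by simp [hT g u, hS g u]
    | mul T S _ _ hT hS => exact fun g u => by simp [hS g u, hT g (S u)]
  haveI : Nontrivial A := ⟨⟨0, 1, fun h => zero_ne_one (congrArg Subtype.val h)⟩⟩
  letI : CommRing A := { (inferInstance : Ring A) with mul_comm := mul_comm' }
  haveI : NoZeroDivisors A := ⟨fun {S T} h => by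
    by_cases hT : T = 0
    · exact Or.inr hT
    refine Or.inl (Subtype.ext (LinearMap.ext fun u => ?_))
    obtain ⟨v, hv⟩ : ∃ v, (T : Module.End (ZMod p) V) v ≠ 0 := by
      by_contra hc
      push Not at hc
      exact hT (Subtype.ext (LinearMap.ext hc))
    rcases eq_or_ne u 0 with rfl | hu
    · simp
    obtain ⟨g, rfl⟩ := ht _ u hv hu
    rw [hcomm _ S.2]
    have h1 := LinearMap.congr_fun (congrArg Subtype.val h) v
    simp only [MulMemClass.coe_mul, Module.End.mul_apply] at h1
    rw [h1]
    simp⟩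
  haveI : IsDomain A := NoZeroDivisors.to_isDomain A
  let f : E →* A :=
    { toFun := fun g => ⟨lin g, Algebra.subset_adjoin ⟨g, rfl⟩⟩
      map_one' := Subtype.ext (LinearMap.ext fun u => one_smul E u)
      map_mul' := fun g h => Subtype.ext (LinearMap.ext fun u => mul_smul g h u) }
  exact isCyclic_of_injective_ringHom f fun g h he =>
    eq_of_smul_eq_smul fun u : V => LinearMap.congr_fun (congrArg Subtype.val he) u

/-- A one-dimensional group. -/
theorem card_of_line (hn : finrank (ZMod p) V = 1)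
    (ht : ∀ u w : V, u ≠ 0 → w ≠ 0 → ∃ g : E, g • u = w) :
    (∀ a b : E, a * b = b * a) ∧ Nat.card E = p - 1 := by
  classical
  obtain ⟨v, hv, hgen⟩ := finrank_eq_one_iff'.1 hn
  have hall : ∀ g : E, g • v = v → g = 1 := fun g hg => eq_of_smul_eq_smul fun u : V => by
    obtain ⟨c, rfl⟩ := hgen u
    rw [smul_comm, hg, one_smul]
  refine ⟨fun a b => eq_of_smul_eq_smul fun u : V => ?_, ?_⟩
  · obtain ⟨c, rfl⟩ := hgen u
    obtain ⟨α, hα⟩ := hgen (a • v)
    obtain ⟨β, hβ⟩ := hgen (b • v)
    rw [mul_smul, mul_smul, smul_comm b c v, ← hβ, smul_comm a c, smul_comm a β v, ← hα,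
      smul_comm a c v, ← hα, smul_comm b c, smul_comm b α v, ← hβ, smul_comm β α]
  · have h := card_eq_of_transitive (p := p) hv fun u hu => ht v u hv hu
    rw [hn, pow_one] at h
    have h1 : Nat.card (stabilizer E v) = 1 := by
      rw [Subgroup.card_eq_one]
      exact (Subgroup.eq_bot_iff_forall _).2 fun g hg => hall g hg
    rw [← h, h1, mul_one]

theorem three_le_classes {X : Type*} [Group X] [Finite X] (h : 3 ≤ Nat.card X) :
    3 ≤ Nat.card (ConjClasses X) := by
  classical
  haveI := Fintype.ofFinite X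
  by_contra hk
  obtain ⟨x, hx⟩ : ∃ x : X, x ≠ 1 := by
    haveI : Nontrivial X := (Finite.one_lt_card_iff_nontrivial).1 (by omega)
    exact exists_ne 1
  have hall : ∀ y : X, y ≠ 1 → IsConj x y := by
    intro y hy
    by_contra hc
    have hinj : Function.Injective ![ConjClasses.mk (1 : X), ConjClasses.mk x, ConjClasses.mk y] := by
      intro i j hij
      fin_cases i <;> fin_cases j <;> simp_all [ConjClasses.mk_eq_mk_iff_isConj, eq_comm]
    have := Nat.card_le_card_of_injective _ hinj
    simp at this hk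
    omega
  have horb : Nat.card {y : X // y ≠ 1} ∣ Nat.card X := by
    have h1 : Nat.card (MulAction.orbit (ConjAct X) x) ∣ Nat.card (ConjAct X) :=
      ⟨_, (Nat.card_congr (MulAction.orbitProdStabilizerEquivGroup (ConjAct X) x).symm).trans
        (Nat.card_prod _ _)⟩
    rw [Nat.card_congr (Equiv.subtypeEquivRight (q := fun y => y ∈ MulAction.orbit (ConjAct X) x) ?_)]
    · exact h1
    · intro y
      rw [ConjAct.mem_orbit_conjAct]
      exact ⟨fun hy => (hall y hy).symm, fun hc hy => hx (isConj_one_left.1 (hy ▸ hc : IsConj 1 x).symm)⟩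
  rw [Nat.card_eq_fintype_card, Fintype.card_subtype_compl, Fintype.card_subtype_eq,
    ← Nat.card_eq_fintype_card] at horb
  have h2 : Nat.card X - 1 ∣ Nat.card X - (Nat.card X - 1) := Nat.dvd_sub horb dvd_rfl
  rw [show Nat.card X - (Nat.card X - 1) = 1 by omega, Nat.dvd_one] at h2
  omega

theorem card_conjClasses_lt {X : Type*} [Group X] [Finite X] (h : ∃ a b : X, a * b ≠ b * a) :
    Nat.card (ConjClasses X) < Nat.card X := by
  classical
  haveI := Fintype.ofFinite X
  obtain ⟨a, b, hab⟩ := h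
  rw [Nat.card_eq_fintype_card, Nat.card_eq_fintype_card]
  refine Fintype.card_lt_of_surjective_not_injective _ ConjClasses.mk_surjective fun hinj => hab ?_
  have h1 : b * a * b⁻¹ = a := hinj
    (ConjClasses.mk_eq_mk_iff_isConj.2 (isConj_iff.2 ⟨b⁻¹, by group⟩))
  exact (mul_inv_eq_iff_eq_mul.1 h1).symm

/-- A transitive coprime group has at least `p` classes, two situations apart. -/
theorem lower_bound (hE : ¬ p ∣ Nat.card E) (hn : 0 < finrank (ZMod p) V)
    (ht : ∀ u w : V, u ≠ 0 → w ≠ 0 → ∃ g : E, g • u = w) :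
    p ≤ Nat.card (ConjClasses E) ∨
      (finrank (ZMod p) V = 1 ∧ Nat.card E = p - 1 ∧ Nat.card (ConjClasses E) = p - 1) ∨
      (p = 11 ∧ finrank (ZMod p) V = 2 ∧ Nat.card (ConjClasses E) = 9 ∧ Nat.card E = 120 ∧
        ¬ Group.IsSolvable E) := by
  classical
  have hp2 := hp.out.two_le
  rcases eq_or_ne (finrank (ZMod p) V) 1 with h1 | h1
  · obtain ⟨hab, hc⟩ := card_of_line h1 ht
    exact Or.inr (Or.inl ⟨h1, hc, by rw [card_conjClasses_of_comm hab, hc]⟩)
  have hdvd := dvd_card_of_transitive (p := p) hn ht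
  have hcard : p ^ 2 - 1 ≤ Nat.card E := by
    refine le_trans (Nat.sub_le_sub_right (Nat.pow_le_pow_right hp.out.pos ?_) 1)
      (Nat.le_of_dvd Nat.card_pos hdvd)
    omega
  by_cases hp3 : p ≤ 3
  · refine Or.inl (le_trans hp3 (three_le_classes ?_))
    have : 2 ^ 2 ≤ p ^ 2 := Nat.pow_le_pow_left hp2 2
    omega
  have hp5 : 5 ≤ p := by
    rcases eq_or_ne p 4 with rfl | h4
    · exact absurd hp.out (by norm_num)
    · omega
  by_cases h2 : finrank (ZMod p) V = 2
  · haveI := Module.nontrivial_of_finrank_pos (R := ZMod p) (M := V) hn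
    obtain ⟨v, hv⟩ := exists_ne (0 : V)
    rcases (plane_bounds hE hp5 h2 ht hv).1 with h | ⟨a, b, c, d⟩
    · exact Or.inl h
    · exact Or.inr (Or.inr ⟨a, h2, b, c, d⟩)
  · exact Or.inl ((class_bounds hE (by omega) ht (by omega)).1 (by omega))

/-- The equality cases of the class number bound, in all dimensions. -/
theorem upper_bound (hE : ¬ p ∣ Nat.card E) (hn : 0 < finrank (ZMod p) V)
    (ht : ∀ u w : V, u ≠ 0 → w ≠ 0 → ∃ g : E, g • u = w)
    :
    ∃ v : V, v ≠ 0 ∧
      (((∀ a ∈ stabilizer E v, ∀ b ∈ stabilizer E v, a * b = b * a) ∧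
          (IsCyclic E ∨ (p ^ finrank (ZMod p) V = 8 ∧ Nat.card E = 21) ∨
            (p ^ finrank (ZMod p) V = 9 ∧ Nat.card E = 16) ∨
            Nat.card (ConjClasses E) + Nat.card (ConjClasses (stabilizer E v)) <
              p ^ finrank (ZMod p) V)) ∨
        Nat.card (ConjClasses E) + Nat.card (ConjClasses (stabilizer E v)) <
          p ^ finrank (ZMod p) V) := by
  classical
  haveI := Module.nontrivial_of_finrank_pos (R := ZMod p) (M := V) hn
  have hks : ∀ v : V, Nat.card (ConjClasses (stabilizer E v)) ≤ Nat.card (stabilizer E v) := fun v =>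
    H30.ClassFit.kcard_le_card
  by_cases hab : ∀ a b : E, a * b = b * a
  · obtain ⟨v, hv⟩ := exists_ne (0 : V)
    exact ⟨v, hv, Or.inl ⟨fun a _ b _ => hab a b, Or.inl (isCyclic_of_comm_transitive hn hab ht)⟩⟩
  by_cases h81 : p = 3 ∧ finrank (ZMod p) V = 4
  · obtain ⟨v, hv, h | h⟩ := eighty_one h81.1 h81.2 hE ht
    · exact absurd h hab
    · exact ⟨v, hv, Or.inr h⟩
  rcases eq_or_ne (finrank (ZMod p) V) 1 with h1 | h1
  · exact absurd (card_of_line h1 ht).1 hab
  rcases eq_or_ne (finrank (ZMod p) V) 2 with h2 | h2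
  · obtain ⟨v, hv⟩ := exists_ne (0 : V)
    haveI := stabilizer_isCyclic hE h2 hv
    letI := IsCyclic.commGroup (α := stabilizer E v)
    refine ⟨v, hv, Or.inl ⟨fun a ha b hb =>
      congrArg Subtype.val (mul_comm (⟨a, ha⟩ : stabilizer E v) ⟨b, hb⟩), ?_⟩⟩
    rw [h2]
    have hcard : (p ^ 2 - 1) * Nat.card (stabilizer E v) = Nat.card E := by
      rw [← h2]; exact card_eq_of_transitive (p := p) hv fun u hu => ht v u hv hu
    by_cases hp5 : 5 ≤ p
    · rcases (plane_bounds hE hp5 h2 ht hv).2 with h | h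
      · exact absurd h hab
      · exact Or.inr (Or.inr (Or.inr (lt_of_le_of_lt (Nat.add_le_add_left (hks v) _) h)))
    obtain ⟨ρ, hρ⟩ := exists_repr (p := p) (E := E) (V := V)
    have hdvd := Subgroup.card_dvd_of_injective ρ hρ
    rw [Matrix.card_GL_field, ZMod.card, h2, Fin.prod_univ_two] at hdvd
    push Not at hab
    have hklt := card_conjClasses_lt hab
    have hp' : p = 2 ∨ p = 3 := by
      have := hp.out.two_le
      have : p ≠ 4 := fun h => absurd (h ▸ hp.out) (by norm_num)
      omega
    rcases hp' with rfl | rfl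
    · exfalso
      norm_num [-Nat.card_eq_fintype_card] at hdvd hcard hE
      have h6 := Nat.le_of_dvd (by norm_num) hdvd
      obtain ⟨a, b, hne⟩ := hab
      have hE3 : Nat.card E = 3 := by interval_cases Nat.card E <;> omega
      haveI : Fact (Nat.Prime 3) := ⟨Nat.prime_three⟩
      haveI := isCyclic_of_prime_card hE3
      letI := IsCyclic.commGroup (α := E)
      exact hne (mul_comm a b)
    · obtain ⟨s, hs⟩ : ∃ s, Nat.card (stabilizer E v) = s := ⟨_, rfl⟩
      rw [hs] at hcard
      norm_num [-Nat.card_eq_fintype_card] at hdvd hcard hE ⊢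
      have h48 := Nat.le_of_dvd (by norm_num) hdvd
      have := hks v
      rcases eq_or_ne (Nat.card E) 16 with h | h
      · exact Or.inr (Or.inl h)
      · refine Or.inr (Or.inr ?_)
        interval_cases Nat.card E <;> omega
  · obtain ⟨-, v, hv, hvab, hcase⟩ := class_bounds hE (by omega) ht h81
    refine ⟨v, hv, Or.inl ⟨hvab, ?_⟩⟩
    rcases hcase with h | h | ⟨rfl, h3, h21⟩
    · exact absurd h hab
    · exact Or.inr (Or.inr (Or.inr (lt_of_le_of_lt (Nat.add_le_add_left (hks v) _) h)))
    · exact Or.inr (Or.inl ⟨by rw [h3]; norm_num, h21⟩)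

end Cfsg.Agent.H45.CoprimeTrans
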