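import Cfsg.Agent.H45.CoprimeTrans.Semilinear
import Cfsg.Agent.H76.GLTwoTori

/-!
Class numbers of the nonabelian coprime subgroups of two-dimensional general linear groups.
-/

set_option autoImplicit false
set_option linter.style.haveILetI false
set_option linter.unusedSectionVars false

namespace Cfsg.Agent.H45.CoprimeTrans

open Subgroup Cfsg.Agent.H76

universe u

/-- A block of a good pair: `|H| = f K a |S|` elements, the block having `K (a - 1) |S|` of them,
all with centralisers of order `a |S|`. -/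
theorem block_data {H : Type u} [Group H] [Fintype H] {S : Subgroup H} (hS : ACP.Good S)
    (hne : ∃ u v : H, u * v ≠ v * u) {x : H} (hx : x ∉ S) :
    ∃ K a f : ℕ, 1 ≤ K ∧ 2 ≤ a ∧ (f = 1 ∨ f = 2) ∧ (f = 1 → 2 ≤ K) ∧
      Nat.card H = f * K * a * Nat.card S ∧
      Nat.card (centralizer ({x} : Set H)) = a * Nat.card S ∧
      (ACP.block S x).ncard = K * (a - 1) * Nat.card S ∧
      (∀ w ∈ ACP.block S x, Nat.card {h : H // Commute w h} = a * Nat.card S) := by
  classical
  obtain ⟨c, k, hc, ⟨a, ha⟩, hc2, hk, hH, hW, -, -⟩ := ACP.block_weight hS hx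
  have hz : 0 < Nat.card S := Nat.card_pos
  have ha2 : 2 ≤ a := by rw [ha] at hc2; nlinarith
  have hblock : (ACP.block S x).ncard = k * (a - 1) * Nat.card S := by
    obtain ⟨a', rfl⟩ : ∃ a', a = a' + 1 := ⟨a - 1, by omega⟩
    rw [ha] at hW
    simp only [Nat.add_sub_cancel]
    nlinarith
  have hcent : ∀ w ∈ ACP.block S x, Nat.card {h : H // Commute w h} = a * Nat.card S := by
    rintro w ⟨hw, g, hg⟩
    have h1 : Nat.card {h : H // Commute w h} = Nat.card (centralizer ({w} : Set H)) :=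
      Nat.card_congr (Equiv.subtypeEquivRight
        fun h => ⟨fun hh => mem_centralizer_singleton_iff.2 hh.eq.symm,
          fun hh => (mem_centralizer_singleton_iff.1 hh).symm⟩)
    rw [h1, ACP.card_centralizer_of_conj hS hx hw hg, ← hc, ha, mul_comm]
  rcases hH with hH | hH
  · refine ⟨k, a, 1, hk, ha2, Or.inl rfl, fun _ => ?_, by rw [hH, ha]; ring,
      by rw [← hc, ha, mul_comm], hblock, hcent⟩
    by_contra hk2
    obtain rfl : k = 1 := by omega
    have hCtop : centralizer ({x} : Set H) = ⊤ := Subgroup.eq_top_of_card_eq _ (by rw [hH, ← hc, one_mul])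
    obtain ⟨u, v, huv⟩ := hne
    have hcx : ∀ w : H, Commute w x := fun w =>
      mem_centralizer_singleton_iff.1 (hCtop ▸ mem_top w)
    exact huv (hS.trans u x v hx (hcx u) (hcx v).symm).eq
  · exact ⟨k, a, 2, hk, ha2, Or.inr rfl, fun h => by omega, by rw [hH, ha]; ring,
      by rw [← hc, ha, mul_comm], hblock, hcent⟩

/-- The sum of the centraliser orders over a finite set. -/
noncomputable def wt {H : Type u} [Group H] (T : Finset H) : ℕ :=
  ∑ g ∈ T, Nat.card {h : H // Commute g h}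

theorem wt_block {H : Type u} [Group H] [Fintype H] {S : Subgroup H} {x : H} {K a : ℕ}
    [Fintype (ACP.block S x)]
    (hb : (ACP.block S x).ncard = K * (a - 1) * Nat.card S)
    (hcb : ∀ w ∈ ACP.block S x, Nat.card {h : H // Commute w h} = a * Nat.card S) :
    wt (ACP.block S x).toFinset = K * (a - 1) * Nat.card S * (a * Nat.card S) := by
  rw [wt, Finset.sum_congr rfl fun w hw => hcb w (Set.mem_toFinset.1 hw), Finset.sum_const,
    ← Set.ncard_eq_toFinset_card', hb, smul_eq_mul]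

theorem two_terms {N K a f L b g : ℕ} (hK : 1 ≤ K) (hL : 1 ≤ L) (ha : 2 ≤ a) (hb : 2 ≤ b)
    (hf : f = 1 ∨ f = 2) (hg : g = 1 ∨ g = 2) (hN : N = f * K * a) (hN' : N = g * L * b)
    (h : N = 1 + K * (a - 1) + L * (b - 1)) (hfg : f ≤ g) :
    f = 1 ∧ g = 2 ∧ ((a = 2 ∧ N = 2 * b) ∨ (a = 3 ∧ b = 2 ∧ N = 12)) := by
  obtain ⟨a', rfl⟩ : ∃ a', a = a' + 2 := ⟨a - 2, by omega⟩
  obtain ⟨b', rfl⟩ : ∃ b', b = b' + 2 := ⟨b - 2, by omega⟩
  simp only [show a' + 2 - 1 = a' + 1 by omega, show b' + 2 - 1 = b' + 1 by omega] at h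
  rcases hf with rfl | rfl <;> rcases hg with rfl | rfl
  · exfalso; nlinarith
  · refine ⟨rfl, rfl, ?_⟩
    have h1 : K + L - 1 = L * (b' + 2) := by nlinarith [Nat.sub_add_cancel (show 1 ≤ K + L by omega)]
    rcases Nat.eq_zero_or_pos a' with rfl | ha'
    · refine Or.inl ⟨rfl, ?_⟩
      have hL1 : L = 1 := by nlinarith [Nat.sub_add_cancel (show 1 ≤ K + L by omega)]
      rw [hN', hL1]
    · have hKL : K + 2 ≤ 2 * L := by nlinarith [Nat.sub_add_cancel (show 1 ≤ K + L by omega)]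
      have hb0 : b' = 0 := by nlinarith [Nat.sub_add_cancel (show 1 ≤ K + L by omega)]
      subst hb0
      have hK' : K = L + 1 := by omega
      subst hK'
      have ha1 : a' = 1 := by nlinarith
      subst ha1
      refine Or.inr ⟨rfl, rfl, ?_⟩
      nlinarith
  · omega
  · exfalso; nlinarith

theorem three_sorted {N K a L b M c : ℕ} (hK : 1 ≤ K) (hL : 1 ≤ L) (hM : 1 ≤ M) (ha : 2 ≤ a)
    (hab : a ≤ b) (hbc : b ≤ c) (hN : N = 2 * K * a) (hN' : N = 2 * L * b) (hN'' : N = 2 * M * c)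
    (h : N = 1 + K * (a - 1) + L * (b - 1) + M * (c - 1)) :
    (a = 2 ∧ b = 2 ∧ N = 2 * c) ∨ (a = 2 ∧ b = 3 ∧ c = 3 ∧ N = 12) ∨
      (a = 2 ∧ b = 3 ∧ c = 4 ∧ N = 24) ∨ (a = 2 ∧ b = 3 ∧ c = 5 ∧ N = 60) := by
  have e : K + L + M = K * a + 1 := by
    obtain ⟨a', rfl⟩ : ∃ a', a = a' + 1 := ⟨a - 1, by omega⟩
    obtain ⟨b', rfl⟩ : ∃ b', b = b' + 1 := ⟨b - 1, by omega⟩
    obtain ⟨c', rfl⟩ : ∃ c', c = c' + 1 := ⟨c - 1, by omega⟩
    simp only [Nat.add_sub_cancel] at h
    nlinarith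
  have hb2 : L * b = K * a := by nlinarith
  have hc2 : M * c = K * a := by nlinarith
  have ha2 : a = 2 := by
    by_contra hne
    have h3 : 3 ≤ a := by omega
    nlinarith [Nat.mul_le_mul_left K h3, Nat.mul_le_mul_left L (h3.trans hab),
      Nat.mul_le_mul_left M (h3.trans (hab.trans hbc))]
  subst ha2
  have hb3 : b ≤ 3 := by
    by_contra hne
    have h4 : 4 ≤ b := by omega
    nlinarith [Nat.mul_le_mul_left L h4, Nat.mul_le_mul_left M (h4.trans hbc)]
  interval_cases b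
  · refine Or.inl ⟨rfl, rfl, ?_⟩
    have : M = 1 := by nlinarith
    subst this
    nlinarith
  · right
    have hM6 : 6 * M = K * 2 + 6 := by nlinarith
    have hc5 : c ≤ 5 := by
      by_contra hne
      nlinarith [Nat.mul_le_mul_left M (show 6 ≤ c by omega)]
    interval_cases c
    · exact Or.inl ⟨rfl, rfl, rfl, by omega⟩
    · exact Or.inr (Or.inl ⟨rfl, rfl, rfl, by omega⟩)
    · exact Or.inr (Or.inr ⟨rfl, rfl, rfl, by omega⟩)

theorem three_terms {N K a f L b g M c e : ℕ} (hK : 1 ≤ K) (hL : 1 ≤ L) (hM : 1 ≤ M) (ha : 2 ≤ a)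
    (hb : 2 ≤ b) (hc : 2 ≤ c) (hf : f = 1 ∨ f = 2) (hg : g = 1 ∨ g = 2) (he : e = 1 ∨ e = 2)
    (hN : N = f * K * a) (hN' : N = g * L * b) (hN'' : N = e * M * c)
    (h : N = 1 + K * (a - 1) + L * (b - 1) + M * (c - 1)) : f = 2 ∧ g = 2 ∧ e = 2 := by
  obtain ⟨a', rfl⟩ : ∃ a', a = a' + 2 := ⟨a - 2, by omega⟩
  obtain ⟨b', rfl⟩ : ∃ b', b = b' + 2 := ⟨b - 2, by omega⟩
  obtain ⟨c', rfl⟩ : ∃ c', c = c' + 2 := ⟨c - 2, by omega⟩
  simp only [show a' + 2 - 1 = a' + 1 by omega, show b' + 2 - 1 = b' + 1 by omega,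
    show c' + 2 - 1 = c' + 1 by omega] at h
  rcases hf with rfl | rfl <;> rcases hg with rfl | rfl <;> rcases he with rfl | rfl <;>
    first | exact ⟨rfl, rfl, rfl⟩ | (exfalso; nlinarith)

theorem no_four_terms {N K a f L b g M c e P d i : ℕ} (hK : 1 ≤ K) (hL : 1 ≤ L) (hM : 1 ≤ M)
    (hP : 1 ≤ P) (ha : 2 ≤ a) (hb : 2 ≤ b) (hc : 2 ≤ c) (hd : 2 ≤ d) (hf : f = 1 ∨ f = 2)
    (hg : g = 1 ∨ g = 2) (he : e = 1 ∨ e = 2) (hi : i = 1 ∨ i = 2)
    (hN : N = f * K * a) (hN' : N = g * L * b) (hN'' : N = e * M * c) (hN''' : N = i * P * d)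
    (h : 1 + K * (a - 1) + L * (b - 1) + M * (c - 1) + P * (d - 1) ≤ N) : False := by
  have key : ∀ K a f : ℕ, 2 ≤ a → (f = 1 ∨ f = 2) → N = f * K * a → N ≤ 4 * (K * (a - 1)) := by
    intro K a f ha hf hN
    obtain ⟨a', rfl⟩ : ∃ a', a = a' + 2 := ⟨a - 2, by omega⟩
    rw [show a' + 2 - 1 = a' + 1 by omega]
    rcases hf with rfl | rfl <;> nlinarith
  have := key K a f ha hf hN
  have := key L b g hb hg hN'
  have := key M c e hc he hN''
  have := key P d i hd hi hN'''
  omega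

/-- The possible shapes and class numbers. -/
theorem plane_shapes {H : Type u} [Group H] [Fintype H] {S : Subgroup H} (hS : ACP.Good S)
    (hne : ∃ u v : H, u * v ≠ v * u) :
    ∃ N : ℕ, Nat.card H = N * Nat.card S ∧
      ((∃ b, 2 ≤ b ∧ N = 2 * b ∧ 2 * Nat.card (ConjClasses H) = Nat.card S * (b + 3) ∧
          ∃ x : H, x ∉ S ∧ Nat.card (centralizer ({x} : Set H)) = b * Nat.card S) ∨
        (N = 12 ∧ 2 * Nat.card (ConjClasses H) = 7 * Nat.card S) ∨
        (N = 24 ∧ 2 * Nat.card (ConjClasses H) = 8 * Nat.card S) ∨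
        (N = 60 ∧ 2 * Nat.card (ConjClasses H) = 9 * Nat.card S ∧
          ∃ x : H, x ∉ S ∧ Nat.card (centralizer ({x} : Set H)) = 5 * Nat.card S)) := by
  classical
  set z := Nat.card S with hz
  have hz0 : 0 < z := Nat.card_pos
  set T := (Finset.univ.filter fun g : H => g ∈ S) with hT
  have hTc : T.card = z := by rw [hz, Nat.card_eq_fintype_card, Fintype.card_subtype]
  have hwT : wt T = z * Nat.card H := by
    rw [wt, ← hTc, ← smul_eq_mul]
    refine Finset.sum_const_nat (fun g hg => ?_)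
    exact Nat.card_congr (Equiv.subtypeUnivEquiv fun h =>
      (Subgroup.mem_center_iff.1 (hS.central (Finset.mem_filter.1 hg).2) h).symm)
  have htot : wt (Finset.univ : Finset H) = Nat.card (ConjClasses H) * Nat.card H := sum_card_commute H
  let B : H → Finset H := fun x => (ACP.block S x).toFinset
  have hTB : ∀ x, Disjoint T (B x) := fun x => Finset.disjoint_left.2 fun g hg hgB =>
    (Set.mem_toFinset.1 hgB).1 (Finset.mem_filter.1 hg).2
  have hBB : ∀ {x y}, x ∉ S → y ∉ S → y ∉ B x → Disjoint (B x) (B y) := fun hx hy hyx =>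
    Set.disjoint_toFinset.2 (ACP.block_disjoint hS hx hy fun hc =>
      hyx (Set.mem_toFinset.2 ⟨hy, hc⟩))
  obtain ⟨x₁, hx₁⟩ : ∃ x, x ∉ S := by
    by_contra hc
    push Not at hc
    obtain ⟨u, v, huv⟩ := hne
    exact huv (Subgroup.mem_center_iff.1 (hS.central (hc v)) u)
  obtain ⟨K, a, f, hK, ha, hf, hfK, hH, hc1, hb1, hcb1⟩ := block_data hS hne hx₁
  have hB1 : (B x₁).card = K * (a - 1) * z := by rw [← Set.ncard_eq_toFinset_card']; exact hb1
  have hw1 : wt (B x₁) = K * (a - 1) * z * (a * z) := wt_block hb1 hcb1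
  refine ⟨f * K * a, hH, ?_⟩
  by_cases h2 : ∃ x, x ∉ S ∧ x ∉ B x₁
  swap
  · -- one block
    exfalso
    push Not at h2
    have hcov : (Finset.univ : Finset H) = T ∪ B x₁ := by
      ext g
      simp only [Finset.mem_univ, Finset.mem_union, true_iff, hT, Finset.mem_filter, true_and]
      exact or_iff_not_imp_left.2 (h2 g)
    have hcard := congrArg Finset.card hcov
    rw [Finset.card_univ, ← Nat.card_eq_fintype_card, hH, Finset.card_union_of_disjoint (hTB _), hTc,
      hB1] at hcard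
    have : f * K * a = 1 + K * (a - 1) :=
      Nat.eq_of_mul_eq_mul_right hz0 (by rw [hcard]; ring)
    obtain ⟨a', rfl⟩ : ∃ a', a = a' + 2 := ⟨a - 2, by omega⟩
    rw [show a' + 2 - 1 = a' + 1 by omega] at this
    rcases hf with rfl | rfl
    · have := hfK rfl; nlinarith
    · nlinarith
  obtain ⟨x₂, hx₂, hx₂1⟩ := h2
  obtain ⟨L, b, g, hL, hb, hg, hgL, hH', hc2, hb2, hcb2⟩ := block_data hS hne hx₂
  have hB2 : (B x₂).card = L * (b - 1) * z := by rw [← Set.ncard_eq_toFinset_card']; exact hb2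
  have hw2 : wt (B x₂) = L * (b - 1) * z * (b * z) := wt_block hb2 hcb2
  have hN' : f * K * a = g * L * b := Nat.eq_of_mul_eq_mul_right hz0 (hH.symm.trans hH')
  have hd12 := hBB hx₁ hx₂ hx₂1
  have hd012 : Disjoint (T ∪ B x₁) (B x₂) := Finset.disjoint_union_left.2 ⟨hTB _, hd12⟩
  by_cases h3 : ∃ x, x ∉ S ∧ x ∉ B x₁ ∧ x ∉ B x₂
  swap
  · -- two blocks
    push Not at h3
    have hcov : (Finset.univ : Finset H) = T ∪ B x₁ ∪ B x₂ := by
      ext y
      simp only [Finset.mem_univ, Finset.mem_union, true_iff, hT, Finset.mem_filter, true_and]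
      by_cases h : y ∈ S
      · exact Or.inl (Or.inl h)
      · by_cases h' : y ∈ B x₁
        · exact Or.inl (Or.inr h')
        · exact Or.inr (h3 y h h')
    have hcard := congrArg Finset.card hcov
    rw [Finset.card_univ, ← Nat.card_eq_fintype_card, hH, Finset.card_union_of_disjoint hd012,
      Finset.card_union_of_disjoint (hTB _), hTc, hB1, hB2] at hcard
    have hN : f * K * a = 1 + K * (a - 1) + L * (b - 1) :=
      Nat.eq_of_mul_eq_mul_right hz0 (by rw [hcard]; ring)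
    have hk : Nat.card (ConjClasses H) * (f * K * a * z) = z * (f * K * a * z) +
        K * (a - 1) * z * (a * z) + L * (b - 1) * z * (b * z) := by
      rw [← hH, ← htot, hcov, wt, Finset.sum_union hd012, Finset.sum_union (hTB _), ← wt, ← wt, ← wt,
        hwT, hw1, hw2]
    have hpos : 0 < K * a * z * (L * b * z) :=
      Nat.mul_pos (Nat.mul_pos (Nat.mul_pos hK (by omega)) hz0)
        (Nat.mul_pos (Nat.mul_pos hL (by omega)) hz0)
    have key : ∀ {N K a L b : ℕ} (x y : H), N = 1 * K * a → N = 2 * L * b → 1 ≤ K → 2 ≤ a →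
        ((a = 2 ∧ N = 2 * b) ∨ (a = 3 ∧ b = 2 ∧ N = 12)) →
        Nat.card (ConjClasses H) * (N * z) = z * (N * z) +
          K * (a - 1) * z * (a * z) + L * (b - 1) * z * (b * z) →
        2 ≤ b → y ∉ S → Nat.card (centralizer ({y} : Set H)) = b * z →
        (∃ b, 2 ≤ b ∧ N = 2 * b ∧ 2 * Nat.card (ConjClasses H) = z * (b + 3) ∧
          ∃ x : H, x ∉ S ∧ Nat.card (centralizer ({x} : Set H)) = b * z) ∨
        (N = 12 ∧ 2 * Nat.card (ConjClasses H) = 7 * z) := by
      intro N K a L b x y hN1 hN2 hK1 ha1 hcases hk1 hb1 hy hcy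
      have hNz : 0 < N * z := Nat.mul_pos (by rw [hN1, one_mul]; exact Nat.mul_pos hK1 (by omega)) hz0
      rcases hcases with ⟨rfl, hNb⟩ | ⟨rfl, rfl, hNb⟩
      · refine Or.inl ⟨b, hb1, hNb, Nat.eq_of_mul_eq_mul_right hNz ?_, y, hy, hcy⟩
        obtain ⟨b', rfl⟩ : ∃ b', b = b' + 1 := ⟨b - 1, by omega⟩
        obtain rfl : K = b' + 1 := by linarith
        obtain rfl : L = 1 :=
          Nat.eq_of_mul_eq_mul_right (show 0 < b' + 1 by omega) (by linarith)
        subst hNb
        simp only [Nat.add_sub_cancel, show 2 - 1 = 1 from rfl] at hk1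
        linarith
      · obtain rfl : K = 4 := by omega
        obtain rfl : L = 3 := by omega
        subst hNb
        refine Or.inr ⟨rfl, Nat.eq_of_mul_eq_mul_right hNz ?_⟩
        simp only [show 3 - 1 = 2 from rfl, show 2 - 1 = 1 from rfl] at hk1
        linarith
    rcases Nat.le_total f g with hfg | hfg
    · obtain ⟨rfl, rfl, hcs⟩ := two_terms hK hL ha hb hf hg rfl hN' hN hfg
      rcases key (N := 1 * K * a) x₁ x₂ rfl hN' hK ha hcs hk hb hx₂ hc2 with h | h
      · exact Or.inl h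
      · exact Or.inr (Or.inl h)
    · obtain ⟨rfl, rfl, hcs⟩ := two_terms (N := g * L * b) hL hK hb ha hg hf rfl hN'.symm
        (by rw [← hN', hN]; ring) hfg
      rw [hN'] at hk ⊢
      rcases key (N := 1 * L * b) x₂ x₁ rfl hN'.symm hL hb hcs (by rw [hk]; ring) ha hx₁ hc1 with h | h
      · exact Or.inl h
      · exact Or.inr (Or.inl h)
  obtain ⟨x₃, hx₃, hx₃1, hx₃2⟩ := h3
  obtain ⟨M, c, e, hM, hc, he, heM, hH'', hc3, hb3, hcb3⟩ := block_data hS hne hx₃
  have hB3 : (B x₃).card = M * (c - 1) * z := by rw [← Set.ncard_eq_toFinset_card']; exact hb3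
  have hw3 : wt (B x₃) = M * (c - 1) * z * (c * z) := wt_block hb3 hcb3
  have hN'' : f * K * a = e * M * c := Nat.eq_of_mul_eq_mul_right hz0 (hH.symm.trans hH'')
  have hd3 : Disjoint (T ∪ B x₁ ∪ B x₂) (B x₃) := Finset.disjoint_union_left.2
    ⟨Finset.disjoint_union_left.2 ⟨hTB _, hBB hx₁ hx₃ hx₃1⟩, hBB hx₂ hx₃ hx₃2⟩
  by_cases h4 : ∃ x, x ∉ S ∧ x ∉ B x₁ ∧ x ∉ B x₂ ∧ x ∉ B x₃
  · exfalso
    obtain ⟨x₄, hx₄, hx₄1, hx₄2, hx₄3⟩ := h4
    obtain ⟨P, d, i, hP, hd, hi, -, hH4, -, hb4, -⟩ := block_data hS hne hx₄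
    have hB4 : (B x₄).card = P * (d - 1) * z := by rw [← Set.ncard_eq_toFinset_card']; exact hb4
    have hd4 : Disjoint (T ∪ B x₁ ∪ B x₂ ∪ B x₃) (B x₄) := Finset.disjoint_union_left.2
      ⟨Finset.disjoint_union_left.2 ⟨Finset.disjoint_union_left.2 ⟨hTB _, hBB hx₁ hx₄ hx₄1⟩,
        hBB hx₂ hx₄ hx₄2⟩, hBB hx₃ hx₄ hx₄3⟩
    have hle := Finset.card_le_univ (T ∪ B x₁ ∪ B x₂ ∪ B x₃ ∪ B x₄)
    rw [← Nat.card_eq_fintype_card, hH, Finset.card_union_of_disjoint hd4,
      Finset.card_union_of_disjoint hd3, Finset.card_union_of_disjoint hd012,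
      Finset.card_union_of_disjoint (hTB _), hTc, hB1, hB2, hB3, hB4] at hle
    exact no_four_terms hK hL hM hP ha hb hc hd hf hg he hi rfl hN' hN''
      (Nat.eq_of_mul_eq_mul_right hz0 (hH.symm.trans hH4))
      (Nat.le_of_mul_le_mul_right (le_trans (le_of_eq (by ring)) hle) hz0)
  push Not at h4
  have hcov : (Finset.univ : Finset H) = T ∪ B x₁ ∪ B x₂ ∪ B x₃ := by
    ext y
    simp only [Finset.mem_univ, Finset.mem_union, true_iff, hT, Finset.mem_filter, true_and]
    by_cases h : y ∈ S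
    · exact Or.inl (Or.inl (Or.inl h))
    · by_cases h' : y ∈ B x₁
      · exact Or.inl (Or.inl (Or.inr h'))
      · by_cases h'' : y ∈ B x₂
        · exact Or.inl (Or.inr h'')
        · exact Or.inr (h4 y h h' h'')
  have hcard := congrArg Finset.card hcov
  rw [Finset.card_univ, ← Nat.card_eq_fintype_card, hH, Finset.card_union_of_disjoint hd3,
    Finset.card_union_of_disjoint hd012,
    Finset.card_union_of_disjoint (hTB _), hTc, hB1, hB2, hB3] at hcard
  have hN : f * K * a = 1 + K * (a - 1) + L * (b - 1) + M * (c - 1) :=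
    Nat.eq_of_mul_eq_mul_right hz0 (by rw [hcard]; ring)
  have hk : Nat.card (ConjClasses H) * (f * K * a * z) = z * (f * K * a * z) +
      K * (a - 1) * z * (a * z) + L * (b - 1) * z * (b * z) + M * (c - 1) * z * (c * z) := by
    rw [← hH, ← htot, hcov, wt, Finset.sum_union hd3, Finset.sum_union hd012,
      Finset.sum_union (hTB _), ← wt, ← wt, ← wt, ← wt, hwT, hw1, hw2, hw3]
  obtain ⟨rfl, rfl, rfl⟩ := three_terms hK hL hM ha hb hc hf hg he rfl hN' hN'' hN
  obtain ⟨N, hNdef⟩ : ∃ N, 2 * K * a = N := ⟨_, rfl⟩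
  rw [hNdef] at hN hk hN' hN'' ⊢
  have hNz : 0 < N * z := by
    rw [← hNdef]
    exact Nat.mul_pos (Nat.mul_pos (Nat.mul_pos two_pos hK) (by omega)) hz0
  have fin : ∀ {K a L b M c : ℕ} (y : H), 1 ≤ K → 1 ≤ L → 1 ≤ M → 2 ≤ a → a ≤ b → b ≤ c →
      N = 2 * K * a → N = 2 * L * b → N = 2 * M * c →
      N = 1 + K * (a - 1) + L * (b - 1) + M * (c - 1) →
      Nat.card (ConjClasses H) * (N * z) = z * (N * z) +
        K * (a - 1) * z * (a * z) + L * (b - 1) * z * (b * z) + M * (c - 1) * z * (c * z) →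
      y ∉ S → Nat.card (centralizer ({y} : Set H)) = c * z →
      (∃ b, 2 ≤ b ∧ N = 2 * b ∧ 2 * Nat.card (ConjClasses H) = z * (b + 3) ∧
        ∃ x : H, x ∉ S ∧ Nat.card (centralizer ({x} : Set H)) = b * z) ∨
      (N = 12 ∧ 2 * Nat.card (ConjClasses H) = 7 * z) ∨
      (N = 24 ∧ 2 * Nat.card (ConjClasses H) = 8 * z) ∨
      (N = 60 ∧ 2 * Nat.card (ConjClasses H) = 9 * z ∧
        ∃ x : H, x ∉ S ∧ Nat.card (centralizer ({x} : Set H)) = 5 * z) := by
    intro K a L b M c y hK hL hM ha hab hbc e1 e2 e3 hN hk hy hcy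
    rcases three_sorted hK hL hM ha hab hbc e1 e2 e3 hN with
      ⟨rfl, rfl, hn⟩ | ⟨rfl, rfl, rfl, hn⟩ | ⟨rfl, rfl, rfl, hn⟩ | ⟨rfl, rfl, rfl, hn⟩
    · refine Or.inl ⟨c, hbc, hn, Nat.eq_of_mul_eq_mul_right hNz ?_, y, hy, hcy⟩
      obtain ⟨c', rfl⟩ : ∃ c', c = c' + 1 := ⟨c - 1, by omega⟩
      obtain rfl : L = K := by linarith
      obtain rfl : M = 1 :=
        Nat.eq_of_mul_eq_mul_right (show 0 < c' + 1 by omega) (by linarith)
      have hK2 : 2 * L = c' + 1 := by linarith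
      simp only [Nat.add_sub_cancel, show 2 - 1 = 1 from rfl] at hk
      rw [hn] at hk ⊢
      have h2L : 2 * (L * z * z) = (c' + 1) * z * z := by rw [← hK2]; ring
      linarith
    · obtain rfl : K = 3 := by omega
      obtain rfl : L = 2 := by omega
      obtain rfl : M = 2 := by omega
      refine Or.inr (Or.inl ⟨hn, Nat.eq_of_mul_eq_mul_right hNz ?_⟩)
      rw [hn] at hk ⊢
      simp only [show 3 - 1 = 2 from rfl, show 2 - 1 = 1 from rfl, show 4 - 1 = 3 from rfl,
        show 5 - 1 = 4 from rfl] at hk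
      linarith
    · obtain rfl : K = 6 := by omega
      obtain rfl : L = 4 := by omega
      obtain rfl : M = 3 := by omega
      refine Or.inr (Or.inr (Or.inl ⟨hn, Nat.eq_of_mul_eq_mul_right hNz ?_⟩))
      rw [hn] at hk ⊢
      simp only [show 3 - 1 = 2 from rfl, show 2 - 1 = 1 from rfl, show 4 - 1 = 3 from rfl,
        show 5 - 1 = 4 from rfl] at hk
      linarith
    · obtain rfl : K = 15 := by omega
      obtain rfl : L = 10 := by omega
      obtain rfl : M = 6 := by omega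
      refine Or.inr (Or.inr (Or.inr ⟨hn, Nat.eq_of_mul_eq_mul_right hNz ?_, y, hy, hcy⟩))
      rw [hn] at hk ⊢
      simp only [show 3 - 1 = 2 from rfl, show 2 - 1 = 1 from rfl, show 4 - 1 = 3 from rfl,
        show 5 - 1 = 4 from rfl] at hk
      linarith
  rcases Nat.le_total a b with h | h <;> rcases Nat.le_total b c with h' | h' <;>
    rcases Nat.le_total a c with h'' | h''
  all_goals first
    | exact fin x₃ hK hL hM ha (by omega) (by omega) hNdef.symm hN' hN'' (by linarith) (by linarith) hx₃ hc3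
    | exact fin x₂ hK hM hL ha (by omega) (by omega) hNdef.symm hN'' hN' (by linarith) (by linarith) hx₂ hc2
    | exact fin x₃ hL hK hM hb (by omega) (by omega) hN' hNdef.symm hN'' (by linarith) (by linarith) hx₃ hc3
    | exact fin x₁ hL hM hK hb (by omega) (by omega) hN' hN'' hNdef.symm (by linarith) (by linarith) hx₁ hc1
    | exact fin x₂ hM hK hL hc (by omega) (by omega) hN'' hNdef.symm hN' (by linarith) (by linarith) hx₂ hc2
    | exact fin x₁ hM hL hK hc (by omega) (by omega) hN'' hN' hNdef.symm (by linarith) (by linarith) hx₁ hc1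

/-- The centraliser of a nonscalar matrix is small. -/
theorem card_centralizer_le {F : Type*} [Field F] [Fintype F] (H : Subgroup (GL (Fin 2) F))
    [Finite H] {x : H} (hx : x ∉ GLT.scalars H) :
    Nat.card (centralizer ({x} : Set H)) ≤ Fintype.card F ^ 2 - 1 := by
  classical
  have hx' : ¬ Linear.IsScalarTwo ((x : GL (Fin 2) F) : Matrix (Fin 2) (Fin 2) F) := fun h =>
    hx (GLT.mem_scalars_iff.mpr h)
  choose α β hαβ using fun y : centralizer ({x} : Set H) => Linear.exists_of_commute hx'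
    (congrArg (fun q : H => ((q : GL (Fin 2) F) : Matrix (Fin 2) (Fin 2) F))
      (mem_centralizer_singleton_iff.1 y.2))
  have hinj : Function.Injective fun y => (⟨(α y, β y), by
      intro h0
      have := hαβ y
      rw [show α y = 0 from (Prod.ext_iff.1 h0).1, show β y = 0 from (Prod.ext_iff.1 h0).2] at this
      simp at this⟩ : {q : F × F // q ≠ 0}) := fun y y' h => by
    have h' := congrArg Subtype.val h
    refine Subtype.ext (Subtype.ext (Units.ext ?_))
    have ha : α y = α y' := (Prod.ext_iff.1 h').1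
    have hb : β y = β y' := (Prod.ext_iff.1 h').2
    rw [hαβ y, hαβ y', ha, hb]
  refine (Nat.card_le_card_of_injective _ hinj).trans ?_
  rw [Nat.card_eq_fintype_card, Fintype.card_subtype_compl, Fintype.card_subtype_eq,
    Fintype.card_prod, sq]

end Cfsg.Agent.H45.CoprimeTrans
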