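import Cfsg.Agent.Arith.LargePrimDiv

/-!
The pairs `(p, n)` for which no primitive prime divisor of `p ^ n - 1` is large against `n`.
-/

set_option autoImplicit false

namespace Cfsg.Agent.H45.CoprimeTrans

open Cfsg.Agent.Arith

/-- A primitive prime divisor forcing a normal Sylow subgroup. -/
def GoodPrime (r p n : ℕ) : Prop :=
  IsPPD r p n ∧ (r ^ 2 ∣ p ^ n - 1 ∨ 2 * n + 1 < r ∨ (p = 3 ∧ r = 2 * n + 1))

theorem dvd_of_no_good {p n m : ℕ} (hp : 2 ≤ p) (hn : 3 ≤ n) (hno : ∀ r, ¬ GoodPrime r p n)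
    (hm : IsPrimDiv m p n) :
    (∀ r, r.Prime → r ∣ m → r = n + 1 ∨ (r = 2 * n + 1 ∧ p ≠ 3)) ∧ Squarefree m := by
  refine ⟨fun r hr hrm => ?_, Nat.squarefree_iff_prime_squarefree.2 fun r hr hd =>
    hno r ⟨hm.isPPD hr ((dvd_mul_right r r).trans hd), Or.inl (by rw [sq]; exact hd.trans hm.1)⟩⟩
  have hppd := hm.isPPD hr hrm
  obtain ⟨k, hk⟩ := hppd.modEq (q := p) (by omega) (by omega)
  have hle : r ≤ 2 * n + 1 := by
    by_contra hc
    exact hno r ⟨hppd, Or.inr (Or.inl (by omega))⟩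
  have h2 := hr.two_le
  have hk2 : k ≤ 2 := by nlinarith [show r = n * k + 1 by omega]
  interval_cases k
  · omega
  · exact Or.inl (by omega)
  · refine Or.inr ⟨by omega, fun h3 => hno r ⟨hppd, Or.inr (Or.inr ⟨h3, by omega⟩)⟩⟩

theorem le_of_prime_factors {m a b : ℕ} (ha : 0 < a) (hb : 0 < b) (hsq : Squarefree m)
    (h : ∀ r, r.Prime → r ∣ m → r = a ∨ r = b) :
    m ≤ a * b ∧ (¬ (a.Prime ∧ b.Prime) → m ≤ max a b) := by
  have hsub : m.primeFactors ⊆ {a, b} := fun r hr => by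
    simpa using h r (Nat.prime_of_mem_primeFactors hr) (Nat.dvd_of_mem_primeFactors hr)
  have hm := Nat.prod_primeFactors_of_squarefree hsq
  refine ⟨?_, fun hnot => ?_⟩
  · rw [← hm]
    refine Nat.le_of_dvd (Nat.mul_pos ha hb) ((Finset.prod_dvd_prod_of_subset _ _ _ hsub).trans ?_)
    rcases eq_or_ne a b with rfl | hne
    · simp
    · rw [Finset.prod_pair hne]
  · rw [not_and_or] at hnot
    rw [← hm]
    rcases hnot with hA | hB
    · have : m.primeFactors ⊆ {b} := fun r hr => by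
        have := hsub hr
        simp only [Finset.mem_insert, Finset.mem_singleton] at this ⊢
        exact this.resolve_left fun e => hA (e ▸ Nat.prime_of_mem_primeFactors hr)
      exact (Nat.le_of_dvd (by simpa using hb) (Finset.prod_dvd_prod_of_subset _ _ _ this)).trans
        (by simp)
    · have : m.primeFactors ⊆ {a} := fun r hr => by
        have := hsub hr
        simp only [Finset.mem_insert, Finset.mem_singleton] at this ⊢
        exact this.resolve_right fun e => hB (e ▸ Nat.prime_of_mem_primeFactors hr)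
      exact (Nat.le_of_dvd (by simpa using ha) (Finset.prod_dvd_prod_of_subset _ _ _ this)).trans
        (by simp)

theorem small_totient {t : ℕ} (ht : 14 ≤ t) :
    2 * t ^ 2 * ((2 * t ^ 2 + 1) * (4 * t ^ 2 + 1)) < 4 ^ t := by
  induction t, ht using Nat.le_induction with
  | base => norm_num
  | succ t ht ih =>
    have h14 : 196 ≤ t ^ 2 := by nlinarith
    have h1 : 3 * (t + 1) ^ 2 ≤ 4 * t ^ 2 := by nlinarith
    have h2 : 3 * (2 * (t + 1) ^ 2 + 1) ≤ 4 * (2 * t ^ 2 + 1) := by nlinarith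
    have h3 : 3 * (4 * (t + 1) ^ 2 + 1) ≤ 4 * (4 * t ^ 2 + 1) := by nlinarith
    have h4 := Nat.mul_le_mul h1 (Nat.mul_le_mul h2 h3)
    rw [pow_succ 4 t]
    generalize 4 ^ t = P at ih ⊢
    obtain ⟨X, hX⟩ : ∃ X, 2 * t ^ 2 * ((2 * t ^ 2 + 1) * (4 * t ^ 2 + 1)) = X := ⟨_, rfl⟩
    obtain ⟨Y, hY⟩ : ∃ Y, 2 * (t + 1) ^ 2 * ((2 * (t + 1) ^ 2 + 1) * (4 * (t + 1) ^ 2 + 1)) = Y :=
      ⟨_, rfl⟩
    have h5 : 27 * Y ≤ 64 * X := by rw [← hX, ← hY]; nlinarith [h4]
    rw [hX] at ih
    rw [hY]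
    omega

set_option maxRecDepth 100000 in
theorem pair_list : ∀ n : ℕ, n < 339 → 3 ≤ n → (n + 1).Prime → (2 * n + 1).Prime →
    4 ^ n.totient ≤ n * ((n + 1) * (2 * n + 1)) → n = 6 ∨ n = 18 := by
  intro n hn h3 hp hq hle
  interval_cases n <;> first
    | omega
    | (norm_num at hp; done)
    | (norm_num at hq; done)
    | (rw [Nat.totient_eq_card_coprime] at hle; revert hle; decide)

/-- Outside four pairs there is a good prime. -/
theorem exists_goodPrime {p n : ℕ} (hp : p.Prime) (hp2 : p ≠ 2) (hn : 3 ≤ n)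
    (h34 : ¬ (p = 3 ∧ n = 4)) (h36 : ¬ (p = 3 ∧ n = 6)) (h56 : ¬ (p = 5 ∧ n = 6))
    (h176 : ¬ (p = 17 ∧ n = 6)) : ∃ r, GoodPrime r p n := by
  by_contra hno
  push Not at hno
  have hp3 : 3 ≤ p := by have := hp.two_le; omega
  obtain ⟨m, hm, hbig⟩ := exists_large_primDiv (q := p) (by omega) hn (by
    simp only [List.mem_cons, List.not_mem_nil, or_false, Prod.mk.injEq]
    intro h
    rcases h with ⟨rfl, rfl⟩ | ⟨rfl, rfl⟩ | ⟨rfl, rfl⟩ | ⟨rfl, rfl⟩ | ⟨rfl, rfl⟩ | ⟨rfl, rfl⟩ |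
      ⟨rfl, rfl⟩ | ⟨rfl, rfl⟩ | ⟨rfl, rfl⟩ | ⟨rfl, rfl⟩ | ⟨rfl, rfl⟩ | ⟨rfl, rfl⟩ | ⟨rfl, rfl⟩ <;>
      first
        | omega
        | (norm_num at hp))
  obtain ⟨hmp, hmsq⟩ := dvd_of_no_good (by omega) hn hno hm
  have hpne : p ≠ 3 := fun h3 => by
    have := (le_of_prime_factors (a := n + 1) (b := 1) (by omega) one_pos hmsq
      fun r hr hd => Or.inl ((hmp r hr hd).resolve_right fun e => e.2 h3)).1
    omega
  have hpair : (n + 1).Prime ∧ (2 * n + 1).Prime := by
    by_contra hc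
    have := (le_of_prime_factors (a := n + 1) (b := 2 * n + 1) (by omega) (by omega) hmsq
      fun r hr hd => (hmp r hr hd).imp id And.left).2 hc
    omega
  have hbound : (p - 1) ^ n.totient ≤ n * ((n + 1) * (2 * n + 1)) := by
    refine (pow_totient_le_phiVal (by omega) (by omega : 2 ≤ p)).trans ?_
    rcases exists_primDiv (q := p) hn (by omega) with h1 | ⟨q, m', hq, hqn, -, he, h1⟩
    · obtain ⟨h2, h3⟩ := dvd_of_no_good (by omega) hn hno h1
      exact ((le_of_prime_factors (by omega) (by omega) h3 fun r hr hd =>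
        (h2 r hr hd).imp id And.left).1).trans (Nat.le_mul_of_pos_left _ (by omega))
    · obtain ⟨h2, h3⟩ := dvd_of_no_good (by omega) hn hno h1
      rw [he]
      exact Nat.mul_le_mul (Nat.le_of_dvd (by omega) hqn)
        (le_of_prime_factors (by omega) (by omega) h3 fun r hr hd => (h2 r hr hd).imp id And.left).1
  have hp5 : 5 ≤ p := by
    rcases eq_or_ne p 4 with rfl | h4
    · norm_num at hp
    · omega
  have h4 : 4 ^ n.totient ≤ n * ((n + 1) * (2 * n + 1)) :=
    (Nat.pow_le_pow_left (by omega) _).trans hbound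
  have hn339 : n < 339 := by
    have ht := (le_totient_sq n).1
    by_contra hc
    have h14 : 14 ≤ n.totient := by nlinarith
    have := small_totient h14
    have : n * ((n + 1) * (2 * n + 1)) ≤ 2 * n.totient ^ 2 * ((2 * n.totient ^ 2 + 1) * (4 * n.totient ^ 2 + 1)) :=
      Nat.mul_le_mul ht (Nat.mul_le_mul (by omega) (by omega))
    omega
  have wit : ∀ r, r.Prime → IsPrimDiv r p n → (r ^ 2 ∣ p ^ n - 1 ∨ 2 * n + 1 < r) → False :=
    fun r hr h h' => hno r ⟨h.isPPD hr dvd_rfl, h'.imp id Or.inl⟩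
  rcases pair_list n hn339 hn hpair.1 hpair.2 h4 with rfl | rfl
  · have hle : p ≤ 24 := by
      by_contra hc
      rw [show (6 : ℕ).totient = 2 from by decide] at hbound
      have : 24 ^ 2 ≤ (p - 1) ^ 2 := Nat.pow_le_pow_left (by omega) _
      omega
    interval_cases p <;> try norm_num at hp
    · exact h56 ⟨rfl, rfl⟩
    · exact wit 43 (by norm_num) (by decide) (Or.inr (by norm_num))
    · exact wit 37 (by norm_num) (by decide) (Or.inr (by norm_num))
    · exact wit 157 (by norm_num) (by decide) (Or.inr (by norm_num))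
    · exact h176 ⟨rfl, rfl⟩
    · exact wit 7 (by norm_num) (by decide) (Or.inl (by decide))
    · exact wit 13 (by norm_num) (by decide) (Or.inl (by decide))
  · have hle : p ≤ 5 := by
      by_contra hc
      rw [show (18 : ℕ).totient = 6 from by decide] at hbound
      have : 5 ^ 6 ≤ (p - 1) ^ 6 := Nat.pow_le_pow_left (by omega) _
      omega
    obtain rfl : p = 5 := by omega
    exact wit 5167 (by norm_num) (by decide) (Or.inr (by norm_num))

end Cfsg.Agent.H45.CoprimeTrans
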