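import Cfsg.Agent.H45.CoprimeTrans.Bridge
import Cfsg.Agent.Hall.SchurZassenhaus
import Cfsg.Agent.Cores.Constrained

/-!
`p`-regular classes and the structure of a `p`-solvable group with one class of `p`-elements and
trivial `p'`-core.
-/

set_option autoImplicit false
set_option linter.style.haveILetI false
set_option linter.unusedSectionVars false

namespace Cfsg.Agent.H45.CoprimeTrans

universe u

open Subgroup Cfsg Cfsg.Agent.Cores
open scoped Pointwise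

/-- The classes of `p`-regular elements. -/
abbrev RegClass (p : ℕ) (X : Type*) [Group X] :=
  {c : ConjClasses X // ∃ g : X, ConjClasses.mk g = c ∧ ¬ p ∣ orderOf g}

/-- All nontrivial `p`-elements are conjugate. -/
def OneClass (p : ℕ) (X : Type*) [Group X] : Prop :=
  ∀ x y : X, x ≠ 1 → y ≠ 1 → (∃ k : ℕ, orderOf x = p ^ k) → (∃ k : ℕ, orderOf y = p ^ k) →
    IsConj x y

variable {p : ℕ} [hp : Fact p.Prime] {G : Type u} [Group G] [Finite G]

theorem exists_pow_coprime {H : Type*} [Group H] (f : G →* H) (g : G) {a b : ℕ}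
    (hab : orderOf g = a * b) (hcop : a.Coprime b) (hfg : orderOf (f g) ∣ a) :
    ∃ x : G, f x = f g ∧ orderOf x ∣ a := by
  obtain ⟨t, ht⟩ : ∃ t, b * t ≡ 1 [MOD a] := by
    rcases Nat.lt_or_ge 1 a with h1 | h1
    · obtain ⟨t, -, ht⟩ := Nat.exists_mul_mod_eq_one_of_coprime hcop.symm h1
      exact ⟨t, by rw [Nat.ModEq, ht, Nat.mod_eq_of_lt h1]⟩
    · refine ⟨1, ?_⟩
      rcases Nat.le_one_iff_eq_zero_or_eq_one.1 h1 with rfl | rfl
      · rw [mul_one, Nat.coprime_zero_left _ |>.1 hcop]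
      · exact Nat.modEq_one
  refine ⟨g ^ (b * t), ?_, ?_⟩
  · rw [map_pow]
    conv_rhs => rw [← pow_one (f g)]
    rw [pow_eq_pow_iff_modEq]
    exact Nat.ModEq.of_dvd hfg ht
  · rw [orderOf_dvd_iff_pow_eq_one, ← pow_mul, ← orderOf_dvd_iff_pow_eq_one, hab]
    exact ⟨t, by ring⟩

omit [Finite G] in
theorem not_dvd_orderOf_map {H : Type*} [Group H] (f : G →* H) {g : G} (hg : ¬ p ∣ orderOf g) :
    ¬ p ∣ orderOf (f g) := fun h => hg (h.trans (orderOf_map_dvd f g))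

/-- The map on regular classes of a homomorphism. -/
def regMap {H : Type*} [Group H] (f : G →* H) (c : RegClass p G) : RegClass p H :=
  ⟨ConjClasses.map f c.1, by
    obtain ⟨g, hg, hp'⟩ := c.2
    exact ⟨f g, by rw [← hg]; rfl, not_dvd_orderOf_map f hp'⟩⟩

/-- A `p`-regular preimage. -/
theorem exists_regular_preimage {H : Type*} [Group H] (f : G →* H) (g : G)
    (hg : ¬ p ∣ orderOf (f g)) : ∃ x : G, f x = f g ∧ ¬ p ∣ orderOf x := by
  obtain ⟨a, m, hm, he⟩ := Nat.exists_eq_pow_mul_and_not_dvd (orderOf_pos g).ne' p hp.out.ne_one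
  have hcop : (m).Coprime (p ^ a) :=
    Nat.Coprime.pow_right a ((hp.out.coprime_iff_not_dvd.2 hm).symm)
  have hd : orderOf (f g) ∣ m :=
    (Nat.Coprime.pow_right a (hp.out.coprime_iff_not_dvd.2 hg).symm).dvd_of_dvd_mul_left
      (he ▸ orderOf_map_dvd f g)
  obtain ⟨x, hx, hxo⟩ := exists_pow_coprime f g (a := m) (b := p ^ a) (by rw [he]; ring) hcop hd
  exact ⟨x, hx, fun h => hm (h.trans hxo)⟩

theorem regMap_surjective {H : Type*} [Group H] (f : G →* H) (hf : Function.Surjective f) :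
    Function.Surjective (regMap (p := p) f) := by
  rintro ⟨c, h, rfl, hh⟩
  obtain ⟨g, rfl⟩ := hf h
  obtain ⟨x, hx, hxo⟩ := exists_regular_preimage f g hh
  exact ⟨⟨ConjClasses.mk x, x, rfl, hxo⟩,
    Subtype.ext (show ConjClasses.mk (f x) = _ by rw [hx])⟩

/-- The hypotheses pass to quotients. -/
theorem oneClass_of_surjective {H : Type*} [Group H] (f : G →* H) (hf : Function.Surjective f)
    (h : OneClass p G) : OneClass p H := by
  intro x y hx hy hxp hyp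
  have lift : ∀ z : H, z ≠ 1 → (∃ k, orderOf z = p ^ k) →
      ∃ g : G, f g = z ∧ g ≠ 1 ∧ ∃ k, orderOf g = p ^ k := by
    rintro z hz ⟨k, hk⟩
    obtain ⟨g, rfl⟩ := hf z
    obtain ⟨a, m, hm, he⟩ := Nat.exists_eq_pow_mul_and_not_dvd (orderOf_pos g).ne' p hp.out.ne_one
    have hcop : (p ^ a).Coprime m := Nat.Coprime.pow_left a (hp.out.coprime_iff_not_dvd.2 hm)
    have hd : orderOf (f g) ∣ p ^ a := by
      have hd0 := he ▸ orderOf_map_dvd f g
      rw [hk] at hd0 ⊢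
      exact (Nat.Coprime.pow_left k (hp.out.coprime_iff_not_dvd.2 hm)).dvd_of_dvd_mul_right hd0
    obtain ⟨x, hx, hxo⟩ := exists_pow_coprime f g he hcop hd
    refine ⟨x, hx, fun h1 => hz (by rw [← hx, h1, map_one]), ?_⟩
    obtain ⟨j, -, hj⟩ := (Nat.dvd_prime_pow hp.out).1 hxo
    exact ⟨j, hj⟩
  obtain ⟨a, rfl, ha, hak⟩ := lift x hx hxp
  obtain ⟨b, rfl, hb, hbk⟩ := lift y hy hyp
  obtain ⟨c, hc⟩ := isConj_iff.1 (h a b ha hb hak hbk)
  exact isConj_iff.2 ⟨f c, by rw [← hc, map_mul, map_mul, map_inv]⟩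

/-- A complement of the unique minimal normal subgroup. -/
structure RedData (p : ℕ) (V E : Subgroup G) : Prop where
  normal : V.Normal
  exp : ∀ v ∈ V, v ^ p = 1
  comm : ∀ a ∈ V, ∀ b ∈ V, a * b = b * a
  ne_bot : V ≠ ⊥
  compl : IsComplement' V E
  not_dvd : ¬ p ∣ Nat.card E
  faith : ∀ e ∈ E, (∀ v ∈ V, e * v * e⁻¹ = v) → e = 1
  trans : ∀ v ∈ V, ∀ w ∈ V, v ≠ 1 → w ≠ 1 → ∃ g ∈ E, g * v * g⁻¹ = w

theorem exists_redData (hsolv : IsPSolvable p G) (hdiv : p ∣ Nat.card G) (hconj : OneClass p G)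
    (hcore : pPrimeCore p G = ⊥) : ∃ V E : Subgroup G, RedData p V E := by
  classical
  haveI : Nontrivial G := Finite.one_lt_card_iff_nontrivial.1
    (hp.out.one_lt.trans_le (Nat.le_of_dvd Nat.card_pos hdiv))
  set V := pCore p G with hV
  have hVp : IsPGroup p V := pCore_isPGroup
  haveI hVn : V.Normal := inferInstance
  have hne : V ≠ ⊥ := pCore_ne_bot_of_pPrimeCore_eq_bot hsolv hcore
  have hord : ∀ v ∈ V, ∃ k, orderOf v = p ^ k := fun v hv => by
    obtain ⟨k, hk⟩ := IsPGroup.iff_orderOf.1 hVp ⟨v, hv⟩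
    exact ⟨k, by rw [← hk, Subgroup.orderOf_mk]⟩
  obtain ⟨v₀, hv₀, hv₀1⟩ := (Subgroup.ne_bot_iff_exists_ne_one.1 hne).elim
    (fun v hv => (⟨v.1, v.2, fun h => hv (Subtype.ext h)⟩ : ∃ v, v ∈ V ∧ v ≠ 1))
  have hall : ∀ x : G, (∃ k, orderOf x = p ^ k) → x ∈ V := by
    intro x hxk
    rcases eq_or_ne x 1 with rfl | hx
    · exact one_mem _
    obtain ⟨c, hc⟩ := isConj_iff.1 (hconj v₀ x hv₀1 hx (hord v₀ hv₀) hxk)
    exact hc ▸ hVn.conj_mem v₀ hv₀ c
  obtain ⟨P⟩ : Nonempty (Sylow p G) := inferInstance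
  have hPV : (P : Subgroup G) = V := by
    refine le_antisymm (fun x hx => hall x ?_) (pCore_le_sylow P)
    obtain ⟨k, hk⟩ := IsPGroup.iff_orderOf.1 P.isPGroup' ⟨x, hx⟩
    exact ⟨k, by rw [← hk, Subgroup.orderOf_mk]⟩
  have hidx : ¬ p ∣ V.index := hPV ▸ P.not_dvd_index
  obtain ⟨z₀, hz₀⟩ := exists_prime_orderOf_dvd_card' (G := G) p hdiv
  have hexp : ∀ v ∈ V, v ^ p = 1 := by
    intro v hv
    rcases eq_or_ne v 1 with rfl | hv1
    · exact one_pow p
    have hz1 : z₀ ≠ 1 := fun h => by rw [h, orderOf_one] at hz₀; exact hp.out.ne_one hz₀.symm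
    obtain ⟨c, rfl⟩ := isConj_iff.1 (hconj z₀ v hz1 hv1 ⟨1, by rw [hz₀, pow_one]⟩ (hord v hv))
    rw [conj_pow, ← hz₀, pow_orderOf_eq_one, mul_one, mul_inv_cancel]
  have hcomm : ∀ a ∈ V, ∀ b ∈ V, a * b = b * a := by
    haveI : Nontrivial V := (Subgroup.nontrivial_iff_ne_bot V).2 hne
    haveI := hVp.center_nontrivial
    obtain ⟨z, hz⟩ := exists_ne (1 : Subgroup.center V)
    intro a ha b hb
    rcases eq_or_ne a 1 with rfl | ha1
    · rw [one_mul, mul_one]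
    have hz1 : ((z : V) : G) ≠ 1 := fun h => hz (Subtype.ext (Subtype.ext h))
    obtain ⟨c, hc⟩ := isConj_iff.1 (hconj _ a hz1 ha1 (hord _ (z : V).2) (hord a ha))
    have hb' : c⁻¹ * b * c ∈ V := by simpa using hVn.conj_mem b hb c⁻¹
    have h1 : (c⁻¹ * b * c) * ((z : V) : G) = ((z : V) : G) * (c⁻¹ * b * c) :=
      congrArg Subtype.val (Subgroup.mem_center_iff.1 z.2 ⟨_, hb'⟩)
    rw [← hc]
    calc c * ((z : V) : G) * c⁻¹ * b = c * (((z : V) : G) * (c⁻¹ * b * c)) * c⁻¹ := by group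
      _ = c * ((c⁻¹ * b * c) * ((z : V) : G)) * c⁻¹ := by rw [h1]
      _ = b * (c * ((z : V) : G) * c⁻¹) := by group
  have hcop : (Nat.card V).Coprime V.index := by
    obtain ⟨k, hk⟩ := IsPGroup.iff_card.1 hVp
    rw [hk]
    exact Nat.Coprime.pow_left k (hp.out.coprime_iff_not_dvd.2 hidx)
  obtain ⟨E, hE⟩ := Subgroup.exists_right_complement'_of_coprime hcop
  have hEc : Nat.card E = V.index := hE.symm.index_eq_card.symm
  refine ⟨V, E, ⟨hVn, hexp, hcomm, hne, hE, hEc ▸ hidx, fun e he hcen => ?_, fun v hv w hw hv1 hw1 => ?_⟩⟩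
  · have h1 : e ∈ centralizer (V : Set G) := mem_centralizer_iff.2 fun v hv =>
      (mul_inv_eq_iff_eq_mul.1 (hcen v hv)).symm
    exact Subgroup.disjoint_def.1 hE.disjoint (centralizer_pCore_le hsolv hcore h1) he
  · obtain ⟨c, hc⟩ := isConj_iff.1 (hconj v w hv1 hw1 (hord v hv) (hord w hw))
    obtain ⟨⟨⟨a, ha⟩, ⟨e, he⟩⟩, h⟩ := hE.2 c
    simp only at h
    refine ⟨e, he, ?_⟩
    have h2 : a * (e * v * e⁻¹) = (e * v * e⁻¹) * a := hcomm a ha _ (hVn.conj_mem v hv e)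
    rw [← hc, ← h, mul_inv_rev,
      show a * e * v * (e⁻¹ * a⁻¹) = a * (e * v * e⁻¹) * a⁻¹ by group, h2, mul_inv_cancel_right]

variable {V E : Subgroup G}

/-- Every `p`-regular element is conjugate into the complement. -/
theorem RedData.exists_conj_mem (h : RedData p V E) {g : G} (hg : ¬ p ∣ orderOf g) :
    ∃ a : G, a * g * a⁻¹ ∈ E := by
  classical
  haveI := h.normal
  set H := V ⊔ zpowers g with hH
  have hVH : V ≤ H := le_sup_left
  have hgH : g ∈ H := le_sup_right (a := V) (mem_zpowers g)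
  have hVp : IsPGroup p V := fun v => ⟨1, Subtype.ext (by simpa using h.exp _ v.2)⟩
  obtain ⟨k, hk⟩ := IsPGroup.iff_card.1 hVp
  have hcopg : (Nat.card V).Coprime (Nat.card (zpowers g)) := by
    rw [hk, Nat.card_zpowers]
    exact Nat.Coprime.pow_left k (hp.out.coprime_iff_not_dvd.2 hg)
  haveI : (V.subgroupOf H).Normal := inferInstance
  have hc1 : IsComplement' (V.subgroupOf H) ((zpowers g).subgroupOf H) := by
    refine isComplement'_of_disjoint_and_mul_eq_univ ?_ ?_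
    · rw [disjoint_iff, eq_bot_iff]
      rintro ⟨x, hx⟩ ⟨h1, h2⟩
      refine Subtype.ext ?_
      have h3 : x ∈ V ⊓ zpowers g := ⟨h1, h2⟩
      rw [Subgroup.inf_eq_bot_of_coprime hcopg] at h3
      exact h3
    · refine Set.eq_univ_of_forall fun ⟨x, hx⟩ => ?_
      obtain ⟨v, hv, w, hw, rfl⟩ := mem_sup_of_normal_left.1 hx
      exact ⟨⟨v, hVH hv⟩, hv, ⟨w, le_sup_right (a := V) hw⟩, hw, rfl⟩
  have hc2 : IsComplement' (V.subgroupOf H) (E.subgroupOf H) := by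
    refine isComplement'_of_disjoint_and_mul_eq_univ ?_ ?_
    · rw [disjoint_iff, eq_bot_iff]
      rintro ⟨x, hx⟩ ⟨h1, h2⟩
      exact Subtype.ext (Subgroup.disjoint_def.1 h.compl.disjoint h1 h2)
    · refine Set.eq_univ_of_forall fun ⟨x, hx⟩ => ?_
      obtain ⟨⟨⟨v, hv⟩, ⟨e, he⟩⟩, hve⟩ := h.compl.2 x
      simp only at hve
      have heH : e ∈ H := by
        rw [show e = v⁻¹ * x by rw [← hve, inv_mul_cancel_left]]
        exact mul_mem (inv_mem (hVH hv)) hx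
      exact ⟨⟨v, hVH hv⟩, hv, ⟨e, heH⟩, he, Subtype.ext hve⟩
  haveI : IsMulCommutative (V.subgroupOf H) := ⟨⟨fun a b => Subtype.ext (Subtype.ext
    (h.comm _ a.2 _ b.2))⟩⟩
  have hcopH : (Nat.card (V.subgroupOf H)).Coprime (V.subgroupOf H).index := by
    rw [hc1.symm.index_eq_card, Nat.card_congr (subgroupOfEquivOfLe hVH).toEquiv,
      Nat.card_congr (subgroupOfEquivOfLe (le_sup_right : zpowers g ≤ H)).toEquiv]
    exact hcopg
  obtain ⟨a, -, ha⟩ := Hall.complement_conj_of_abelian (V.subgroupOf H) hcopH hc1 hc2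
  refine ⟨(a : G), ?_⟩
  have hmem : MulAut.conj a ⟨g, hgH⟩ ∈ MulAut.conj a • (zpowers g).subgroupOf H :=
    ⟨⟨g, hgH⟩, mem_zpowers g, rfl⟩
  rw [ha] at hmem
  exact hmem

/-- The regular classes are those of the complement. -/
theorem RedData.card_regClass (h : RedData p V E) :
    Nat.card (RegClass p G) = Nat.card (ConjClasses E) := by
  classical
  haveI := h.normal
  let f : ConjClasses E → RegClass p G := fun c => ⟨ConjClasses.map E.subtype c, by
    obtain ⟨e, rfl⟩ := ConjClasses.mk_surjective c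
    refine ⟨(e : G), rfl, fun hd => h.not_dvd (hd.trans ?_)⟩
    rw [Subgroup.orderOf_coe]
    exact orderOf_dvd_natCard e⟩
  refine (Nat.card_congr (Equiv.ofBijective f ⟨fun c d hcd => ?_, ?_⟩)).symm
  · obtain ⟨a, rfl⟩ := ConjClasses.mk_surjective c
    obtain ⟨b, rfl⟩ := ConjClasses.mk_surjective d
    obtain ⟨x, hx⟩ := isConj_iff.1 (ConjClasses.mk_eq_mk_iff_isConj.1 (congrArg Subtype.val hcd))
    obtain ⟨⟨⟨v, hv⟩, ⟨e, he⟩⟩, hve⟩ := h.compl.2 x
    simp only at hve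
    refine ConjClasses.mk_eq_mk_iff_isConj.2 (isConj_iff.2 ⟨⟨e, he⟩, Subtype.ext ?_⟩)
    show e * (a : G) * e⁻¹ = b
    rw [← hve] at hx
    have hc : e * (a : G) * e⁻¹ = v⁻¹ * b * v := by rw [← show v * e * (a : G) * (v * e)⁻¹ = b from hx]; group
    have h1 : (b : G)⁻¹ * (e * (a : G) * e⁻¹) ∈ V := by
      rw [hc, show (b : G)⁻¹ * (v⁻¹ * b * v) = ((b : G)⁻¹ * v⁻¹ * b) * v by group]
      refine mul_mem ?_ hv
      simpa using h.normal.conj_mem v⁻¹ (inv_mem hv) (b : G)⁻¹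
    have h2 : (b : G)⁻¹ * (e * (a : G) * e⁻¹) ∈ E :=
      mul_mem (inv_mem b.2) (mul_mem (mul_mem he a.2) (inv_mem he))
    exact (inv_mul_eq_one.1 (Subgroup.disjoint_def.1 h.compl.disjoint h1 h2)).symm
  · rintro ⟨c, g, rfl, hg⟩
    obtain ⟨a, ha⟩ := h.exists_conj_mem hg
    exact ⟨ConjClasses.mk ⟨a * g * a⁻¹, ha⟩, Subtype.ext
      (ConjClasses.mk_eq_mk_iff_isConj.2 (isConj_iff.2 ⟨a⁻¹, by
        show a⁻¹ * (a * g * a⁻¹) * a⁻¹⁻¹ = g
        group⟩))⟩

theorem RedData.bounds (h : RedData p V E) :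
    p ≤ Nat.card (ConjClasses E) ∨
      (Nat.card V = p ∧ IsCyclic E ∧ Nat.card E = p - 1 ∧ Nat.card (ConjClasses E) = p - 1) ∨
      (p = 11 ∧ Nat.card V = 121 ∧ Nat.card (ConjClasses E) = 9 ∧ Nat.card E = 120 ∧
        ¬ Group.IsSolvable E) :=
  haveI := h.normal
  (group_bounds V h.exp h.comm h.ne_bot E h.not_dvd h.faith h.trans).1

end Cfsg.Agent.H45.CoprimeTrans
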