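import Cfsg.Agent.H45.CoprimeTrans.SylowTI
import Cfsg.Agent.H45.CoprimeTrans.PrimeChoice
import Cfsg.Agent.H35.ThreeBlock.Irred
import Cfsg.Agent.H35.SolvBlock.Lift
import Cfsg.Agent.H86.HalfDeg.Faithful
import Cfsg.Agent.Derange.Fixed
import Cfsg.Agent.Linear.Order
import Cfsg.Agent.S0205

/-!
A coprime transitive linear group with a good primitive prime is solvable.
-/

set_option autoImplicit false
set_option linter.style.haveILetI false
set_option linter.unusedSectionVars false

namespace Cfsg.Agent.H45.CoprimeTrans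

open MulAction Module CharBasic Cfsg.Agent.Arith Cfsg.Agent.H35.ThreeBlock Cfsg.Agent.H80

universe u

variable {p : ℕ} [hp : Fact p.Prime] {E : Type u} [Group E] [Finite E] {V : Type*} [AddCommGroup V]
  [Module (ZMod p) V] [Module.Finite (ZMod p) V] [DistribMulAction E V] [SMulCommClass E (ZMod p) V]
  [FaithfulSMul E V]

/-- The linear representation on a basis. -/
theorem exists_repr : ∃ ρ : E →* GL (Fin (finrank (ZMod p) V)) (ZMod p), Function.Injective ρ := by
  classical
  let b := Module.finBasis (ZMod p) V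
  let r : E →* Module.End (ZMod p) V :=
    { toFun := fun g => lin g
      map_one' := LinearMap.ext fun u => one_smul E u
      map_mul' := fun x y => LinearMap.ext fun u => mul_smul x y u }
  refine ⟨((LinearMap.toMatrixAlgEquiv b).toAlgHom.toMonoidHom.comp r).toHomUnits, fun x y h => ?_⟩
  have h1 : r x = r y := (LinearMap.toMatrixAlgEquiv b).injective (congrArg Units.val h)
  exact eq_of_smul_eq_smul fun u : V => LinearMap.congr_fun h1 u

theorem exists_complex_repr (hE : ¬ p ∣ Nat.card E) :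
    ∃ σ : Representation ℂ E (Fin (finrank (ZMod p) V) → ℂ),
      ∀ g : E, σ.character g = σ.character 1 → g = 1 := by
  obtain ⟨ρ, hρ⟩ := exists_repr (p := p) (E := E) (V := V)
  obtain ⟨σ, hσ⟩ := Cfsg.Agent.H35.SolvBlock.exists_complex_lift hE ρ hρ
  let σ' : Representation ℂ E (Fin (finrank (ZMod p) V) → ℂ) :=
    ((Matrix.toLinAlgEquiv' : Matrix _ _ ℂ ≃ₐ[ℂ] _).toAlgHom.toMonoidHom.comp
      (Units.coeHom _)).comp σ
  refine ⟨σ', fun g hg => hσ (Units.ext (Matrix.toLinAlgEquiv'.injective ?_))⟩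
  rw [Representation.char_one, character_eq_finrank_iff] at hg
  exact hg.trans (map_one σ').symm

theorem hasFaithful (hE : ¬ p ∣ Nat.card E) :
    Blichfeldt.HasFaithful (finrank (ZMod p) V) E := by
  obtain ⟨σ, hσ⟩ := exists_complex_repr (p := p) (E := E) (V := V) hE
  exact ⟨σ.character, ⟨_, σ, rfl⟩, hσ, _, le_rfl, by simp⟩

variable {r : ℕ}

/-- No two independent commuting elements of primitive prime order. -/
theorem mem_zpowers_of_commute (hn : 0 < finrank (ZMod p) V)
    (hq : IsPPD r p (finrank (ZMod p) V)) {a b : E} (ha : orderOf a = r) (hb : orderOf b = r)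
    (hab : Commute a b) : b ∈ Subgroup.zpowers a := by
  by_contra hb'
  have := finrank_add_two_mul_le (V := V) hq hn ha hb hab hb' ⊥
    (fun u hu => by simp [(Submodule.mem_bot _).1 hu]) (fun u hu => by simp [(Submodule.mem_bot _).1 hu])
  rw [finrank_bot] at this
  omega

theorem isCyclic_sylow [Fact r.Prime] (hn : 0 < finrank (ZMod p) V)
    (hq : IsPPD r p (finrank (ZMod p) V)) (R : Sylow r E) : IsCyclic R := by
  classical
  by_cases hne : (R : Subgroup E) = ⊥
  · haveI : Subsingleton (R : Subgroup E) := by rw [hne]; infer_instance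
    exact isCyclic_of_subsingleton
  haveI : Nontrivial (R : Subgroup E) := (Subgroup.nontrivial_iff_ne_bot _).2 hne
  haveI : Nontrivial (Subgroup.center (R : Subgroup E)) := R.isPGroup'.center_nontrivial
  obtain ⟨z, hzo⟩ := exists_prime_orderOf_dvd_card' r
    (show r ∣ Nat.card (Subgroup.center (R : Subgroup E)) by
      obtain ⟨k, hk0, hk⟩ := (R.isPGroup'.to_subgroup (Subgroup.center (R : Subgroup E))).nontrivial_iff_card.1
        inferInstance
      exact hk ▸ dvd_pow_self r hk0.ne')
  have hzo' : orderOf ((z : (R : Subgroup E)) : E) = r := by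
    rw [Subgroup.orderOf_coe, Subgroup.orderOf_coe, hzo]
  have hcz : ∀ a ∈ (R : Subgroup E), Commute a ((z : (R : Subgroup E)) : E) := fun a ha =>
    congrArg Subtype.val (Subgroup.mem_center_iff.1 z.2 ⟨a, ha⟩)
  have hcomm : ∀ a ∈ (R : Subgroup E), ∀ b ∈ (R : Subgroup E), a * b = b * a := fun a ha b hb =>
    (commute_of_commute hq hzo' (hcz a ha) (hcz b hb)).eq
  obtain ⟨h, hh, he⟩ := Derange.isCyclic_of_unique R.isPGroup' hcomm fun a ha b hb haq ha1 hbq => by
    rcases eq_or_ne b 1 with rfl | hb1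
    · exact one_mem _
    exact mem_zpowers_of_commute hn hq (orderOf_eq_prime haq ha1) (orderOf_eq_prime hbq hb1)
      (hcomm a ha b hb)
  exact (Subgroup.isCyclic_iff_exists_zpowers_eq_top _).2 ⟨h, he.symm⟩

/-- The Sylow subgroup at `2 n + 1` is normal in a group of order prime to three. -/
theorem sylow_normal_half {n : ℕ} [Fact r.Prime] {M : Type u} [Group M] [Finite M]
    (σ : Representation ℂ M (Fin n → ℂ)) (hσ : ∀ g : M, σ.character g = σ.character 1 → g = 1)
    (h3 : ¬ 3 ∣ Nat.card M) (hr3 : r ≠ 3) (hrn : 2 * n + 1 = r) (R : Sylow r M) :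
    (R : Subgroup M).Normal := by
  have hr := (Fact.out : r.Prime)
  have hF : Blichfeldt.HasFaithful n M := ⟨σ.character, ⟨_, σ, rfl⟩, hσ, _, le_rfl, by simp⟩
  refine H34.sylow_normal_of_large (Nat.card M) M rfl hF (Or.inr ⟨?_, fun K hK Q => ?_⟩) R
  · have := hr.two_le
    omega
  by_cases hdvd : r ∣ Nat.card K
  swap
  · have : (Q : Subgroup K) = ⊥ := by
      obtain ⟨j, hj⟩ := IsPGroup.iff_card.1 Q.isPGroup'
      refine Subgroup.eq_bot_of_card_eq _ ?_
      rcases Nat.eq_zero_or_pos j with h0 | h0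
      · rw [hj, h0, pow_zero]
      · exact absurd ((dvd_pow_self r h0.ne').trans (hj ▸ (Q : Subgroup K).card_subgroup_dvd_card)) hdvd
    rw [this]; infer_instance
  by_cases hnn : ∀ H : Subgroup K, H.Normal → Nat.card H ≠ r
  swap
  · push Not at hnn
    exact sylow_normal_of_normal_prime hK hnn Q
  exfalso
  obtain ⟨e⟩ := Cfsg.Agent.H86.HalfDeg.main (σ.comp K.subtype) (fun g hg => Subtype.ext (hσ g
    (hg.trans (congrArg σ.character (Subgroup.coe_one K))))) hK hnn hdvd hrn
  have hcard := Linear.card_PSL_two_mul (F := ZMod r)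
  rw [ZMod.card, ← Nat.card_congr e.toEquiv] at hcard
  have h1 : Nat.card (K ⧸ Subgroup.center K) ∣ Nat.card M :=
    (Subgroup.card_quotient_dvd_card _).trans K.card_subgroup_dvd_card
  have hr3' : ¬ 3 ∣ r := fun h => hr3 ((Nat.prime_dvd_prime_iff_eq Nat.prime_three hr).1 h).symm
  have h2 : 3 ∣ r * (r ^ 2 - 1) := by
    refine Dvd.dvd.mul_left ?_ r
    rw [← ZMod.natCast_eq_zero_iff, Nat.cast_sub (Nat.one_le_pow _ _ hr.pos), Nat.cast_pow,
      Nat.cast_one]
    have hne : (r : ZMod 3) ≠ 0 := fun h0 => hr3' ((ZMod.natCast_eq_zero_iff _ _).1 h0)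
    generalize (r : ZMod 3) = c at hne ⊢
    revert hne; revert c
    decide
  rw [← hcard] at h2
  rcases Nat.prime_three.dvd_mul.1 h2 with h4 | h4
  · have h5 := Nat.le_of_dvd two_pos (h4.trans (Nat.gcd_dvd_left _ _))
    omega
  · exact h3 (h4.trans h1)

/-- The Sylow subgroup at a good prime is normal. -/
theorem sylow_normal_of_good [Fact r.Prime] (hE : ¬ p ∣ Nat.card E)
    (hn : 0 < finrank (ZMod p) V) (hdvd : p ^ finrank (ZMod p) V - 1 ∣ Nat.card E)
    (hg : GoodPrime r p (finrank (ZMod p) V)) (R : Sylow r E) : (R : Subgroup E).Normal := by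
  obtain ⟨hq, hcase⟩ := hg
  by_cases hsq : r ^ 2 ∣ Nat.card E
  · refine sylow_normal_of_ti (n := finrank (ZMod p) V) _ E rfl
      ⟨hasFaithful (p := p) (V := V) hE, isCyclic_sylow (p := p) (V := V) hn hq,
        fun z hz g h hg hh => commute_of_commute (p := p) (V := V) hq hz hg hh, fun Q => ?_⟩ R
    calc (finrank (ZMod p) V + 1) ^ 2 ≤ r ^ 2 :=
          Nat.pow_le_pow_left (hq.lt hp.out.one_le hn) 2
      _ ≤ Nat.card (Q : Subgroup E) := Nat.le_of_dvd Nat.card_pos (Q.pow_dvd_card_of_pow_dvd_card hsq)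
  rcases hcase with h | h | ⟨h3, h⟩
  · exact absurd (h.trans hdvd) hsq
  · exact (sylow_normal_of_sq_not_dvd (hasFaithful (p := p) (V := V) hE) h R).2
  · obtain ⟨σ, hσ⟩ := exists_complex_repr (p := p) (E := E) (V := V) hE
    exact sylow_normal_half σ hσ (h3 ▸ hE)
      (fun h' => hq.not_dvd_base hp.out.one_le hn (by rw [h', h3])) h.symm R

/-- An element of primitive prime order generating a normal subgroup makes the group solvable. -/
theorem isSolvable_of_normal_zpowers (hq : IsPPD r p (finrank (ZMod p) V)) {x : E}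
    (hx : orderOf x = r) (hconj : ∀ g : E, g * x * g⁻¹ ∈ Subgroup.zpowers x) :
    Group.IsSolvable E := by
  classical
  haveI : (Subgroup.zpowers x).Normal := ⟨fun a ha g => by
    obtain ⟨i, rfl⟩ := Subgroup.mem_zpowers_iff.1 ha
    rw [← conj_zpow]
    exact zpow_mem (hconj g) i⟩
  let c : E →* MulAut (Subgroup.zpowers x) := MulAut.conjNormal
  haveI : Group.IsSolvable (MulAut (Subgroup.zpowers x)) := Group.isSolvable_of_comm fun a b =>
    (IsCyclic.mulAutMulEquiv (Subgroup.zpowers x)).injective (by rw [map_mul, map_mul, mul_comm])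
  haveI : Group.IsSolvable c.ker := Group.isSolvable_of_comm fun a b => Subtype.ext (by
    have key : ∀ e : c.ker, Commute (e : E) x := fun e => by
      have h2 : (e : E) * x * (e : E)⁻¹ = x := congrArg Subtype.val
        (DFunLike.congr_fun (MonoidHom.mem_ker.1 e.2)
          (⟨x, Subgroup.mem_zpowers x⟩ : Subgroup.zpowers x))
      exact mul_inv_eq_iff_eq_mul.1 h2
    exact (commute_of_commute (p := p) (V := V) hq hx (key a) (key b)).eq)
  exact Group.isSolvable_of_ker_le_range c.ker.subtype c (by rw [Subgroup.range_subtype])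

/-- A normal Sylow subgroup at a primitive prime makes the group solvable. -/
theorem isSolvable_of_normal_sylow [Fact r.Prime] (hn : 0 < finrank (ZMod p) V)
    (hq : IsPPD r p (finrank (ZMod p) V)) (hrE : r ∣ Nat.card E) (R : Sylow r E)
    [(R : Subgroup E).Normal] : Group.IsSolvable E := by
  obtain ⟨x, hx⟩ := exists_prime_orderOf_dvd_card' (G := E) r hrE
  have hmem : ∀ a : E, orderOf a = r → a ∈ (R : Subgroup E) := fun a ha => by
    obtain ⟨S, hS⟩ := (IsPGroup.of_card (p := r) (n := 1)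
      (by rw [Nat.card_zpowers, ha, pow_one]) : IsPGroup r (Subgroup.zpowers a)).exists_le_sylow
    obtain ⟨g, hg⟩ := MulAction.exists_smul_eq E R S
    rw [Sylow.smul_eq_of_normal] at hg
    exact hg ▸ hS (Subgroup.mem_zpowers a)
  haveI := isCyclic_sylow (p := p) (V := V) hn hq R
  letI := IsCyclic.commGroup (α := (R : Subgroup E))
  refine isSolvable_of_normal_zpowers (p := p) (V := V) hq hx fun g => ?_
  have hgx : orderOf (g * x * g⁻¹) = r := hx ▸ (MulAut.conj g).orderOf_eq x
  exact mem_zpowers_of_commute (p := p) (V := V) hn hq hx hgx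
    (congrArg Subtype.val (mul_comm (⟨x, hmem x hx⟩ : (R : Subgroup E)) ⟨_, hmem _ hgx⟩))

/-- A coprime transitive linear group of dimension at least three is solvable, four pairs apart. -/
theorem isSolvable_of_dim_ge_three (hE : ¬ p ∣ Nat.card E) (hn : 3 ≤ finrank (ZMod p) V)
    (hdvd : p ^ finrank (ZMod p) V - 1 ∣ Nat.card E)
    (h34 : ¬ (p = 3 ∧ finrank (ZMod p) V = 4)) (h36 : ¬ (p = 3 ∧ finrank (ZMod p) V = 6))
    (h56 : ¬ (p = 5 ∧ finrank (ZMod p) V = 6)) (h176 : ¬ (p = 17 ∧ finrank (ZMod p) V = 6)) :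
    Group.IsSolvable E := by
  rcases eq_or_ne p 2 with hp2 | hp2
  · subst hp2
    exact Cfsg.Agent.S0205.result (Nat.not_even_iff_odd.1 fun h => hE (even_iff_two_dvd.1 h))
  obtain ⟨r, hg⟩ := exists_goodPrime hp.out hp2 hn h34 h36 h56 h176
  haveI := Fact.mk hg.1.1
  obtain ⟨R⟩ : Nonempty (Sylow r E) := inferInstance
  haveI := sylow_normal_of_good (p := p) (V := V) hE (by omega) hdvd hg R
  exact isSolvable_of_normal_sylow (p := p) (V := V) (by omega) hg.1 (hg.1.2.1.trans hdvd) R

end Cfsg.Agent.H45.CoprimeTrans
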