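import Cfsg.Agent.H45.CoprimeTrans.FaithfulPower
import Cfsg.Agent.H34.TICentralizer
import Cfsg.Agent.H34.BlichfeldtNormal
import Cfsg.Agent.S4503

/-!
In a group with a small faithful character, a cyclic Sylow subgroup whose elements of prime order
have commutative centralisers is normal.
-/

set_option autoImplicit false
set_option linter.style.haveILetI false
set_option linter.unusedSectionVars false

namespace Cfsg.Agent.H45.CoprimeTrans

open CharBasic Cfsg.Agent.CharInduce Cfsg.Agent.H80

universe u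

variable {r n : ℕ} [hr : Fact r.Prime]

/-- Cyclic Sylow subgroups, large against the degree, with commutative centralisers. -/
structure TIData (r n : ℕ) (M : Type u) [Group M] : Prop where
  faith : Blichfeldt.HasFaithful n M
  cyc : ∀ R : Sylow r M, IsCyclic R
  cent : ∀ z : M, orderOf z = r → ∀ g h : M, Commute g z → Commute h z → Commute g h
  big : ∀ R : Sylow r M, (n + 1) ^ 2 ≤ Nat.card R

theorem TIData.subgroup {M : Type u} [Group M] [Finite M] (h : TIData r n M) (K : Subgroup M)
    (R : Sylow r M) (hR : (R : Subgroup M) ≤ K) : TIData r n K := by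
  refine ⟨h.faith.subgroup K, fun Q => ?_, fun z hz g g' hg hg' => ?_, fun Q => ?_⟩
  · obtain ⟨S, hS⟩ := (Q.isPGroup'.map K.subtype).exists_le_sylow
    haveI := h.cyc S
    let f : (Q : Subgroup K) →* (S : Subgroup M) :=
      (K.subtype.comp (Q : Subgroup K).subtype).codRestrict _ fun q => hS ⟨q, q.2, rfl⟩
    exact isCyclic_of_injective f fun a b hab =>
      Subtype.ext (Subtype.ext (congrArg Subtype.val hab : _))
  · exact Subtype.ext (h.cent z (by rw [← hz, Subgroup.orderOf_coe]) g g'
      (congrArg Subtype.val hg.eq) (congrArg Subtype.val hg'.eq))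
  · have : Nat.card (R.subtype hR) = Nat.card R := by
      rw [Sylow.coe_subtype]
      exact Nat.card_congr (Subgroup.subgroupOfEquivOfLe hR).toEquiv
    have h2 : Nat.card (Q : Subgroup K) = Nat.card R := by
      rw [← this, Q.card_eq_multiplicity, (R.subtype hR).card_eq_multiplicity]
    exact h2 ▸ h.big R

/-- The elements of prime order inside a nontrivial cyclic subgroup. -/
theorem exists_orderOf_eq {M : Type u} [Group M] [Finite M] {H : Subgroup M} (hH : IsPGroup r H)
    (hne : H ≠ ⊥) : ∃ z ∈ H, orderOf z = r := by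
  obtain ⟨k, hk⟩ := IsPGroup.iff_card.1 hH
  have hk0 : k ≠ 0 := fun h0 => hne (Subgroup.eq_bot_of_card_eq _ (by rw [hk, h0, pow_zero]))
  obtain ⟨z, hz⟩ := exists_prime_orderOf_dvd_card' r (hk ▸ dvd_pow_self r hk0 : r ∣ Nat.card H)
  exact ⟨z, z.2, by rw [Subgroup.orderOf_coe, hz]⟩

theorem sylow_normal_of_ti : ∀ (N : ℕ) (M : Type u) [Group M] [Finite M], Nat.card M = N →
    TIData r n M → ∀ R : Sylow r M, (R : Subgroup M).Normal := by
  intro N
  induction N using Nat.strong_induction_on with
  | _ N ih =>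
  intro M _ _ hN h R
  classical
  haveI : Fintype M := Fintype.ofFinite M
  have hsub : ∀ K : Subgroup M, K ≠ ⊤ → ∀ Q : Sylow r M, ∀ hQ : (Q : Subgroup M) ≤ K,
      (Q.subtype hQ : Subgroup K).Normal := fun K hK Q hQ =>
    ih (Nat.card K) (by
      rw [← hN]
      exact lt_of_le_of_ne (Subgroup.card_le_card_group _) fun e => hK (Subgroup.eq_top_of_card_eq _ e))
      K rfl (h.subgroup K Q hQ) _
  have hcomm : ∀ Q : Sylow r M, ∀ a ∈ (Q : Subgroup M), ∀ b ∈ (Q : Subgroup M), Commute a b := by
    intro Q a ha b hb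
    haveI := h.cyc Q
    letI := IsCyclic.commGroup (α := (Q : Subgroup M))
    exact congrArg Subtype.val (mul_comm (⟨a, ha⟩ : (Q : Subgroup M)) ⟨b, hb⟩)
  by_contra hR
  have hRne : (R : Subgroup M) ≠ ⊥ := fun e => hR (e ▸ inferInstance)
  obtain ⟨k, hk⟩ := IsPGroup.iff_card.1 R.isPGroup'
  haveI := h.cyc R
  obtain ⟨y₀, hy₀⟩ := IsCyclic.exists_ofOrder_eq_natCard (α := (R : Subgroup M))
  rw [hk, ← Subgroup.orderOf_coe] at hy₀
  set y : M := (y₀ : M) with hy
  have hbig : (n + 1) ^ 2 ≤ r ^ k := hk ▸ h.big R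
  by_cases hncl : Subgroup.normalClosure ((R : Subgroup M) : Set M) = ⊤
  swap
  · refine hR ?_
    have hle : (R : Subgroup M) ≤ Subgroup.normalClosure ((R : Subgroup M) : Set M) :=
      Subgroup.subset_normalClosure
    have hn := hsub _ hncl R hle
    haveI : ((R.subtype hle : Subgroup (Subgroup.normalClosure ((R : Subgroup M) : Set M)))).Characteristic :=
      (R.subtype hle).characteristic_of_normal hn
    have hmap : ((R.subtype hle : Subgroup (Subgroup.normalClosure ((R : Subgroup M) : Set M)))).map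
        (Subgroup.normalClosure ((R : Subgroup M) : Set M)).subtype = R := by
      rw [Sylow.coe_subtype, Subgroup.map_subgroupOf_eq_of_le hle]
    rw [← hmap]
    exact ConjAct.normal_of_characteristic_of_normal
  rcases R.normalizer_le_centralizer_or_le_commutator with hc | hc
  · -- a normal complement
    set K := (MonoidHom.transferSylow R hc).ker
    have hcompl : K.IsComplement' R := MonoidHom.ker_transferSylow_isComplement' R hc
    have hidx : K.index = r ^ k := by rw [hcompl.symm.index_eq_card, hk]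
    have hrK : ¬ r ∣ Nat.card K := MonoidHom.not_dvd_card_ker_transferSylow R hc
    have hk0 : 0 < k := Nat.pos_of_ne_zero fun h0 => hRne (Subgroup.eq_bot_of_card_eq _ (by
      rw [hk, h0, pow_zero]))
    have hord : ∀ i : ℕ, ¬ r ^ k ∣ i → ∃ j : ℕ, orderOf ((y ^ i) ^ j) = r := by
      intro i hi
      obtain ⟨z, hz, hzo⟩ := exists_orderOf_eq (r := r) (H := Subgroup.zpowers (y ^ i))
        (R.isPGroup'.to_le (Subgroup.zpowers_le.2 (pow_mem y₀.2 i))) fun e => hi (by
          rw [← hy₀, orderOf_dvd_iff_pow_eq_one]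
          exact Subgroup.zpowers_eq_bot.1 e)
      obtain ⟨j, hj⟩ := (mem_powers_iff_mem_zpowers (x := y ^ i)).2 hz
      exact ⟨j, by rw [show (y ^ i) ^ j = z from hj, hzo]⟩
    obtain ⟨j₀, hj₀⟩ := hord 1 fun hd => by
      have := Nat.le_of_dvd one_pos hd
      have := Nat.one_lt_pow hk0.ne' hr.out.one_lt
      omega
    set z := (y ^ 1) ^ j₀ with hz
    have hzy : Commute z y := by rw [hz, pow_one]; exact Commute.pow_self y j₀
    refine hR ?_
    have hab := abelian_of_fpf (r := r) (a := k) hr.out ((Nat.pow_lt_pow_left (Nat.lt_succ_self n) two_ne_zero).trans_le hbig) h.faith K hy₀ hrK hidx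
      (K ⊓ Subgroup.centralizer ({z} : Set M)) inf_le_left
      (fun u hu v hv => (h.cent z hj₀ u v
        (Subgroup.mem_centralizer_singleton_iff.1 hu.2)
        (Subgroup.mem_centralizer_singleton_iff.1 hv.2)).eq)
      (fun u hu => h.cent z hj₀ u y (Subgroup.mem_centralizer_singleton_iff.1 hu.2) hzy.symm)
      (fun i hi u hu huy => ⟨hu, Subgroup.mem_centralizer_singleton_iff.2 (by
        obtain ⟨j, hj⟩ := hord i hi
        exact (h.cent _ hj u z (huy.pow_right j) ((hzy.pow_right i).pow_right j)).eq)⟩)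
    exact ⟨fun a ha g => by rwa [hab g a, mul_inv_cancel_right]⟩
  · -- a perfect group
    have hperf : commutator M = ⊤ := top_le_iff.1 (hncl ▸ Subgroup.normalClosure_le_normal hc)
    have hZ : (R : Subgroup M) ⊓ Subgroup.center M = ⊥ := by
      by_contra hne
      obtain ⟨z, hz, hzo⟩ := exists_orderOf_eq (r := r)
        (R.isPGroup'.to_le (inf_le_left : (R : Subgroup M) ⊓ Subgroup.center M ≤ R)) hne
      exact hR ⟨fun a ha g => by
        rwa [(h.cent z hzo g a (Subgroup.mem_center_iff.1 hz.2 g)
          (Subgroup.mem_center_iff.1 hz.2 a)).eq, mul_inv_cancel_right]⟩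
    have hone : ∀ g : M, g ∉ Subgroup.center M → ∀ a b : M,
        Subgroup.centralizer ({g} : Set M) ⊓ (R : Subgroup M).map (MulAut.conj a).toMonoidHom ≠ ⊥ →
        Subgroup.centralizer ({g} : Set M) ⊓ (R : Subgroup M).map (MulAut.conj b).toMonoidHom ≠ ⊥ →
        (R : Subgroup M).map (MulAut.conj a).toMonoidHom =
          (R : Subgroup M).map (MulAut.conj b).toMonoidHom := by
      intro g hg a b ha hb
      have hle : ∀ Q : Sylow r M, Subgroup.centralizer ({g} : Set M) ⊓ (Q : Subgroup M) ≠ ⊥ →
          (Q : Subgroup M) ≤ Subgroup.centralizer ({g} : Set M) := by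
        intro Q hQ u hu
        obtain ⟨z, hz, hzo⟩ := exists_orderOf_eq (r := r)
          (Q.isPGroup'.to_le (inf_le_right : Subgroup.centralizer ({g} : Set M) ⊓ Q ≤ Q)) hQ
        exact Subgroup.mem_centralizer_singleton_iff.2 (h.cent z hzo u g (hcomm Q u hu z hz.2)
          (Subgroup.mem_centralizer_singleton_iff.1 hz.1).symm).eq
      have hC : Subgroup.centralizer ({g} : Set M) ≠ ⊤ := fun htop =>
        hg (Subgroup.mem_center_iff.2 fun x =>
          Subgroup.mem_centralizer_singleton_iff.1 (htop ▸ Subgroup.mem_top x))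
      have hea : ((a • R : Sylow r M) : Subgroup M) = (R : Subgroup M).map (MulAut.conj a).toMonoidHom :=
        rfl
      have heb : ((b • R : Sylow r M) : Subgroup M) = (R : Subgroup M).map (MulAut.conj b).toMonoidHom :=
        rfl
      have la := hle (a • R) (hea ▸ ha)
      have lb := hle (b • R) (heb ▸ hb)
      obtain ⟨c, hc'⟩ := MulAction.exists_smul_eq (Subgroup.centralizer ({g} : Set M))
        ((a • R).subtype la) ((b • R).subtype lb)
      haveI := hsub _ hC (a • R) la
      rw [Sylow.smul_eq_of_normal] at hc'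
      rw [← hea, ← heb, Sylow.subtype_injective hc']
    have hy1 : y ≠ 1 := fun e => by
      rw [e, orderOf_one] at hy₀
      exact hRne (Subgroup.eq_bot_of_card_eq _ (hk.trans hy₀.symm))
    obtain ⟨s, hdeg, hker⟩ := Blichfeldt.exists_constituents h.faith
    obtain ⟨φ, hφs, hφ⟩ : ∃ φ ∈ s, (φ : M → ℂ) y ≠ (φ : M → ℂ) 1 := by
      by_contra hc'
      push Not at hc'
      exact hy1 (hker y hc')
    obtain ⟨d, hdn, hd⟩ := hdeg φ hφs
    have hd1 : 1 < d := by
      obtain ⟨e, he0, he⟩ := IsIrr.exists_degree φ.2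
      have hde : d = e := by rw [hd] at he; exact_mod_cast he
      rcases Nat.lt_or_ge 1 d with hlt | hge
      · exact hlt
      exfalso
      have hd' : (φ : M → ℂ) 1 = 1 := by rw [hd, show d = 1 by omega, Nat.cast_one]
      obtain ⟨Kφ, -, hmem, -⟩ := IsChar.exists_kernel (IsIrr.isCharacter φ.2)
      have : commutator M ≤ Kφ := by
        rw [commutator_def, Subgroup.commutator_le]
        intro a _ b _
        rw [hmem, commutatorElement_def]
        exact Cfsg.Agent.S4503.commutator_apply _ φ.2 hd' a b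
      exact hφ ((hmem y).1 (this (hperf ▸ Subgroup.mem_top y)))
    haveI : Fintype (R : Subgroup M) := Fintype.ofFinite _
    have key := Cfsg.Agent.H34.succ_degree_sq_gt (R : Subgroup M)
      (fun a ha b hb => (hcomm R a ha b hb).eq) hZ hone φ.2 hd hd1 (fun K hK hRK =>
        top_le_iff.1 (hncl ▸ Subgroup.normalClosure_le_normal hRK))
    have h1 := h.big R
    have h2 : (d + 1) ^ 2 ≤ (n + 1) ^ 2 := Nat.pow_le_pow_left (by omega) 2
    omega

/-- A normal subgroup of order `r` is the Sylow subgroup when `r ^ 2` does not divide the order. -/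
theorem sylow_normal_of_normal_prime {M : Type u} [Group M] [Finite M]
    (hsq : ¬ r ^ 2 ∣ Nat.card M) (hnn : ∃ H : Subgroup M, H.Normal ∧ Nat.card H = r)
    (Q : Sylow r M) : (Q : Subgroup M).Normal := by
  obtain ⟨H, hH, hHc⟩ := hnn
  obtain ⟨S, hS⟩ := (IsPGroup.of_card (p := r) (n := 1) (by rw [hHc, pow_one]) :
    IsPGroup r H).exists_le_sylow
  have hSH : H = (S : Subgroup M) := by
    refine Subgroup.eq_of_le_of_card_ge hS ?_
    obtain ⟨j, hj⟩ := IsPGroup.iff_card.1 S.isPGroup'
    have hj1 : j ≤ 1 := by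
      by_contra hc
      exact hsq ((pow_dvd_pow r (by omega : 2 ≤ j)).trans
        (hj ▸ (S : Subgroup M).card_subgroup_dvd_card))
    rw [hj, hHc]
    exact (Nat.pow_le_pow_right hr.out.pos hj1).trans (by rw [pow_one])
  obtain ⟨g, rfl⟩ := MulAction.exists_smul_eq M S Q
  haveI : (S : Subgroup M).Normal := hSH ▸ hH
  rw [Sylow.smul_eq_of_normal]
  infer_instance

/-- A Sylow subgroup of prime order is normal when the prime is large against the degree. -/
theorem sylow_normal_of_sq_not_dvd {M : Type u} [Group M] [Finite M]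
    (hF : Blichfeldt.HasFaithful n M) (hbig : 2 * n + 1 < r) (R : Sylow r M) :
    (∀ K : Subgroup M, ¬ r ^ 2 ∣ Nat.card K → ∀ Q : Sylow r K, (Q : Subgroup K).Normal) ∧
      (R : Subgroup M).Normal := by
  have key : ∀ K : Subgroup M, ¬ r ^ 2 ∣ Nat.card K → ∀ Q : Sylow r K, (Q : Subgroup K).Normal := by
    intro K hK Q
    classical
    by_cases hdvd : r ∣ Nat.card K
    swap
    · have : (Q : Subgroup K) = ⊥ := by
        obtain ⟨j, hj⟩ := IsPGroup.iff_card.1 Q.isPGroup'
        refine Subgroup.eq_bot_of_card_eq _ ?_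
        rcases Nat.eq_zero_or_pos j with h0 | h0
        · rw [hj, h0, pow_zero]
        · exact absurd ((dvd_pow_self r h0.ne').trans (hj ▸ (Q : Subgroup K).card_subgroup_dvd_card)) hdvd
      rw [this]; infer_instance
    by_cases hnn : ∀ H : Subgroup K, H.Normal → Nat.card H ≠ r
    · obtain ⟨χ, hχ, hf, d, hd, h1⟩ := hF.subgroup K
      have := Cfsg.Agent.S4503.result r hr.out hdvd hK hnn χ hχ hf
      have hcd : Cfsg.charDegree χ = d := by simp [Cfsg.charDegree, h1]
      omega
    · push Not at hnn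
      exact sylow_normal_of_normal_prime hK hnn Q
  refine ⟨key, ?_⟩
  exact Cfsg.Agent.H34.sylow_normal_of_large (Nat.card M) M rfl hF (Or.inr ⟨by omega, key⟩) R

end Cfsg.Agent.H45.CoprimeTrans
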