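import Cfsg.Agent.H45.CoprimeTrans.Extraspecial81
import Cfsg.Agent.Cores.Fitting

/-!
A transitive group on `3 ^ 4` which is not semilinear is small: it normalises a group of order `32`.
-/

set_option autoImplicit false
set_option maxHeartbeats 1000000
set_option linter.style.haveILetI false
set_option linter.unusedSectionVars false

namespace Cfsg.Agent.H45.CoprimeTrans

open Cfsg Cfsg.Agent.H88 Cfsg.Agent.Cores
open scoped commutatorElement

section
variable {G : Type*} [Group G] [Finite G]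

/-- Inside a `2`-group a normal subgroup meets the second centre modulo a central subgroup. -/
theorem exists_mem_not_mem {M S Z : Subgroup G} (hM : IsPGroup 2 M) (hSM : S ≤ M)
    (hnorm : ∀ m ∈ M, ∀ s ∈ S, m * s * m⁻¹ ∈ S) (hne : ∃ s ∈ S, s ∉ Z) :
    ∃ s ∈ S, s ∉ Z ∧ ∀ m ∈ M, ⁅s, m⁆ ∈ Z := by
  classical
  haveI : Fact (Nat.Prime 2) := ⟨Nat.prime_two⟩
  haveI : Group.IsNilpotent M := hM.isNilpotent
  obtain ⟨n, hn⟩ : ∃ n, Subgroup.upperCentralSeries M n = ⊤ := Group.IsNilpotent.nilpotent'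
  have hex : ∃ i, ∃ s : M, (s : G) ∈ S ∧ (s : G) ∉ Z ∧ s ∈ Subgroup.upperCentralSeries M i := by
    obtain ⟨s, hs, hsZ⟩ := hne
    exact ⟨n, ⟨s, hSM hs⟩, hs, hsZ, by rw [hn]; exact Subgroup.mem_top _⟩
  obtain ⟨s, hs, hsZ, hsi⟩ := Nat.find_spec hex
  refine ⟨s, hs, hsZ, fun m hm => ?_⟩
  rcases hfi : Nat.find hex with _ | i
  · rw [hfi, Subgroup.upperCentralSeries_zero, Subgroup.mem_bot] at hsi
    exact absurd (by rw [hsi]; exact Z.one_mem) hsZ
  rw [hfi, Subgroup.mem_upperCentralSeries_succ_iff] at hsi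
  by_contra hc
  refine Nat.find_min hex (show i < Nat.find hex by omega) ⟨⁅s, ⟨m, hm⟩⁆, ?_, hc, hsi _⟩
  show ⁅(s : G), m⁆ ∈ S
  rw [commutatorElement_def, mul_assoc, mul_assoc, ← mul_assoc m]
  exact S.mul_mem hs (hnorm m hm _ (S.inv_mem hs))

/-- An element of order five fixes a proportion of an invariant subgroup congruent to one. -/
theorem card_modEq_fixed {g : G} (hgo : orderOf g = 5) (H C : Subgroup G)
    (hinv : ∀ x ∈ H, g * x * g⁻¹ ∈ H) (hC : ∀ x, x ∈ C ↔ x ∈ H ∧ g * x = x * g) :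
    Nat.card H ≡ Nat.card C [MOD 5] := by
  classical
  haveI : Fact (Nat.Prime 5) := ⟨Nat.prime_five⟩
  have hg5 : IsPGroup 5 (Subgroup.zpowers g) :=
    IsPGroup.of_card (n := 1) (by rw [Nat.card_zpowers, hgo, pow_one])
  have hpow : ∀ k : ℕ, ∀ x ∈ H, g ^ k * x * (g ^ k)⁻¹ ∈ H := by
    intro k
    induction k with
    | zero => intro x hx; simpa using hx
    | succ k ih =>
      intro x hx
      rw [pow_succ', mul_inv_rev,
        show g * g ^ k * x * ((g ^ k)⁻¹ * g⁻¹) = g * (g ^ k * x * (g ^ k)⁻¹) * g⁻¹ by group]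
      exact hinv _ (ih x hx)
  have hHQ : ∀ k : Subgroup.zpowers g, ∀ x ∈ H, (k : G) * x * (k : G)⁻¹ ∈ H := by
    rintro ⟨k, hk⟩ x hx
    obtain ⟨i, -, rfl⟩ := (IsOfFinOrder.mem_zpowers_iff_mem_range_orderOf
      (isOfFinOrder_of_finite g)).1 hk |> Finset.mem_image.1
    exact hpow i x hx
  letI : MulAction (Subgroup.zpowers g) H :=
    { smul := fun k x => ⟨(k : G) * x * (k : G)⁻¹, hHQ k x x.2⟩
      one_smul := fun x => Subtype.ext (show ((1 : Subgroup.zpowers g) : G) * x * _ = _ by simp)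
      mul_smul := fun k k' x => Subtype.ext (by
        show ((k * k' : Subgroup.zpowers g) : G) * x * _ =
          (k : G) * ((k' : G) * x * (k' : G)⁻¹) * (k : G)⁻¹
        simp [mul_assoc]) }
  refine (hg5.card_modEq_card_fixedPoints H).trans (congrArg (· % 5) (Nat.card_congr ?_))
  exact
    { toFun := fun x => ⟨((x : H) : G), (hC _).2 ⟨(x : H).2, mul_inv_eq_iff_eq_mul.1
        (congrArg Subtype.val (x.2 ⟨g, Subgroup.mem_zpowers g⟩))⟩⟩
      invFun := fun z => ⟨⟨z, ((hC _).1 z.2).1⟩, fun k => Subtype.ext (by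
        show (k : G) * (z : G) * (k : G)⁻¹ = z
        have hc : Commute g (z : G) := ((hC _).1 z.2).2
        obtain ⟨i, hi⟩ := Subgroup.mem_zpowers_iff.1 k.2
        rw [← hi, (hc.zpow_left i).eq, mul_inv_cancel_right])⟩
      left_inv := fun x => rfl
      right_inv := fun z => rfl }

/-- There are at most as many homomorphisms into a field as elements. -/
theorem card_monoidHom_le (A R : Type*) [Group A] [Finite A] [Field R] [Finite R] :
    Nat.card (A →* R) ≤ Nat.card A := by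
  classical
  haveI : Fintype A := Fintype.ofFinite A
  haveI : Finite (A →* R) := Finite.of_injective (fun f => (f : A → R)) DFunLike.coe_injective
  haveI : Fintype (A →* R) := Fintype.ofFinite _
  have := (linearIndependent_monoidHom A R).fintype_card_le_finrank
  rw [Module.finrank_fintype_fun_eq_card] at this
  simpa [Nat.card_eq_fintype_card] using this

/-- A map whose fibres lie in translates of `Z`. -/
theorem card_le_mul_of_fibre {α : Type*} [Finite α] {Z : Subgroup G} {T : Set G} (φ : T → α)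
    (h : ∀ a b : T, φ a = φ b → (a : G)⁻¹ * b ∈ Z) :
    Nat.card T ≤ Nat.card α * Nat.card Z := by
  classical
  rw [← Nat.card_prod]
  let r : α → G := fun y => if hy : ∃ a, φ a = y then (Classical.choose hy : T) else 1
  have hr : ∀ a : T, (r (φ a))⁻¹ * (a : G) ∈ Z := fun a => by
    have hy : ∃ b, φ b = φ a := ⟨a, rfl⟩
    simp only [r, dif_pos hy]
    exact h _ _ (Classical.choose_spec hy)
  refine Nat.card_le_card_of_injective (fun a => (φ a, (⟨_, hr a⟩ : Z))) fun a b hab => ?_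
  simp only [Prod.mk.injEq, Subtype.mk.injEq] at hab
  rw [hab.1] at hab
  exact Subtype.ext (mul_left_cancel hab.2)

end

variable [Fact (Nat.Prime 3)] {V : Type*} [AddCommGroup V] [Module (ZMod 3) V] [Finite V] [Nontrivial V]
  {G : Type*} [Group G] [Finite G] {ρ : G →* (V ≃ₗ[ZMod 3] V)}

/-- An element acting trivially modulo the scalars on the group of order `32` lies in it. -/
theorem mem_of_induces_trivial (hρ : Function.Injective ρ) (S : Subgroup G) (hS : Nat.card S = 32)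
    (hsc : Nat.card (scal ρ) = 2) (hle : scal ρ ≤ S)
    (hcomm : ∀ x ∈ S, ∀ y ∈ S, ⁅x, y⁆ ∈ scal ρ)
    (hC : ∀ e : G, (∀ x ∈ S, e * x = x * e) → e ∈ scal ρ) {n : G}
    (hn : ∀ s ∈ S, ⁅n, s⁆ ∈ scal ρ) : n ∈ S := by
  classical
  set Z := scal ρ with hZ
  set T : Set G := {m | ∀ s ∈ S, ⁅m, s⁆ ∈ Z} with hT
  have hST : (S : Set G) ⊆ T := fun m hm s hs => hcomm m hm s hs
  choose c hc using fun z : Z => z.2
  let ι : Z →* ZMod 3 :=
    { toFun := c
      map_one' := (algebraMap (ZMod 3) (Module.End (ZMod 3) V)).injective (by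
        rw [← hc, Subgroup.coe_one, rho_one, map_one])
      map_mul' := fun a b => (algebraMap (ZMod 3) (Module.End (ZMod 3) V)).injective (by
        rw [← hc, Subgroup.coe_mul, rho_mul, hc, hc, map_mul]) }
  have hι : Function.Injective ι := fun a b hab => Subtype.ext (eq_of_rho_eq hρ (by
    rw [hc a, hc b, show c a = c b from hab]))
  haveI : (Z.subgroupOf S).Normal :=
    ⟨fun z hz x => by
      rw [Subgroup.mem_subgroupOf] at hz ⊢
      rw [Subgroup.coe_mul, Subgroup.coe_mul, scal_comm hρ hz (x : G), mul_assoc, Subgroup.coe_inv,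
        mul_inv_cancel, mul_one]
      exact hz⟩
  let ψ : T → S → ZMod 3 := fun m s => ι ⟨⁅(m : G), (s : G)⁆, m.2 s s.2⟩
  have hψ : ∀ (m : T) (s t : S), ψ m (s * t) = ψ m s * ψ m t := fun m s t => by
    show ι _ = ι _ * ι _
    rw [← map_mul]
    refine congrArg ι (Subtype.ext ?_)
    show ⁅(m : G), (s : G) * t⁆ = ⁅(m : G), (s : G)⁆ * ⁅(m : G), (t : G)⁆
    have h1 := scal_comm hρ (m.2 t t.2) (s : G)
    calc ⁅(m : G), (s : G) * t⁆ = ⁅(m : G), (s : G)⁆ * ((s : G) * ⁅(m : G), (t : G)⁆) * (s : G)⁻¹ := by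
          simp only [commutatorElement_def]; group
      _ = ⁅(m : G), (s : G)⁆ * (⁅(m : G), (t : G)⁆ * (s : G)) * (s : G)⁻¹ := by rw [h1]
      _ = ⁅(m : G), (s : G)⁆ * ⁅(m : G), (t : G)⁆ := by group
  have hψ1 : ∀ (m : T) (z : S), (z : G) ∈ Z → ψ m z = 1 := fun m z hz => by
    show ι _ = 1
    rw [← map_one ι]
    exact congrArg ι (Subtype.ext (commutatorElement_eq_one_iff_mul_comm.2 (scal_comm hρ hz (m : G))))
  let φ : T → ((S ⧸ Z.subgroupOf S) →* ZMod 3) := fun m =>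
    QuotientGroup.lift _ { toFun := ψ m, map_one' := hψ1 m 1 Z.one_mem, map_mul' := hψ m }
      fun z hz => MonoidHom.mem_ker.2 (hψ1 m z (Subgroup.mem_subgroupOf.1 hz))
  haveI : Finite ((S ⧸ Z.subgroupOf S) →* ZMod 3) :=
    Finite.of_injective (fun f => (f : _ → ZMod 3)) DFunLike.coe_injective
  have hfib : ∀ a b : T, φ a = φ b → (a : G)⁻¹ * b ∈ Z := by
    intro a b hab
    refine hC _ fun x hx => ?_
    have h1 := DFunLike.congr_fun hab (QuotientGroup.mk ⟨x, hx⟩)
    have h2 : ⁅(a : G), x⁆ = ⁅(b : G), x⁆ := congrArg Subtype.val (hι h1)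
    simp only [commutatorElement_def] at h2
    have h3 : (a : G) * x * (a : G)⁻¹ = (b : G) * x * (b : G)⁻¹ := mul_right_cancel h2
    calc (a : G)⁻¹ * b * x = (a : G)⁻¹ * ((b : G) * x * (b : G)⁻¹) * b := by group
      _ = (a : G)⁻¹ * ((a : G) * x * (a : G)⁻¹) * b := by rw [h3]
      _ = x * ((a : G)⁻¹ * b) := by group
  have h16 : Nat.card (S ⧸ Z.subgroupOf S) = 16 := by
    have h1 := Subgroup.card_eq_card_quotient_mul_card_subgroup (Z.subgroupOf S)
    rw [hS, Nat.card_congr (Subgroup.subgroupOfEquivOfLe hle).toEquiv, hsc] at h1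
    omega
  have hcard : Nat.card T ≤ 32 := (card_le_mul_of_fibre φ hfib).trans (by
    have := card_monoidHom_le (S ⧸ Z.subgroupOf S) (ZMod 3)
    rw [h16] at this
    rw [hsc]
    omega)
  have heq : (S : Set G) = T := Set.eq_of_subset_of_ncard_le hST (by
    rw [← Nat.card_coe_set_eq, ← Nat.card_coe_set_eq]
    exact hcard.trans hS.ge) (Set.toFinite _)
  exact (Set.ext_iff.1 heq n).2 hn

/-- A `2`-group normalising the group of order `32` and normalised by `g` lies in it. -/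
theorem le_of_normalises (hρ : Function.Injective ρ) (S : Subgroup G) (hS : Nat.card S = 32)
    (hsc : Nat.card (scal ρ) = 2) (hle : scal ρ ≤ S)
    (hcomm : ∀ x ∈ S, ∀ y ∈ S, ⁅x, y⁆ ∈ scal ρ)
    (hC : ∀ e : G, (∀ x ∈ S, e * x = x * e) → e ∈ scal ρ) {g : G} (hgo : orderOf g = 5)
    (hgS : ∀ x ∈ S, g * x * g⁻¹ ∈ S) (hgfix : ∀ x ∈ S, g * x = x * g → x ∈ scal ρ)
    (N : Subgroup G) (hN : IsPGroup 2 N) (hgN : ∀ x ∈ N, g * x * g⁻¹ ∈ N)
    (hnorm : ∀ m ∈ N, ∀ s ∈ S, m * s * m⁻¹ ∈ S) : N ≤ S := by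
  classical
  haveI : Fact (Nat.Prime 2) := ⟨Nat.prime_two⟩
  set Z := scal ρ with hZ
  haveI := scal_normal (ρ := ρ) hρ
  have hN' : N ≤ Subgroup.normalizer (S : Set G) := fun m hm => by
    rw [Subgroup.mem_normalizer_iff]
    refine fun s => ⟨fun hs => hnorm m hm s hs, fun hs => ?_⟩
    simpa [mul_assoc] using hnorm m⁻¹ (N.inv_mem hm) _ hs
  have hS2 : IsPGroup 2 S := IsPGroup.of_card (n := 5) (by rw [hS]; norm_num)
  have hM : IsPGroup 2 ↥(N ⊔ S) := hN.to_sup_of_normal_right' hS2 hN'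
  have hMn : ∀ m ∈ N ⊔ S, ∀ s ∈ S, m * s * m⁻¹ ∈ S := fun m hm s hs =>
    (Subgroup.mem_normalizer_iff.1 (sup_le hN' Subgroup.le_normalizer hm) s).1 hs
  have hne : ∃ s ∈ S, s ∉ Z := by
    by_contra hc
    push Not at hc
    have := Subgroup.card_le_of_le (show S ≤ Z from hc)
    omega
  obtain ⟨s, hs, hsZ, hsN⟩ := exists_mem_not_mem hM le_sup_right hMn hne
  let F : Subgroup G :=
    { carrier := {x | x ∈ S ∧ ∀ m ∈ N, ⁅m, x⁆ ∈ Z}
      one_mem' := ⟨S.one_mem, fun m _ => by rw [commutatorElement_one_right]; exact Z.one_mem⟩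
      mul_mem' := fun {a b} ha hb => ⟨S.mul_mem ha.1 hb.1, fun m hm => by
        rw [show ⁅m, a * b⁆ = ⁅m, a⁆ * (a * ⁅m, b⁆ * a⁻¹) by
          simp only [commutatorElement_def]; group]
        exact Z.mul_mem (ha.2 m hm) ((inferInstance : Z.Normal).conj_mem _ (hb.2 m hm) a)⟩
      inv_mem' := fun {a} ha => ⟨S.inv_mem ha.1, fun m hm => by
        rw [show ⁅m, a⁻¹⁆ = a⁻¹ * ⁅m, a⁆⁻¹ * a⁻¹⁻¹ by simp only [commutatorElement_def]; group]
        exact (inferInstance : Z.Normal).conj_mem _ (Z.inv_mem (ha.2 m hm)) a⁻¹⟩ }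
  have hFS : F ≤ S := fun x hx => hx.1
  have hZF : Z ≤ F := fun z hz => ⟨hle hz, fun m _ => by
    rw [commutatorElement_eq_one_iff_mul_comm.2 (scal_comm hρ hz m)]
    exact Z.one_mem⟩
  have hsF : s ∈ F := ⟨hs, fun m hm => by
    rw [← commutatorElement_inv]
    exact Z.inv_mem (hsN m (Subgroup.mem_sup_left hm))⟩
  have hNg : ∀ m ∈ N, g⁻¹ * m * g ∈ N := by
    intro m hm
    have hpow : ∀ k : ℕ, ∀ x ∈ N, g ^ k * x * (g ^ k)⁻¹ ∈ N := by
      intro k
      induction k with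
      | zero => intro x hx; simpa using hx
      | succ k ih =>
        intro x hx
        rw [pow_succ', mul_inv_rev,
          show g * g ^ k * x * ((g ^ k)⁻¹ * g⁻¹) = g * (g ^ k * x * (g ^ k)⁻¹) * g⁻¹ by group]
        exact hgN _ (ih x hx)
    have h4 : g ^ 4 = g⁻¹ := eq_inv_of_mul_eq_one_left (by
      rw [← pow_succ, show (4 + 1) = orderOf g by rw [hgo], pow_orderOf_eq_one])
    have := hpow 4 m hm
    rwa [h4, inv_inv] at this
  have hgF : ∀ x ∈ F, g * x * g⁻¹ ∈ F := fun x hx => ⟨hgS x hx.1, fun m hm => by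
    rw [show ⁅m, g * x * g⁻¹⁆ = g * ⁅g⁻¹ * m * g, x⁆ * g⁻¹ by
      simp only [commutatorElement_def]; group]
    exact (inferInstance : Z.Normal).conj_mem _ (hx.2 _ (hNg m hm)) g⟩
  have hmod : Nat.card F ≡ Nat.card Z [MOD 5] := card_modEq_fixed hgo F Z hgF fun x =>
    ⟨fun hx => ⟨hZF hx, scal_comm hρ hx g⟩, fun hx => hgfix x (hFS hx.1) hx.2⟩
  have hlt : Nat.card Z < Nat.card F := by
    refine lt_of_le_of_ne (Subgroup.card_le_of_le hZF) fun he => hsZ ?_
    rw [Subgroup.eq_of_le_of_card_ge hZF he.ge]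
    exact hsF
  have hFeq : F = S := by
    refine Subgroup.eq_of_le_of_card_ge hFS ?_
    obtain ⟨k, hk, hk'⟩ := (Nat.dvd_prime_pow Nat.prime_two).1
      (show Nat.card F ∣ 2 ^ 5 from (Subgroup.card_dvd_of_le hFS).trans (by rw [hS]; norm_num))
    rw [hk', hsc] at hlt hmod
    rw [hS, hk']
    interval_cases k <;> simp [Nat.ModEq] at hlt hmod ⊢
  intro m hm
  refine mem_of_induces_trivial hρ S hS hsc hle hcomm hC fun x hx => ?_
  rw [← hFeq] at hx
  exact hx.2 m hm

end Cfsg.Agent.H45.CoprimeTrans
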